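import Cfsg.Agent.EqLemmas
import Cfsg.Agent.Lib.Char.Induced
import Cfsg.Agent.Lib.Char.Virtual

/-!
Functions induced from `⟨t⟩ × U` that vanish on the odd part.

* `twInd` : the induced function of `(λ⁺ - λ⁻) × φ`, scaled
* `twInd_inner` : reciprocity
* `twInd_apply` : the values on the section of `t`
* `twInd_isGen` : it is a generalised character for linear `φ`
-/

set_option autoImplicit false
set_option linter.unusedSectionVars false

namespace Cfsg.Agent.ReeInverted

open Subgroup
open scoped ComplexConjugate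

variable {G : Type*} [Group G]

/-- `|U|⁻¹ ∑ₓ φ (t · x⁻¹ g x)`. -/
noncomputable def twInd [Fintype G] (t : G) (U : Subgroup G) (φ : U → ℂ) : G → ℂ :=
  fun g => (Nat.card U : ℂ)⁻¹ * ∑ x : G, extendByZero U φ (t * (x⁻¹ * g * x))

theorem twInd_isClassFunction [Fintype G] (t : G) (U : Subgroup G) (φ : U → ℂ) :
    IsClassFunction G (twInd t U φ) := by
  intro g y
  unfold twInd
  congr 1
  refine Fintype.sum_equiv (Equiv.mulLeft y⁻¹) _ _ fun x => congrArg _ ?_
  simp [mul_assoc]

theorem twInd_inner [Fintype G] {t : G} (ht : t * t = 1) (U : Subgroup G) [Fintype U] (φ : U → ℂ)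
    {χ : G → ℂ} (hχ : IsClassFunction G χ) :
    classInner (twInd t U φ) χ = (Nat.card U : ℂ)⁻¹ * ∑ u : U, φ u * conj (χ (t * u)) := by
  have key : ∀ x : G, ∑ g : G, extendByZero U φ (t * (x⁻¹ * g * x)) * conj (χ g) =
      ∑ u : U, φ u * conj (χ (t * u)) := by
    intro x
    rw [← Char.sum_extendByZero_mul U φ fun g => conj (χ (t * g))]
    refine Fintype.sum_equiv ((MulAut.conj x⁻¹).toEquiv.trans (Equiv.mulLeft t)) _ _ fun g => ?_
    have e := hχ g x⁻¹
    simp only [inv_inv] at e
    simp [← mul_assoc, ht, e]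
  have L : ∑ g : G, twInd t U φ g * conj (χ g) =
      (Nat.card U : ℂ)⁻¹ * ∑ x : G, ∑ g : G, extendByZero U φ (t * (x⁻¹ * g * x)) * conj (χ g) := by
    simp only [twInd, Finset.mul_sum, Finset.sum_mul, mul_assoc]
    exact Finset.sum_comm
  rw [classInner, L, Finset.sum_congr rfl fun x _ => key x, Finset.sum_const,
    Finset.card_univ, nsmul_eq_mul, ← Nat.card_eq_fintype_card]
  have : (Nat.card G : ℂ) ≠ 0 := Nat.cast_ne_zero.2 Nat.card_pos.ne'
  field_simp

/-- The subgroup `⟨t⟩ × U`. -/
def twExt (t : G) (U : Subgroup G) (ht : t * t = 1) (hc : ∀ u ∈ U, Commute t u) : Subgroup G where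
  carrier := {g | g ∈ U ∨ t * g ∈ U}
  one_mem' := Or.inl (one_mem _)
  mul_mem' := by
    intro a b ha hb
    rcases ha with ha | ha <;> rcases hb with hb | hb
    · exact Or.inl (mul_mem ha hb)
    · exact Or.inr (by rw [← mul_assoc, (hc a ha).eq, mul_assoc]; exact mul_mem ha hb)
    · exact Or.inr (by rw [← mul_assoc]; exact mul_mem ha hb)
    · refine Or.inl ?_
      have h2 := mul_mem ha hb
      have e : t * a * (t * b) = t * t * (a * b) := by
        rw [show t * a * (t * b) = t * (a * t) * b by group]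
        have h3 : a * t = t * a := by
          have h4 := (hc _ ha).eq
          rw [← mul_assoc, ht, one_mul] at h4
          calc a * t = t * a * t * t := h4 ▸ rfl
            _ = t * a := by rw [mul_assoc, ht, mul_one]
        rw [h3]; group
      rwa [e, ht, one_mul] at h2
  inv_mem' := by
    intro a ha
    rcases ha with ha | ha
    · exact Or.inl (inv_mem ha)
    · refine Or.inr ?_
      have h1 := inv_mem ha
      have h4 := (hc _ h1).eq
      rw [mul_inv_rev, inv_eq_of_mul_eq_one_right ht] at h1 h4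
      rw [mul_assoc a⁻¹, ht, mul_one] at h4
      have h5 : t * a⁻¹ = a⁻¹ * t := by
        calc t * a⁻¹ = t * (t * (a⁻¹ * t)) := by rw [h4]
          _ = a⁻¹ * t := by rw [← mul_assoc, ht, one_mul]
      rwa [h5]

theorem twInd_isGen [Fintype G] {t : G} (ht : t * t = 1) {U : Subgroup G}
    (hc : ∀ u ∈ U, Commute t u) (htU : t ∉ U) (ψ : U →* ℂ) :
    IsGeneralizedCharacter G (twInd t U ψ) := by
  classical
  set H := twExt t U ht hc with hH
  have hmem : ∀ {g : G}, g ∈ H → g ∉ U → t * g ∈ U := fun {g} hg hn => hg.resolve_left hn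
  have hex : ∀ {g : G}, g ∈ U → t * g ∉ U := fun {g} hg h2 => htU (by
    have := mul_mem h2 (inv_mem hg)
    rwa [mul_inv_cancel_right] at this)
  let f : ℂ → H → ℂ := fun ε h =>
    if (h : G) ∈ U then extendByZero U ψ h else ε * extendByZero U ψ (t * h)
  have hE : ∀ {g g' : G}, g ∈ U → g' ∈ U →
      extendByZero U ψ (g * g') = extendByZero U ψ g * extendByZero U ψ g' := by
    intro g g' hg hg'
    rw [Char.extendByZero_mem U _ hg, Char.extendByZero_mem U _ hg',
      Char.extendByZero_mem U _ (mul_mem hg hg'), ← map_mul]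
    rfl
  have hE1 : extendByZero U ψ 1 = 1 := by rw [Char.extendByZero_mem U _ (one_mem U)]; exact map_one ψ
  have htc : ∀ {g : G}, g ∈ H → t * g = g * t := by
    intro g hg
    rcases hg with hg | hg
    · exact hc g hg
    · have h4 := (hc _ hg).eq
      rw [← mul_assoc, ht, one_mul] at h4
      calc t * g = t * g * t * t := by rw [mul_assoc (t * g), ht, mul_one]
        _ = g * t := by rw [← h4]
  have hlin : ∀ ε : ℂ, ε * ε = 1 → IsCharacter H (f ε) := by
    intro ε hε
    let l : H →* ℂ :=
      { toFun := f ε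
        map_one' := by simp only [f, OneMemClass.coe_one, if_pos (one_mem U), hE1]
        map_mul' := fun a b => by
          simp only [f, coe_mul]
          by_cases ha : (a : G) ∈ U <;> by_cases hb : (b : G) ∈ U
          · rw [if_pos (mul_mem ha hb), if_pos ha, if_pos hb, hE ha hb]
          · have hab : (a : G) * b ∉ U := fun h2 => hb ((mul_mem_cancel_left ha).1 h2)
            rw [if_neg hab, if_pos ha, if_neg hb, ← mul_assoc, htc a.2, mul_assoc,
              hE ha (hmem b.2 hb)]
            ring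
          · have hab : (a : G) * b ∉ U := fun h2 => ha ((mul_mem_cancel_right hb).1 h2)
            rw [if_neg hab, if_neg ha, if_pos hb, ← mul_assoc, hE (hmem a.2 ha) hb]
            ring
          · have e : t * (a : G) * (t * b) = a * b := by
              rw [htc a.2, mul_assoc, ← mul_assoc t, ht, one_mul]
            have hab : (a : G) * b ∈ U := e ▸ mul_mem (hmem a.2 ha) (hmem b.2 hb)
            rw [if_pos hab, if_neg ha, if_neg hb, ← e, hE (hmem a.2 ha) (hmem b.2 hb)]
            linear_combination (-(extendByZero U ψ (t * a) * extendByZero U ψ (t * b))) * hε }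
    exact Char.isCharacter_of_hom l
  have hgen : IsGeneralizedCharacter H (f 1 - f (-1)) :=
    ⟨f 1, f (-1), hlin 1 (one_mul 1), hlin (-1) (by ring), rfl⟩
  have hcard : Nat.card H = 2 * Nat.card U := by
    let b : Bool × U → H := fun p => ⟨(if p.1 then t else 1) * (p.2 : G), by
      cases p.1
      · refine Or.inl ?_
        show (1 : G) * (p.2 : G) ∈ U
        rw [one_mul]; exact p.2.2
      · refine Or.inr ?_
        show t * (t * (p.2 : G)) ∈ U
        rw [← mul_assoc, ht, one_mul]; exact p.2.2⟩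
    have hb : Function.Bijective b := by
      constructor
      · rintro ⟨i, u⟩ ⟨j, v⟩ e
        have e' : (if i then t else 1) * (u : G) = (if j then t else 1) * (v : G) :=
          congrArg Subtype.val e
        cases i <;> cases j <;> simp only [Bool.false_eq_true, if_false, if_true, one_mul] at e'
        · rw [Subtype.ext e']
        · exact absurd (e' ▸ u.2) (hex v.2)
        · exact absurd (e'.symm ▸ v.2) (hex u.2)
        · rw [Subtype.ext (mul_left_cancel e')]
      · rintro ⟨g, hg⟩
        rcases hg with h1 | h1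
        · exact ⟨⟨false, ⟨g, h1⟩⟩, Subtype.ext (by simp [b])⟩
        · exact ⟨⟨true, ⟨t * g, h1⟩⟩, Subtype.ext (by simp [b, ← mul_assoc, ht])⟩
    rw [← Nat.card_congr (Equiv.ofBijective b hb), Nat.card_prod, Nat.card_eq_fintype_card (α := Bool),
      Fintype.card_bool]
  have hval : ∀ g : G, extendByZero H (f 1 - f (-1)) g = 2 * extendByZero U ψ (t * g) := by
    intro g
    by_cases hg : g ∈ H
    · rw [Char.extendByZero_mem H _ hg]
      show f 1 ⟨g, hg⟩ - f (-1) ⟨g, hg⟩ = _
      by_cases hgU : g ∈ U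
      · simp only [f, if_pos hgU, sub_self, Char.extendByZero_not_mem U _ (hex hgU), mul_zero]
      · simp only [f, if_neg hgU]; ring
    · rw [Char.extendByZero_not_mem H _ hg,
        Char.extendByZero_not_mem U _ (fun h2 => hg (Or.inr h2)), mul_zero]
  have heq : twInd t U ψ = indFun H (f 1 - f (-1)) := by
    funext g
    simp only [twInd, indFun, hval, ← Finset.mul_sum, hcard]
    push_cast
    have : (Nat.card U : ℂ) ≠ 0 := Nat.cast_ne_zero.2 Nat.card_pos.ne'
    field_simp
  rw [heq]
  exact Char.IsGeneralizedCharacter.indFun hgen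

theorem twInd_eq_zero [Fintype G] {t : G} (ht : t * t = 1) (ht1 : t ≠ 1) {U : Subgroup G}
    (hc : ∀ u ∈ U, Commute t u) (φ : U → ℂ) {N : ℕ} (hN : Odd N) (hU : ∀ u ∈ U, u ^ N = 1)
    {g : G} (hg : g ^ N = 1) : twInd t U φ g = 0 := by
  simp only [twInd]
  rw [Finset.sum_eq_zero fun x _ => ?_, mul_zero]
  apply Char.extendByZero_not_mem
  intro hu
  obtain ⟨j, rfl⟩ := hN
  have h1 : (x⁻¹ * g * x) ^ (2 * j + 1) = 1 := by
    have := conj_pow (a := x⁻¹) (b := g) (i := 2 * j + 1)
    rw [inv_inv] at this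
    rw [this, hg, mul_one, inv_mul_cancel]
  have hct : Commute t (x⁻¹ * g * x) := by
    have h2 := (Commute.refl t).mul_right (hc _ hu)
    rwa [← mul_assoc, ht, one_mul] at h2
  have h3 := hU _ hu
  rw [hct.mul_pow, h1, mul_one, pow_succ, pow_mul, pow_two, ht, one_pow, one_mul] at h3
  exact ht1 h3

theorem twInd_apply [Fintype G] {t : G} (ht : t * t = 1) {U : Subgroup G}
    (hc : ∀ u ∈ U, Commute t u) (φ : U → ℂ) {N : ℕ} (hN : Odd N) (hU : ∀ u ∈ U, u ^ N = 1)
    [Fintype (centralizer ({t} : Set G))] {z : G} (hzt : Commute t z) (hz : z ^ N = 1) :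
    twInd t U φ (t * z) = (Nat.card U : ℂ)⁻¹ *
      ∑ x : centralizer ({t} : Set G), extendByZero U φ ((x : G)⁻¹ * z * x) := by
  classical
  have hN' : t ^ N = t := by
    obtain ⟨j, rfl⟩ := hN
    rw [pow_succ, pow_mul, pow_two, ht, one_pow, one_mul]
  simp only [twInd]
  congr 1
  rw [← Finset.sum_subset (Finset.subset_univ
    (Finset.univ.map ⟨_, Subtype.val_injective (p := (· ∈ centralizer ({t} : Set G)))⟩))]
  · rw [Finset.sum_map]
    refine Finset.sum_congr rfl fun x _ => congrArg _ ?_
    have hx : (x : G) * t = t * x := mem_centralizer_singleton_iff.1 x.2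
    have h1 : t * (x : G)⁻¹ = (x : G)⁻¹ * t :=
      ((show Commute (x : G) t from hx).inv_left).eq.symm
    show t * ((x : G)⁻¹ * (t * z) * x) = (x : G)⁻¹ * z * x
    rw [← mul_assoc, ← mul_assoc, h1, mul_assoc _ t, ← mul_assoc t, ht, one_mul]
  · intro x _ hx
    apply Char.extendByZero_not_mem
    intro hu
    apply hx
    simp only [Finset.mem_map, Finset.mem_univ, true_and, Function.Embedding.coeFn_mk]
    refine ⟨⟨x, mem_centralizer_singleton_iff.2 ?_⟩, rfl⟩
    have hct : Commute t (t * (x⁻¹ * (t * z) * x)) := hc _ hu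
    have h2 : (t * (t * (x⁻¹ * (t * z) * x))) ^ N = t * 1 := by rw [hct.mul_pow, hN', hU _ hu]
    have h3 : (x⁻¹ * (t * z) * x) ^ N = x⁻¹ * t * x := by
      have := conj_pow (a := x⁻¹) (b := t * z) (i := N)
      rw [inv_inv] at this
      rw [this, hzt.mul_pow, hN', hz, mul_one]
    rw [← mul_assoc t t, ht, one_mul, h3, mul_one] at h2
    calc x * t = x * (x⁻¹ * t * x) := by rw [h2]
      _ = t * x := by group

/-- A non-trivial linear character sums to zero. -/
theorem sum_lin_eq_zero {H : Type*} [Group H] [Fintype H] (l : H →* ℂ) {x : H} (hx : l x ≠ 1) :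
    ∑ h : H, l h = 0 := by
  have h1 : l x * ∑ h : H, l h = ∑ h : H, l h := by
    rw [Finset.mul_sum]
    exact Fintype.sum_equiv (Equiv.mulLeft x) _ _ fun h => (map_mul l x h).symm
  have h2 : (l x - 1) * ∑ h : H, l h = 0 := by rw [sub_mul, h1, one_mul, sub_self]
  exact (mul_eq_zero.1 h2).resolve_left (sub_ne_zero.2 hx)

theorem conj_lin {H : Type*} [Group H] [Finite H] (l : H →* ℂ) (x : H) : conj (l x) = l x⁻¹ :=
  (Char.IsCharacter.apply_inv (Char.isCharacter_of_hom l) x).symm

end Cfsg.Agent.ReeInverted
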