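import Cfsg.Agent.EqLemmas
import Cfsg.Agent.Lib.PSL2.Involutions
import Cfsg.Agent.Lib.PSL2.Centralizers
import Cfsg.Agent.Lib.PSL2.Torus
import Cfsg.Agent.Lib.PSL2.Transvections
import Cfsg.Agent.Lib.PSL2.Elements
import Mathlib.NumberTheory.LegendreSymbol.QuadraticChar.Basic

/-!
The facts about `PSL₂(q)`, `q = 3^(2n+1)`, used for groups of Ree type.
-/

set_option autoImplicit false
set_option linter.unusedSectionVars false

namespace Cfsg.Agent.ReeInverted

open Subgroup

/-- What is used about `PSL₂(q)`. -/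
structure KFacts (K : Type*) [Group K] (q : ℕ) : Prop where
  card : 2 * Nat.card K = q * ((q + 1) * (q - 1))
  torus : ∃ y r : K, orderOf y = (q + 1) / 2 ∧ r * r = 1 ∧ r * y * r⁻¹ = y⁻¹ ∧ r ∉ zpowers y ∧
    Nat.card (centralizer ({y ^ ((q + 1) / 4)} : Set K)) = q + 1 ∧
    ∀ x ∈ zpowers y, 3 ≤ orderOf x → ∀ z : K, Commute z x → z ∈ zpowers y
  invol : ∀ x z : K, orderOf x = 2 → orderOf z = 2 → IsConj x z
  three : ∀ x : K, orderOf x = 3 → Nat.card (centralizer ({x} : Set K)) = q ∧
    ∀ a b : K, Commute a x → Commute b x → a * b = b * a ∧ a ^ 3 = 1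
  exponent : ∀ (x : K) (k : ℕ), orderOf x = 3 ^ k → x ^ 3 = 1
  root : ∃ u : K, orderOf u = 3 ∧ ∀ z : K, Commute z u → z ≠ 1 → IsConj u z ∨ IsConj u z⁻¹

variable {K L : Type*} [Group K] [Group L] {q : ℕ}

theorem KFacts.congr (h : KFacts L q) (e : K ≃* L) : KFacts K q := by
  have hcent : ∀ x : K, Nat.card (centralizer ({x} : Set K)) =
      Nat.card (centralizer ({e x} : Set L)) := fun x =>
    Nat.card_congr (e.toEquiv.subtypeEquiv fun z => by
      rw [mem_centralizer_singleton_iff, mem_centralizer_singleton_iff, MulEquiv.toEquiv_eq_coe,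
        EquivLike.coe_coe, ← map_mul, ← map_mul, e.injective.eq_iff])
  have hz : ∀ x y : K, x ∈ zpowers y ↔ e x ∈ zpowers (e y) := fun x y => by
    simp only [mem_zpowers_iff, ← map_zpow, e.injective.eq_iff]
  have hcomm : ∀ {a b : K}, Commute a b → Commute (e a) (e b) := fun {a b} hc => hc.map e
  have hconj : ∀ {a b : K}, IsConj (e a) (e b) → IsConj a b := fun {a b} hc => by
    have := e.symm.toMonoidHom.map_isConj hc
    simpa using this
  refine ⟨by rw [Nat.card_congr e.toEquiv]; exact h.card, ?_,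
    fun x z hx hz' => hconj (h.invol _ _ (by rwa [MulEquiv.orderOf_eq]) (by rwa [MulEquiv.orderOf_eq])),
    fun x hx => ?_, fun x k hk => e.injective ?_, ?_⟩
  · obtain ⟨y, r, hy, hr, hry, hrn, hc, hT⟩ := h.torus
    refine ⟨e.symm y, e.symm r, by rwa [MulEquiv.orderOf_eq], by rw [← map_mul, hr, map_one],
      by rw [← map_inv, ← map_mul, ← map_mul, hry, map_inv], fun hm => hrn ?_, ?_, fun x hx ho z hzx => ?_⟩
    · have := (hz _ _).1 hm
      simpa using this
    · rw [hcent, map_pow, e.apply_symm_apply]; exact hc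
    · rw [hz, e.apply_symm_apply] at hx ⊢
      exact hT _ hx (by rwa [MulEquiv.orderOf_eq]) _ (hcomm hzx)
  · obtain ⟨h1, h2⟩ := h.three (e x) (by rwa [MulEquiv.orderOf_eq])
    refine ⟨(hcent x).trans h1, fun a b ha hb => ?_⟩
    obtain ⟨h3, h4⟩ := h2 _ _ (hcomm ha) (hcomm hb)
    exact ⟨e.injective (by rw [map_mul, map_mul, h3]), e.injective (by rw [map_pow, h4, map_one])⟩
  · rw [map_pow, map_one]
    exact h.exponent _ k (by rwa [MulEquiv.orderOf_eq])
  · obtain ⟨u, hu, hroot⟩ := h.root
    refine ⟨e.symm u, by rwa [MulEquiv.orderOf_eq], fun z hzu hz1 => ?_⟩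
    refine (hroot (e z) (by simpa using hcomm hzu) ((MulEquiv.map_ne_one_iff e).2 hz1)).imp
      (fun hc => hconj (by simpa using hc)) fun hc => hconj (by simpa using hc)

theorem three_pow_mod_eight (n : ℕ) : 3 ^ (2 * n + 1) % 8 = 3 := by
  rw [pow_succ, pow_mul, Nat.mul_mod, Nat.pow_mod]; norm_num

open PSL2 in
/-- The facts hold. -/
theorem kFacts {F : Type} [Field F] [Fintype F] {n : ℕ}
    (hF : Fintype.card F = 3 ^ (2 * n + 1)) (hn : 1 ≤ n) : KFacts (PSL2 F) (3 ^ (2 * n + 1)) := by
  classical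
  have : Fact (Nat.Prime 3) := ⟨Nat.prime_three⟩
  have : CharP F 3 := charP_of_card_eq_prime_pow hF
  set q := 3 ^ (2 * n + 1) with hq
  have hFq : Nat.card F = q := by rw [Nat.card_eq_fintype_card, hF]
  have h8 : q % 8 = 3 := three_pow_mod_eight n
  have h27 : 27 ≤ q := le_trans (by norm_num : 27 ≤ 3 ^ 3) (Nat.pow_le_pow_right (by norm_num) (by omega))
  have hodd : Odd (Nat.card F) := Nat.odd_iff.2 (by omega)
  have hd : Nat.gcd 2 (Nat.card F - 1) = 2 := Nat.gcd_eq_left (by omega)
  have h3q : 3 ∣ q := dvd_pow_self 3 (by omega)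
  refine ⟨?_, ?_, fun x z hx hz => involution_isConj hodd hx hz, fun x hx => ?_, fun x k hk => ?_, ?_⟩
  · rw [← hFq, ← card_psl_mul (F := F), hd]
  · obtain ⟨y, hy⟩ := exists_psl_orderOf_torus (F := F) (m := (q + 1) / 2)
      (Or.inr (by rw [hd, hFq, Nat.div_mul_cancel (by omega : 2 ∣ q + 1)]))
    have hy3 : ¬ orderOf y ∣ 3 := fun hdv => by
      have := Nat.le_of_dvd (by norm_num) hdv
      omega
    obtain ⟨r, hr2, hr⟩ := exists_inverting (p := 3) hy3
    have hrn : r ∉ zpowers y := by
      rintro hm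
      obtain ⟨i, rfl⟩ := mem_zpowers_iff.1 hm
      have h1 : y = y⁻¹ := by
        have hc : y ^ i * y * (y ^ i)⁻¹ = y := by
          rw [((Commute.refl y).zpow_left i).eq, mul_inv_cancel_right]
        exact hc.symm.trans hr
      have : orderOf y ∣ 2 := orderOf_dvd_of_pow_eq_one (by
        rw [pow_two]; nth_rewrite 2 [h1]; rw [mul_inv_cancel])
      have := Nat.le_of_dvd two_pos this
      omega
    refine ⟨y, r, hy, hr2, hr, hrn, ?_, fun x hx ho z hz => ?_⟩
    · have ho : orderOf (y ^ ((q + 1) / 4)) = 2 := by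
        rw [orderOf_pow_of_dvd (by omega) (by rw [hy]; exact ⟨2, by omega⟩), hy,
          show (q + 1) / 2 = 2 * ((q + 1) / 4) by omega, Nat.mul_div_cancel _ (by omega)]
      exact ((card_centralizer_involution hodd ho).2 (by omega)).trans (by rw [hFq])
    · exact mem_zpowers_of_commute_torus (Or.inr (by rw [hy, hd, hFq])) hx ho hz
  · have hcard := card_centralizer_char 3 hx
    refine ⟨hcard.trans hFq, fun a b ha hb => ?_⟩
    obtain ⟨g, rfl⟩ := QuotientGroup.mk_surjective x
    obtain ⟨a', rfl⟩ := QuotientGroup.mk_surjective a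
    obtain ⟨b', rfl⟩ := QuotientGroup.mk_surjective b
    have hg : g ∉ center (SL2 F) := fun h => by
      rw [(QuotientGroup.eq_one_iff g).2 h, orderOf_one] at hx
      omega
    have hab : a' * b' = b' * a' := commute_of_commute hg (commute_lift ha.eq (by omega))
      (commute_lift hb.eq (by omega))
    refine ⟨by rw [← QuotientGroup.mk_mul, hab, QuotientGroup.mk_mul], ?_⟩
    have hdvd : orderOf (QuotientGroup.mk a' : PSL2 F) ∣ q := by
      rw [← hFq, ← hcard]
      exact Subgroup.orderOf_dvd_natCard _ (mem_centralizer_singleton_iff.2 ha.eq)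
    obtain ⟨k, -, hk⟩ := (Nat.dvd_prime_pow Nat.prime_three).1 hdvd
    rcases psl_orderOf_cases 3 (QuotientGroup.mk a' : PSL2 F) with h | h | h
    · rw [hd, hFq, hk] at h
      rcases k with _ | k
      · rw [pow_zero, orderOf_eq_one_iff] at hk; rw [hk, one_pow]
      · exfalso; have := (dvd_pow_self 3 k.succ_ne_zero).trans h; omega
    · rw [hd, hFq, hk] at h
      rcases k with _ | k
      · rw [pow_zero, orderOf_eq_one_iff] at hk; rw [hk, one_pow]
      · exfalso; have := (dvd_pow_self 3 k.succ_ne_zero).trans h; omega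
    · exact orderOf_dvd_iff_pow_eq_one.1 h
  · rcases psl_orderOf_cases 3 x with h | h | h
    · rw [hd, hFq, hk] at h
      rcases k with _ | k
      · rw [pow_zero, orderOf_eq_one_iff] at hk; rw [hk, one_pow]
      · exfalso; have := (dvd_pow_self 3 k.succ_ne_zero).trans h; omega
    · rw [hd, hFq, hk] at h
      rcases k with _ | k
      · rw [pow_zero, orderOf_eq_one_iff] at hk; rw [hk, one_pow]
      · exfalso; have := (dvd_pow_self 3 k.succ_ne_zero).trans h; omega
    · exact orderOf_dvd_iff_pow_eq_one.1 h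
  · set u : PSL2 F := QuotientGroup.mk (upT (1 : F)) with hu
    have hou : orderOf u = 3 := mk_upT_order (p := 3) one_ne_zero
    refine ⟨u, hou, fun z hz hz1 => ?_⟩
    -- the centraliser consists of the upper unitriangular elements
    have hmulT : ∀ b c : F, upT b * upT c = upT (b + c) := fun b c => by
      apply Subtype.ext
      rw [Matrix.SpecialLinearGroup.coe_mul]
      show !![1, b; 0, 1] * !![1, c; 0, 1] = !![1, b + c; 0, 1]
      rw [Matrix.mul_fin_two]
      simp [add_comm]
    let f : F → centralizer ({u} : Set (PSL2 F)) := fun b => ⟨QuotientGroup.mk (upT b), by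
      rw [mem_centralizer_singleton_iff, hu, ← QuotientGroup.mk_mul, ← QuotientGroup.mk_mul, hmulT,
        hmulT, add_comm]⟩
    have hfi : Function.Injective f := fun b c hbc => by
      by_contra hne
      have h1 : (QuotientGroup.mk (upT (b - c)) : PSL2 F) = 1 := by
        have hbc' : (QuotientGroup.mk (upT b) : PSL2 F) = QuotientGroup.mk (upT c) :=
          congrArg Subtype.val hbc
        rw [show b - c = b + -c by ring, ← hmulT, ← upT_inv, QuotientGroup.mk_mul,
          QuotientGroup.mk_inv, hbc', mul_inv_cancel]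
      have h2 := mk_upT_order (p := 3) (sub_ne_zero.2 hne)
      rw [h1, orderOf_one] at h2
      omega
    have hfb : Function.Bijective f := by
      rw [Fintype.bijective_iff_injective_and_card]
      refine ⟨hfi, ?_⟩
      rw [← Nat.card_eq_fintype_card, ← Nat.card_eq_fintype_card, card_centralizer_char 3 hou]
    obtain ⟨b, hb⟩ := hfb.2 ⟨z, mem_centralizer_singleton_iff.2 hz.eq⟩
    have hzb : z = QuotientGroup.mk (upT b) := (congrArg Subtype.val hb).symm
    have hb0 : b ≠ 0 := by
      rintro rfl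
      refine hz1 (hzb.trans ?_)
      rw [show upT (0 : F) = 1 from Subtype.ext (by simp [upT, Matrix.one_fin_two]), QuotientGroup.mk_one]
    have hconj : ∀ c : F, c ≠ 0 → IsConj u (QuotientGroup.mk (upT (c * c)) : PSL2 F) := fun c hc => by
      let D : SL2 F := ⟨!![c, 0; 0, c⁻¹], by rw [Matrix.det_fin_two_of]; field_simp; ring⟩
      refine isConj_iff.2 ⟨QuotientGroup.mk D, ?_⟩
      rw [hu, mul_inv_eq_iff_eq_mul, ← QuotientGroup.mk_mul, ← QuotientGroup.mk_mul]
      congr 1
      apply Subtype.ext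
      rw [Matrix.SpecialLinearGroup.coe_mul, Matrix.SpecialLinearGroup.coe_mul]
      show !![c, 0; 0, c⁻¹] * !![1, 1; 0, 1] = !![1, c * c; 0, 1] * !![c, 0; 0, c⁻¹]
      rw [Matrix.mul_fin_two, Matrix.mul_fin_two]
      simp [mul_assoc, hc]
    have hneg : ¬ IsSquare (-1 : F) := by
      rw [FiniteField.isSquare_neg_one_iff, hF]
      omega
    by_cases hsq : IsSquare b
    · obtain ⟨c, rfl⟩ := hsq
      exact Or.inl (hzb ▸ hconj c fun e => hb0 (by rw [e, mul_zero]))
    · obtain ⟨c, hc⟩ : IsSquare (-b) := by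
        rw [← neg_one_mul]
        rw [← quadraticChar_one_iff_isSquare (mul_ne_zero (neg_ne_zero.2 one_ne_zero) hb0), map_mul,
          quadraticChar_neg_one_iff_not_isSquare.2 hneg, quadraticChar_neg_one_iff_not_isSquare.2 hsq]
        norm_num
      refine Or.inr ?_
      rw [hzb, ← QuotientGroup.mk_inv, upT_inv, hc]
      exact hconj c fun e => hb0 (neg_eq_zero.1 (by rw [hc, e, mul_zero]))

end Cfsg.Agent.ReeInverted
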