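import Cfsg.Agent.EqLemmas
import Cfsg.Agent.Lib.ReeInverted.PSL
import Cfsg.Agent.Lib.GoldschmidtFree.Basic

/-!
The set-up: a simple group with an involution centraliser `⟨t⟩ × PSL₂(3^(2n+1))` of odd index in which no
non-trivial 3-element is inverted (the aim is a contradiction).
-/

set_option autoImplicit false
set_option linter.unusedSectionVars false

namespace Cfsg.Agent.ReeInverted

open Subgroup GoldschmidtFree

variable {G : Type*} [Group G]

/-- The hypotheses. -/
structure Setup (t : G) (K : Subgroup G) (q : ℕ) : Prop where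
  simple : IsSimpleGroup G
  ne_comm : ∃ a b : G, a * b ≠ b * a
  ht : orderOf t = 2
  odd_index : Odd (centralizer ({t} : Set G)).index
  prod : Cfsg.IsInternalDirectProduct (zpowers t) K (centralizer ({t} : Set G))
  facts : KFacts ↥K q
  mod_eight : q % 8 = 3
  le : 27 ≤ q
  three_power : ∃ m, q = 3 ^ m
  no : NoInverted G

/-- Torus data in `K`. -/
structure Tor (t : G) (K : Subgroup G) (q : ℕ) (y r : G) : Prop where
  base : Setup t K q
  y_mem : y ∈ K
  r_mem : r ∈ K
  order_y : orderOf y = (q + 1) / 2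
  r_sq : r * r = 1
  r_inv : r * y * r⁻¹ = y⁻¹
  r_not : r ∉ zpowers y
  card_cent : Nat.card {k : G // k ∈ K ∧ Commute k (y ^ ((q + 1) / 4))} = q + 1
  tor : ∀ x ∈ zpowers y, 3 ≤ orderOf x → ∀ z ∈ K, Commute z x → z ∈ zpowers y

namespace Setup

variable {t : G} {K : Subgroup G} {q : ℕ} (h : Setup t K q)
include h

theorem tt : t * t = 1 := by rw [← pow_two, ← h.ht, pow_orderOf_eq_one]

theorem inv_t : t⁻¹ = t := inv_eq_of_mul_eq_one_right h.tt

theorem ne_one : t ≠ 1 := fun e => by simpa [e] using h.ht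

theorem comm_t {k : G} (hk : k ∈ K) : Commute t k := h.prod.2.2.1 t (mem_zpowers t) k hk

theorem t_not_mem : t ∉ K := fun ht => h.ne_one
  ((Subgroup.eq_bot_iff_forall _).1 h.prod.2.2.2.1 t ⟨mem_zpowers t, ht⟩)

theorem k_le : K ≤ centralizer ({t} : Set G) := h.prod.2.1

theorem cases {g : G} (hg : Commute g t) : g ∈ K ∨ t * g ∈ K := by
  have hg' : g ∈ zpowers t ⊔ K := h.prod.2.2.2.2.symm ▸ mem_centralizer_singleton_iff.2 hg.eq
  have hn : zpowers t ≤ normalizer (K : Set G) := zpowers_le.2 (mem_normalizer_iff.2 fun x => by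
    refine ⟨fun hx => ?_, fun hx => ?_⟩
    · rwa [(h.comm_t hx).eq, mul_inv_cancel_right]
    · have h1 := (h.comm_t hx).eq
      rw [inv_mul_cancel_right] at h1
      have h2 : t * x * t⁻¹ = x := mul_left_cancel h1
      rwa [h2] at hx)
  rw [← SetLike.mem_coe, coe_mul_of_left_le_normalizer_right _ _ hn] at hg'
  obtain ⟨z, hz, k, hk, rfl⟩ := hg'
  obtain ⟨i, rfl⟩ := mem_zpowers_iff.1 hz
  have h2 : t ^ (2 : ℤ) = 1 := by rw [zpow_two, h.tt]
  rcases Int.even_or_odd' i with ⟨j, rfl | rfl⟩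
  · refine Or.inl ?_
    show t ^ (2 * j) * k ∈ K
    rw [zpow_mul, h2, one_zpow, one_mul]; exact hk
  · refine Or.inr ?_
    show t * (t ^ (2 * j + 1) * k) ∈ K
    rw [zpow_add, zpow_mul, h2, one_zpow, one_mul, zpow_one, ← mul_assoc, h.tt, one_mul]
    exact hk

/-- An element commuting with `t` and `k ∈ K` lies in `⟨t⟩ × C_K(k)`. -/
theorem cases_comm {g k : G} (hk : k ∈ K) (hg : Commute g t) (hgk : Commute g k) :
    (g ∈ K ∧ Commute g k) ∨ (t * g ∈ K ∧ Commute (t * g) k) :=
  (h.cases hg).imp (fun h1 => ⟨h1, hgk⟩) fun h1 => ⟨h1, (h.comm_t hk).mul_left hgk⟩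

theorem card_cent : Nat.card (centralizer ({t} : Set G)) = q * ((q + 1) * (q - 1)) := by
  rw [← h.facts.card]
  let f : Bool × ↥K → ↥(centralizer ({t} : Set G)) := fun p =>
    ⟨(if p.1 then t else 1) * (p.2 : G), mul_mem (by
      split
      · exact mem_centralizer_singleton_iff.2 rfl
      · exact one_mem _) (h.k_le p.2.2)⟩
  have hf : Function.Bijective f := by
    constructor
    · rintro ⟨b, k⟩ ⟨b', k'⟩ e
      have e' : (if b then t else 1) * (k : G) = (if b' then t else 1) * (k' : G) :=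
        congrArg Subtype.val e
      cases b <;> cases b' <;> simp only [Bool.false_eq_true, if_false, if_true, one_mul] at e'
      · rw [Subtype.ext e']
      · exact absurd (eq_mul_inv_of_mul_eq e'.symm ▸ mul_mem k.2 (inv_mem k'.2)) h.t_not_mem
      · exact absurd (eq_mul_inv_of_mul_eq e' ▸ mul_mem k'.2 (inv_mem k.2)) h.t_not_mem
      · rw [Subtype.ext (mul_left_cancel e')]
    · rintro ⟨g, hg⟩
      rcases h.cases (mem_centralizer_singleton_iff.1 hg) with h1 | h1
      · exact ⟨⟨false, ⟨g, h1⟩⟩, Subtype.ext (by simp [f])⟩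
      · exact ⟨⟨true, ⟨t * g, h1⟩⟩, Subtype.ext (by simp [f, ← mul_assoc, h.tt])⟩
  rw [← Nat.card_congr (Equiv.ofBijective f hf), Nat.card_prod, Nat.card_eq_two_iff.2]
  exact ⟨false, true, by simp, by ext b; cases b <;> simp⟩

/-- `K` is normalised by the centraliser of `t`. -/
theorem conj_mem {g k : G} (hg : Commute g t) (hk : k ∈ K) : g * k * g⁻¹ ∈ K := by
  rcases h.cases hg with h1 | h1
  · exact mul_mem (mul_mem h1 hk) (inv_mem h1)
  · have : g * k * g⁻¹ = (t * g) * k * (t * g)⁻¹ := by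
      have h2 := (h.comm_t (mul_mem (mul_mem h1 hk) (inv_mem h1))).eq
      have h3 : g * k * g⁻¹ = t⁻¹ * ((t * g) * k * (t * g)⁻¹) * t := by group
      rw [h3, mul_assoc, ← h2, inv_mul_cancel_left]
    rw [this]
    exact mul_mem (mul_mem h1 hk) (inv_mem h1)

/-- An invariant 3-subgroup is centralised. -/
theorem fix_of_invariant {z : G} (hz : z * z = 1) {P : Subgroup G}
    (hP : ∀ x ∈ P, ∃ k : ℕ, orderOf x = 3 ^ k) (hn : ∀ x ∈ P, z * x * z⁻¹ ∈ P) {x : G}
    (hx : x ∈ P) : Commute z x := by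
  have hm : x⁻¹ * (z * x * z⁻¹) ∈ P := mul_mem (inv_mem hx) (hn x hx)
  have := h.no _ z (hP _ hm) (by
    have hz' : z⁻¹ = z := inv_eq_of_mul_eq_one_right hz
    simp only [hz', mul_inv_rev, inv_inv]
    calc z * (x⁻¹ * (z * x * z)) * z = z * x⁻¹ * z * x * (z * z) := by group
      _ = _ := by rw [hz, mul_one]; group)
  rw [inv_mul_eq_one, eq_mul_inv_iff_mul_eq] at this
  exact this.symm

end Setup

theorem exists_tor {t : G} {K : Subgroup G} {q : ℕ} (h : Setup t K q) : ∃ y r : G, Tor t K q y r := by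
  obtain ⟨y, r, hy, hr, hry, hrn, hc, hT⟩ := h.facts.torus
  refine ⟨y, r, ⟨h, y.2, r.2, by rwa [orderOf_coe], by simpa using congrArg Subtype.val hr,
    by simpa using congrArg Subtype.val hry, fun hm => hrn ?_, ?_, fun x hx ho z hz hzx => ?_⟩⟩
  · obtain ⟨i, hi⟩ := mem_zpowers_iff.1 hm
    exact mem_zpowers_iff.2 ⟨i, Subtype.ext (by simpa using hi)⟩
  · refine (Nat.card_congr
      ⟨fun k => ⟨⟨k.1, k.2.1⟩, mem_centralizer_singleton_iff.2 (Subtype.ext (by simpa using k.2.2.eq))⟩,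
       fun k => ⟨k.1.1, k.1.2, by
         have := congrArg Subtype.val (mem_centralizer_singleton_iff.1 k.2)
         simpa [Commute, SemiconjBy] using this⟩,
       fun k => rfl, fun k => rfl⟩).trans hc
  · obtain ⟨i, rfl⟩ := mem_zpowers_iff.1 hx
    have := hT (y ^ i) (mem_zpowers_iff.2 ⟨i, rfl⟩) (by rwa [← orderOf_coe, coe_zpow]) ⟨z, hz⟩
      (Subtype.ext (by simpa using hzx.eq))
    obtain ⟨j, hj⟩ := mem_zpowers_iff.1 this
    exact mem_zpowers_iff.2 ⟨j, by simpa using congrArg Subtype.val hj⟩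

end Cfsg.Agent.ReeInverted
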