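import Cfsg.Agent.EqLemmas
import Cfsg.Agent.Lib.ReeInverted.Setup
import Mathlib.GroupTheory.Transfer
import Mathlib.GroupTheory.Sylow

/-!
The Sylow 3-subgroups and the centralisers of the elements of order three.

* `exists_complement` : a subgroup with `⟨t⟩` as Sylow 2-subgroup has a normal complement
* `card_three` : `|G| = q · m`, `3 ∤ m`
* `exists_kernel` : `C(x) ⊇ U ⊔ Y` with `U` of order `q` normalising the abelian 3′-subgroup `Y`
-/

set_option autoImplicit false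
set_option linter.unusedSectionVars false

namespace Cfsg.Agent.ReeInverted

open Subgroup GoldschmidtFree

variable {G : Type*} [Group G]

/-- A normal complement to `⟨t⟩`. -/
theorem exists_complement [Finite G] {t : G} (ht : orderOf t = 2) {M : Subgroup G} (htM : t ∈ M)
    (hcent : ∀ g ∈ M, Commute g t → Odd (orderOf g) ∨ Odd (orderOf (t * g))) :
    ∃ X : Subgroup G, X ≤ M ∧ (∀ m ∈ M, ∀ x ∈ X, m * x * m⁻¹ ∈ X) ∧ t ∉ X ∧
      (∀ g ∈ M, g ∈ X ∨ t * g ∈ X) ∧ Odd (Nat.card X) := by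
  classical
  have : Fact (Nat.Prime 2) := ⟨Nat.prime_two⟩
  have tt : t * t = 1 := by rw [← pow_two, ← ht, pow_orderOf_eq_one]
  let t' : M := ⟨t, htM⟩
  have ht' : orderOf t' = 2 := by rw [← orderOf_coe]; exact ht
  set T : Subgroup M := zpowers t' with hT
  have hTc : Nat.card T = 2 ^ 1 := by rw [hT, Nat.card_zpowers, ht', pow_one]
  have h4 : ¬ 2 ^ 2 ∣ Nat.card M := by
    intro h4
    obtain ⟨S, hS, hTS⟩ := Sylow.exists_subgroup_card_pow_succ h4 hTc
    have hSc : IsMulCommutative S := IsPGroup.isMulCommutative_of_card_eq_prime_sq (p := 2) hS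
    have h2 : ∀ z : S, (z : G) ∈ zpowers t := by
      intro z
      have hzt : Commute (z : G) t := by
        have := congrArg (fun w : S => ((w : M) : G)) (hSc.is_comm.comm z ⟨t', hTS (mem_zpowers t')⟩)
        simpa [Commute, SemiconjBy, t'] using this
      obtain ⟨k, hk⟩ := (IsPGroup.of_card (p := 2) (n := 2) (G := S) (by rw [hS])) z
      have hz2 : (z : G) ^ 2 ^ (k + 1) = 1 := by
        have := congrArg (fun w : S => ((w : M) : G)) hk
        rw [pow_succ, pow_mul]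
        simp only [SubmonoidClass.coe_pow, OneMemClass.coe_one] at this
        rw [this, one_pow]
      have hodd : ∀ g : G, g ^ 2 ^ (k + 1) = 1 → Odd (orderOf g) → g = 1 := by
        intro g hg hg'
        obtain ⟨j, -, hj⟩ := (Nat.dvd_prime_pow Nat.prime_two).1 (orderOf_dvd_of_pow_eq_one hg)
        rcases j with _ | j
        · exact orderOf_eq_one_iff.1 hj
        · rw [hj, Nat.odd_pow_iff j.succ_ne_zero] at hg'
          exact absurd hg' (by decide)
      rcases hcent _ z.1.2 hzt with h1 | h1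
      · rw [hodd _ hz2 h1]; exact one_mem _
      · have e := hodd (t * (z : G)) (by
          rw [hzt.symm.mul_pow, hz2, mul_one, pow_succ', pow_mul, pow_two, tt, one_pow]) h1
        rw [mul_eq_one_iff_inv_eq] at e
        exact e ▸ inv_mem (mem_zpowers t)
    have h3 := Nat.card_le_card_of_injective (fun z : S => (⟨(z : G), h2 z⟩ : zpowers t))
      (fun a b e => Subtype.ext (Subtype.ext (congrArg Subtype.val e :)))
    rw [hS, Nat.card_zpowers, ht] at h3
    omega
  have hpg : IsPGroup 2 T := IsPGroup.of_card hTc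
  obtain ⟨S, hS⟩ := hpg.exists_le_sylow
  have hST : (S : Subgroup M) = T := by
    refine (eq_of_le_of_card_ge hS ?_).symm
    obtain ⟨k, hk⟩ := IsPGroup.iff_card.1 S.2
    rw [hk, hTc]
    refine Nat.pow_le_pow_right two_pos ?_
    by_contra hgt
    exact h4 ((pow_dvd_pow 2 (by omega : 2 ≤ k)).trans (hk ▸ card_subgroup_dvd_card _))
  have hP : normalizer ((S : Subgroup M) : Set M) ≤ centralizer ((S : Subgroup M) : Set M) := by
    intro g hg
    rw [hST] at hg ⊢
    have hgt : g * t' * g⁻¹ ∈ T := (mem_normalizer_iff.1 hg t').1 (mem_zpowers t')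
    obtain ⟨i, hi⟩ := mem_zpowers_iff.1 hgt
    have h2 : t' ^ (2 : ℤ) = 1 := by
      rw [zpow_two]; exact Subtype.ext tt
    have hne : g * t' * g⁻¹ ≠ 1 := fun e => by
      rw [conj_eq_one_iff] at e
      rw [e, orderOf_one] at ht'
      omega
    have hfix : g * t' * g⁻¹ = t' := by
      rw [← hi] at hne ⊢
      rcases Int.even_or_odd' i with ⟨j, rfl | rfl⟩
      · exact absurd (by rw [zpow_mul, h2, one_zpow]) hne
      · rw [zpow_add, zpow_mul, h2, one_zpow, one_mul, zpow_one]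
    exact mem_centralizer_iff.2 fun z hz => by
      obtain ⟨j, rfl⟩ := mem_zpowers_iff.1 hz
      exact (((show Commute g t' from mul_inv_eq_iff_eq_mul.1 hfix).zpow_right j).eq).symm
  obtain ⟨N, hNn, hcomp, hN2⟩ : ∃ N : Subgroup M, N.Normal ∧ N.IsComplement' (S : Subgroup M) ∧
      ¬ 2 ∣ Nat.card N :=
    ⟨(MonoidHom.transferSylow S hP).ker, MonoidHom.normal_ker _,
      MonoidHom.ker_transferSylow_isComplement' S hP, MonoidHom.not_dvd_card_ker_transferSylow S hP⟩
  refine ⟨N.map M.subtype, map_subtype_le N, ?_, ?_, ?_, ?_⟩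
  · rintro m hm _ ⟨x, hx, rfl⟩
    exact ⟨⟨m, hm⟩ * x * (⟨m, hm⟩ : M)⁻¹, hNn.conj_mem x hx _, rfl⟩
  · rintro ⟨x, hx, e⟩
    have hxt : x = t' := Subtype.ext e
    have : t' ∈ N ⊓ (S : Subgroup M) := ⟨hxt ▸ hx, hS (mem_zpowers t')⟩
    rw [hcomp.disjoint.eq_bot, mem_bot] at this
    rw [this, orderOf_one] at ht'
    omega
  · intro g hg
    obtain ⟨⟨⟨x, hx⟩, ⟨z, hz⟩⟩, e⟩ := hcomp.2 ⟨g, hg⟩
    rw [SetLike.mem_coe, hST] at hz
    obtain ⟨i, rfl⟩ := mem_zpowers_iff.1 hz
    have h2 : t' ^ (2 : ℤ) = 1 := by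
      rw [zpow_two]; exact Subtype.ext tt
    rcases Int.even_or_odd' i with ⟨j, rfl | rfl⟩
    · simp only [zpow_mul, h2, one_zpow, mul_one] at e
      exact Or.inl ⟨x, hx, congrArg Subtype.val e⟩
    · simp only [zpow_add, zpow_mul, h2, one_zpow, one_mul, zpow_one] at e
      refine Or.inr ⟨t' * x * t'⁻¹, hNn.conj_mem x hx _, ?_⟩
      have e' : (x : G) * t = g := congrArg Subtype.val e
      show t * (x : G) * t⁻¹ = t * g
      rw [← e', ← mul_assoc, inv_eq_of_mul_eq_one_right tt]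
  · rw [Nat.card_congr (N.equivMapOfInjective M.subtype M.subtype_injective).symm.toEquiv, Nat.odd_iff]
    omega

namespace Setup

variable [Finite G] {t : G} {K : Subgroup G} {q : ℕ} (h : Setup t K q)
include h

/-- `C_K(u)` -/
theorem facts_u {u : G} (hu : u ∈ K) (ho : orderOf u = 3) :
    Nat.card (K ⊓ centralizer ({u} : Set G) : Subgroup G) = q ∧
      ∀ a ∈ K, ∀ b ∈ K, Commute a u → Commute b u → a * b = b * a ∧ a ^ 3 = 1 := by
  obtain ⟨h1, h2⟩ := h.facts.three ⟨u, hu⟩ (by rwa [← orderOf_coe])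
  refine ⟨?_, fun a ha b hb hau hbu => ?_⟩
  · rw [← h1]
    refine Nat.card_congr
      ⟨fun z => ⟨⟨z.1, z.2.1⟩, mem_centralizer_singleton_iff.2
        (Subtype.ext (mem_centralizer_singleton_iff.1 z.2.2))⟩,
       fun z => ⟨z.1.1, z.1.2, mem_centralizer_singleton_iff.2
        (congrArg Subtype.val (mem_centralizer_singleton_iff.1 z.2))⟩,
       fun z => rfl, fun z => rfl⟩
  · obtain ⟨h3, h4⟩ := h2 ⟨a, ha⟩ ⟨b, hb⟩ (Subtype.ext hau.eq) (Subtype.ext hbu.eq)
    exact ⟨congrArg Subtype.val h3, by simpa using congrArg Subtype.val h4⟩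

theorem q_dvd_cent_iff {k : ℕ} (hk : 3 ^ k ∣ q * ((q + 1) * (q - 1))) : 3 ^ k ∣ q := by
  obtain ⟨m, hm⟩ := h.three_power
  have := h.le
  have hq3 : 3 ∣ q := by
    rcases m with _ | m
    · rw [pow_zero] at hm; omega
    · exact hm ▸ dvd_pow_self 3 m.succ_ne_zero
  refine (Nat.Coprime.dvd_of_dvd_mul_right (Nat.Coprime.pow_left k ?_) hk)
  rw [Nat.prime_three.coprime_iff_not_dvd, Nat.prime_three.dvd_mul]
  omega

theorem exists_u : ∃ u : G, u ∈ K ∧ orderOf u = 3 := by
  obtain ⟨u, hu, -⟩ := h.facts.root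
  exact ⟨u, u.2, by rw [orderOf_coe]; exact hu⟩

/-- The 3-part of the order of the normaliser of `C_K(u)`. -/
theorem normalizer_three {u : G} (hu : u ∈ K) (ho : orderOf u = 3) {k : ℕ}
    (hk : 3 ^ k ∣ Nat.card (normalizer ((K ⊓ centralizer ({u} : Set G) : Subgroup G) : Set G))) :
    3 ^ k ∣ q := by
  classical
  have : Fact (Nat.Prime 3) := ⟨Nat.prime_three⟩
  have : Fact (Nat.Prime 2) := ⟨Nat.prime_two⟩
  obtain ⟨hcU, hfU⟩ := h.facts_u hu ho
  set U : Subgroup G := K ⊓ centralizer ({u} : Set G) with hU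
  set M := normalizer (U : Set G) with hM
  have hU3 : ∀ x ∈ U, x ^ 3 = 1 := fun x hx =>
    (hfU x hx.1 x hx.1 (mem_centralizer_singleton_iff.1 hx.2) (mem_centralizer_singleton_iff.1 hx.2)).2
  have htM : t ∈ M := mem_normalizer_iff.2 fun x => by
    constructor
    · intro hx
      rwa [(h.comm_t hx.1).eq, mul_inv_cancel_right]
    · intro hx
      have h1 := (h.comm_t hx.1).eq
      rw [inv_mul_cancel_right] at h1
      rwa [show t * x * t⁻¹ = x from mul_left_cancel h1] at hx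
  have huU : u ∈ U := ⟨hu, mem_centralizer_singleton_iff.2 rfl⟩
  -- elements of `K` normalising `U` have odd order
  have hoddK : ∀ g ∈ K, g ∈ M → Odd (orderOf g) := by
    intro g hg hgM
    by_contra hev
    rw [Nat.not_odd_iff_even, even_iff_two_dvd] at hev
    set j := g ^ (orderOf g / 2) with hj
    have hjo : orderOf j = 2 := orderOf_pow_orderOf_div (orderOf_pos g).ne' hev
    have hj2 : j * j = 1 := by rw [← pow_two, ← hjo, pow_orderOf_eq_one]
    have hju : Commute j u := h.fix_of_invariant hj2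
      (fun x hx => by
        obtain ⟨i, -, hi⟩ := (Nat.dvd_prime_pow Nat.prime_three).1
          (show orderOf x ∣ 3 ^ 1 by rw [pow_one]; exact orderOf_dvd_of_pow_eq_one (hU3 x hx))
        exact ⟨i, hi⟩)
      (fun x hx => (mem_normalizer_iff.1 (pow_mem hgM _) x).1 hx) huU
    have h3 := hU3 j ⟨pow_mem hg _, mem_centralizer_singleton_iff.2 hju.eq⟩
    rw [pow_succ, pow_two, hj2, one_mul] at h3
    rw [h3, orderOf_one] at hjo
    omega
  obtain ⟨X, hXM, hXn, htX, hXc, hXodd⟩ := exists_complement h.ht htM fun g hg hgt =>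
    (h.cases hgt).imp (fun h1 => hoddK g h1 hg) fun h1 => hoddK _ h1 (mul_mem htM hg)
  -- a `t`-invariant Sylow subgroup of `X`
  have hn : zpowers t ≤ normalizer (X : Set G) := zpowers_le.2 (mem_normalizer_iff.2 fun x =>
    ⟨fun hx => hXn t htM x hx, fun hx => by
      have h1 := hXn t⁻¹ (inv_mem htM) _ hx
      simpa [mul_assoc] using h1⟩)
  let φ : ↥(zpowers t) →* MulAut X := (Subgroup.normalizerMonoidHom X).comp (Subgroup.inclusion hn)
  let act : MulAction ↥(zpowers t) (Sylow 3 X) := MulAction.compHom (Sylow 3 X) φ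
  have hTp : IsPGroup 2 ↥(zpowers t) := IsPGroup.of_card (n := 1) (by rw [Nat.card_zpowers, h.ht, pow_one])
  obtain ⟨R, hR⟩ := hTp.nonempty_fixed_point_of_prime_not_dvd_card (Sylow 3 X) (by
    intro h2
    obtain ⟨R₀⟩ : Nonempty (Sylow 3 X) := inferInstance
    exact (Nat.not_even_iff_odd.2 hXodd) (even_iff_two_dvd.2 (h2.trans (R₀.card_dvd_index.trans (index_dvd_card _)))))
  set R' : Subgroup G := (R : Subgroup X).map X.subtype with hR'
  have hR3 : ∀ x ∈ R', ∃ i : ℕ, orderOf x = 3 ^ i := by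
    rintro _ ⟨x, hx, rfl⟩
    obtain ⟨i, hi⟩ := IsPGroup.iff_orderOf.1 R.2 ⟨x, hx⟩
    exact ⟨i, by rw [coe_subtype, orderOf_coe]; rwa [orderOf_mk] at hi⟩
  have hRn : ∀ x ∈ R', t * x * t⁻¹ ∈ R' := by
    rintro _ ⟨x, hx, rfl⟩
    have hfix : φ ⟨t, mem_zpowers t⟩ • R = R := hR ⟨t, mem_zpowers t⟩
    refine ⟨φ ⟨t, mem_zpowers t⟩ x, ?_, rfl⟩
    have hm : φ ⟨t, mem_zpowers t⟩ x ∈ ((φ ⟨t, mem_zpowers t⟩ • R : Sylow 3 X) : Subgroup X) := by
      rw [Sylow.pointwise_smul_def]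
      exact Subgroup.smul_mem_pointwise_smul x _ _ hx
    rwa [hfix] at hm
  -- the 3-part of `|M|` is that of `|R'|`
  have hRC : R' ≤ centralizer ({t} : Set G) := fun x hx =>
    mem_centralizer_singleton_iff.2 (h.fix_of_invariant h.tt hR3 hRn hx).symm.eq
  have hMX : Nat.card M = 2 * Nat.card X := by
    let f : Bool × X → M := fun p => ⟨(if p.1 then t else 1) * (p.2 : G), mul_mem (by
      split; exacts [htM, one_mem _]) (hXM p.2.2)⟩
    have hf : Function.Bijective f := by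
      constructor
      · rintro ⟨b, k⟩ ⟨b', k'⟩ e
        have e' : (if b then t else 1) * (k : G) = (if b' then t else 1) * (k' : G) :=
          congrArg Subtype.val e
        cases b <;> cases b' <;> simp only [Bool.false_eq_true, if_false, if_true, one_mul] at e'
        · rw [Subtype.ext e']
        · exact absurd (eq_mul_inv_of_mul_eq e'.symm ▸ mul_mem k.2 (inv_mem k'.2)) htX
        · exact absurd (eq_mul_inv_of_mul_eq e' ▸ mul_mem k'.2 (inv_mem k.2)) htX
        · rw [Subtype.ext (mul_left_cancel e')]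
      · rintro ⟨g, hg⟩
        rcases hXc g hg with h1 | h1
        · exact ⟨⟨false, ⟨g, h1⟩⟩, Subtype.ext (by simp [f])⟩
        · exact ⟨⟨true, ⟨t * g, h1⟩⟩, Subtype.ext (by simp [f, ← mul_assoc, h.tt])⟩
    rw [← Nat.card_congr (Equiv.ofBijective f hf), Nat.card_prod, Nat.card_eq_fintype_card (α := Bool),
      Fintype.card_bool]
  rw [hMX] at hk
  have hkX : 3 ^ k ∣ Nat.card X :=
    Nat.Coprime.dvd_of_dvd_mul_left (Nat.Coprime.pow_left k (by norm_num)) hk
  obtain ⟨R0, hR0⟩ := Sylow.exists_subgroup_card_pow_prime 3 hkX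
  obtain ⟨R1, hR1⟩ := (IsPGroup.of_card hR0).exists_le_sylow
  have hkR : 3 ^ k ∣ Nat.card (R : Subgroup X) := by
    rw [Sylow.card_eq_multiplicity, ← Sylow.card_eq_multiplicity R1, ← hR0]
    exact card_dvd_of_le hR1
  apply h.q_dvd_cent_iff
  rw [← h.card_cent]
  refine hkR.trans ?_
  rw [Nat.card_congr ((R : Subgroup X).equivMapOfInjective X.subtype X.subtype_injective).toEquiv]
  exact card_dvd_of_le hRC

/-- The 3-part of the order of `G` is `q`. -/
theorem card_three : ∃ m, ¬ 3 ∣ m ∧ Nat.card G = q * m := by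
  have : Fact (Nat.Prime 3) := ⟨Nat.prime_three⟩
  obtain ⟨u, hu, ho⟩ := h.exists_u
  obtain ⟨hcU, -⟩ := h.facts_u hu ho
  obtain ⟨e, he⟩ := h.three_power
  have hd : 3 ^ e ∣ Nat.card G := by
    rw [← he, ← hcU]; exact card_subgroup_dvd_card _
  obtain ⟨m, hm⟩ := hd
  refine ⟨m, fun h3 => ?_, he ▸ hm⟩
  have hd' : 3 ^ (e + 1) ∣ Nat.card G := by rw [hm, pow_succ]; exact mul_dvd_mul_left _ h3
  have := h.normalizer_three hu ho (Sylow.prime_pow_dvd_card_normalizer hd' (he ▸ hcU))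
  rw [he] at this
  have := Nat.le_of_dvd (pow_pos (by norm_num) e) this
  have h1 : 3 ^ e < 3 ^ (e + 1) := Nat.pow_lt_pow_right (by norm_num) (by omega)
  omega

/-- An element of order three is conjugate into `K`. -/
theorem exists_conj_mem {x : G} {k : ℕ} (hx : orderOf x = 3 ^ k) : ∃ g : G, g * x * g⁻¹ ∈ K := by
  classical
  have : Fact (Nat.Prime 3) := ⟨Nat.prime_three⟩
  obtain ⟨u, hu, ho⟩ := h.exists_u
  obtain ⟨hcU, -⟩ := h.facts_u hu ho
  obtain ⟨m, hm3, hm⟩ := h.card_three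
  obtain ⟨e, he⟩ := h.three_power
  obtain ⟨S, hS⟩ := (IsPGroup.of_card (p := 3) (n := e) (he ▸ hcU)).exists_le_sylow
  have hSU : (S : Subgroup G) = K ⊓ centralizer ({u} : Set G) := by
    refine (eq_of_le_of_card_ge hS ?_).symm
    obtain ⟨j, hj⟩ := IsPGroup.iff_card.1 S.2
    rw [hj, hcU, he]
    refine Nat.pow_le_pow_right (by norm_num) ?_
    by_contra hgt
    have hd : 3 ^ (e + 1) ∣ Nat.card G :=
      (pow_dvd_pow 3 (by omega : e + 1 ≤ j)).trans (hj ▸ card_subgroup_dvd_card _)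
    rw [hm, he, pow_succ] at hd
    exact hm3 ((mul_dvd_mul_iff_left (pow_ne_zero e (by norm_num))).1 hd)
  obtain ⟨P, hP⟩ := (IsPGroup.of_card (p := 3) (n := k) (G := zpowers x)
    (by rw [Nat.card_zpowers, hx])).exists_le_sylow
  obtain ⟨g, hg⟩ := MulAction.exists_smul_eq G P S
  refine ⟨g, ?_⟩
  have hmem : g * x * g⁻¹ ∈ (S : Subgroup G) := by
    rw [← hg, Sylow.coe_subgroup_smul]
    exact Subgroup.smul_mem_pointwise_smul x (MulAut.conj g) _ (hP (mem_zpowers x))
  rw [hSU] at hmem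
  exact hmem.1

theorem cube_one {x : G} {k : ℕ} (hx : orderOf x = 3 ^ k) : x ^ 3 = 1 := by
  obtain ⟨g, hg⟩ := h.exists_conj_mem hx
  have h1 := h.facts.exponent ⟨_, hg⟩ k (by
    rw [← orderOf_coe]
    show orderOf (g * x * g⁻¹) = _
    rw [← MulAut.conj_apply, MulEquiv.orderOf_eq, hx])
  have h2 : (g * x * g⁻¹) ^ 3 = 1 := by simpa using congrArg Subtype.val h1
  rwa [conj_pow, conj_eq_one_iff] at h2

/-- The centraliser of an element of order three in `K`. -/
theorem exists_kernel_mem {u : G} (hu : u ∈ K) (ho : orderOf u = 3) :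
    ∃ U Y : Subgroup G, Nat.card U = q ∧ (∀ a ∈ U, Commute a u) ∧ (∀ b ∈ Y, Commute b u) ∧
      (∀ a ∈ Y, ∀ b ∈ Y, a * b = b * a) ∧ (∀ a ∈ U, ∀ b ∈ Y, a * b * a⁻¹ ∈ Y) ∧
      (∀ b ∈ Y, ¬ 3 ∣ orderOf b) ∧
      ∀ g : G, Commute g u → Odd (orderOf g) → ¬ 3 ∣ orderOf g → g ∈ Y := by
  classical
  have : Fact (Nat.Prime 3) := ⟨Nat.prime_three⟩
  obtain ⟨hcU, hfU⟩ := h.facts_u hu ho
  set U : Subgroup G := K ⊓ centralizer ({u} : Set G) with hU
  have hUc : ∀ a ∈ U, Commute a u := fun a ha => mem_centralizer_singleton_iff.1 ha.2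
  have hU3 : ∀ x ∈ U, x ^ 3 = 1 := fun x hx => (hfU x hx.1 x hx.1 (hUc x hx) (hUc x hx)).2
  set M := centralizer ({u} : Set G) with hM
  have htM : t ∈ M := mem_centralizer_singleton_iff.2 (h.comm_t hu).eq
  have hodd : ∀ x ∈ U, Odd (orderOf x) := fun x hx =>
    Odd.of_dvd_nat (by decide) (orderOf_dvd_of_pow_eq_one (hU3 x hx))
  obtain ⟨X, hXM, hXn, htX, hXc, hXodd⟩ := exists_complement h.ht htM fun g hg hgt =>
    (h.cases_comm hu hgt (mem_centralizer_singleton_iff.1 hg)).imp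
      (fun h1 => hodd g ⟨h1.1, hg⟩)
      (fun h1 => hodd _ ⟨h1.1, mem_centralizer_singleton_iff.2 h1.2.eq⟩)
  -- odd order elements of `M` lie in `X`
  have hoX : ∀ g ∈ M, Odd (orderOf g) → g ∈ X := by
    intro g hg ho'
    rcases hXc g hg with h1 | h1
    · exact h1
    exfalso
    -- `g²  ∈ X` and `g` is a power of it
    obtain ⟨j, hj⟩ := ho'
    have hgg : g * g ∈ X := by
      have h2 := hXn t htM _ h1
      have h3 := mul_mem h2 h1
      rw [h.inv_t] at h3
      simpa [mul_assoc, ← mul_assoc t t, h.tt] using h3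
    have hgX : g ∈ X := by
      have h4 := pow_mem hgg (j + 1)
      rwa [← pow_two, ← pow_mul, show 2 * (j + 1) = orderOf g + 1 by omega, pow_succ,
        pow_orderOf_eq_one, one_mul] at h4
    exact htX (by have h5 := mul_mem h1 (inv_mem hgX); rwa [mul_inv_cancel_right] at h5)
  have hUX : U ≤ X := fun x hx => hoX x hx.2 (hodd x hx)
  obtain ⟨m, hm3, hm⟩ := h.card_three
  obtain ⟨e, he⟩ := h.three_power
  obtain ⟨S, hS⟩ := (IsPGroup.of_card (p := 3) (n := e) (G := U.subgroupOf X) (by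
    rw [Nat.card_congr (subgroupOfEquivOfLe hUX).toEquiv, hcU, he])).exists_le_sylow
  have hSU : (S : Subgroup X) = U.subgroupOf X := by
    refine (eq_of_le_of_card_ge hS ?_).symm
    obtain ⟨j, hj⟩ := IsPGroup.iff_card.1 S.2
    rw [hj, Nat.card_congr (subgroupOfEquivOfLe hUX).toEquiv, hcU, he]
    refine Nat.pow_le_pow_right (by norm_num) ?_
    by_contra hgt
    have hd : 3 ^ (e + 1) ∣ Nat.card G :=
      ((pow_dvd_pow 3 (by omega : e + 1 ≤ j)).trans (hj ▸ card_subgroup_dvd_card _)).trans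
        (card_subgroup_dvd_card X)
    rw [hm, he, pow_succ] at hd
    exact hm3 ((mul_dvd_mul_iff_left (pow_ne_zero e (by norm_num))).1 hd)
  have hP : normalizer ((S : Subgroup X) : Set X) ≤ centralizer ((S : Subgroup X) : Set X) := by
    intro n hn
    rw [hSU] at hn ⊢
    have hnU : ∀ a ∈ U, (n : G) * a * (n : G)⁻¹ ∈ U := fun a ha =>
      mem_subgroupOf.1 ((mem_normalizer_iff.1 hn ⟨a, hUX ha⟩).1 (mem_subgroupOf.2 ha))
    set c : G := (n : G)⁻¹ * (t * (n : G) * t⁻¹) with hc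
    have htn : t * (n : G) * t⁻¹ ∈ X := hXn t htM _ n.2
    have hcX : c ∈ X := mul_mem (inv_mem n.2) htn
    have hcU' : ∀ a ∈ U, Commute c a := by
      intro a ha
      have hb := (h.comm_t (hnU a ha).1).eq
      have hfix : t * ((n : G) * a * (n : G)⁻¹) * t⁻¹ = (n : G) * a * (n : G)⁻¹ := by
        rw [hb, mul_inv_cancel_right]
      have hta : t⁻¹ * a * t = a := by rw [mul_assoc, ← (h.comm_t ha.1).eq, inv_mul_cancel_left]
      have key : t * (n : G) * t⁻¹ * a * (t * (n : G) * t⁻¹)⁻¹ = (n : G) * a * (n : G)⁻¹ := by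
        calc t * (n : G) * t⁻¹ * a * (t * (n : G) * t⁻¹)⁻¹
            = t * ((n : G) * (t⁻¹ * a * t) * (n : G)⁻¹) * t⁻¹ := by group
          _ = _ := by rw [hta, hfix]
      apply mul_inv_eq_iff_eq_mul.1
      calc c * a * c⁻¹ = (n : G)⁻¹ * (t * (n : G) * t⁻¹ * a * (t * (n : G) * t⁻¹)⁻¹) * (n : G) := by
            rw [hc]; group
        _ = a := by rw [key]; group
    obtain ⟨j, hj⟩ : Odd (orderOf c) :=
      hXodd.of_dvd_nat (Subgroup.orderOf_dvd_natCard X hcX)
    set d : G := c ^ (j + 1) with hd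
    have hcinv : t * c * t⁻¹ = c⁻¹ := by
      rw [hc, h.inv_t]
      calc t * ((n : G)⁻¹ * (t * (n : G) * t)) * t = t * (n : G)⁻¹ * t * (n : G) * (t * t) := by group
        _ = t * (n : G)⁻¹ * t * (n : G) := by rw [h.tt, mul_one]
        _ = _ := by
          rw [mul_inv_rev, mul_inv_rev, mul_inv_rev, h.inv_t, inv_inv]; group
    have hdd : d * d = c := by
      rw [hd, ← pow_add, show j + 1 + (j + 1) = orderOf c + 1 by omega, pow_succ, pow_orderOf_eq_one,
        one_mul]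
    have hnd : Commute ((n : G) * d) t := by
      have h1 : t * ((n : G) * d) * t⁻¹ = (n : G) * d := by
        calc t * ((n : G) * d) * t⁻¹ = (t * (n : G) * t⁻¹) * (t * d * t⁻¹) := by group
          _ = (n : G) * c * d⁻¹ := by
            rw [hd, ← conj_pow (a := t) (b := c), hcinv, inv_pow, hc]; group
          _ = _ := by rw [← hdd]; group
      exact (mul_inv_eq_iff_eq_mul.1 h1).symm
    have hndU : (n : G) * d ∈ U := by
      have hndX : (n : G) * d ∈ X := mul_mem n.2 (pow_mem hcX _)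
      rcases h.cases_comm hu hnd (mem_centralizer_singleton_iff.1 (hXM hndX)) with h1 | h1
      · exact ⟨h1.1, hXM hndX⟩
      · exfalso
        have h2 : t * ((n : G) * d) ∈ U := ⟨h1.1, mem_centralizer_singleton_iff.2 h1.2.eq⟩
        exact htX (by have h5 := mul_mem (hUX h2) (inv_mem hndX); rwa [mul_inv_cancel_right] at h5)
    refine mem_centralizer_iff.2 fun a ha => Subtype.ext ?_
    have haU : (a : G) ∈ U := mem_subgroupOf.1 ha
    have h1 : Commute ((n : G) * d) a :=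
      (hfU _ hndU.1 _ haU.1 (hUc _ hndU) (hUc _ haU)).1
    have h2 := h1.mul_left ((hcU' _ haU).pow_left (j + 1)).inv_left
    rw [← hd, mul_inv_cancel_right] at h2
    exact h2.symm.eq
  set N := (MonoidHom.transferSylow S hP).ker with hN
  have hcomp : N.IsComplement' (S : Subgroup X) := MonoidHom.ker_transferSylow_isComplement' S hP
  have h3N : ¬ 3 ∣ Nat.card N := MonoidHom.not_dvd_card_ker_transferSylow S hP
  set Y : Subgroup G := N.map X.subtype with hY
  have hYX : Y ≤ X := map_subtype_le N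
  have hYo : ∀ b ∈ Y, ¬ 3 ∣ orderOf b := fun b hb h3 =>
    h3N (h3.trans ((Subgroup.orderOf_dvd_natCard Y hb).trans
      (dvd_of_eq (Nat.card_congr (N.equivMapOfInjective X.subtype X.subtype_injective).toEquiv).symm)))
  have hin : ∀ g ∈ X, ¬ 3 ∣ orderOf g → g ∈ Y := by
    intro g hg h3
    refine ⟨⟨g, hg⟩, MonoidHom.mem_ker.2 ?_, rfl⟩
    set z := MonoidHom.transferSylow S hP ⟨g, hg⟩ with hz
    have h1 : orderOf z ∣ orderOf g := by
      rw [← orderOf_mk g hg]; exact orderOf_map_dvd _ _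
    obtain ⟨i, hi⟩ := IsPGroup.iff_orderOf.1 S.2 z
    rcases i with _ | i
    · exact orderOf_eq_one_iff.1 hi
    · exact absurd ((dvd_pow_self 3 i.succ_ne_zero).trans (hi ▸ h1)) h3
  have hYnorm : ∀ m ∈ M, ∀ b ∈ Y, m * b * m⁻¹ ∈ Y := fun m hm' b hb =>
    hin _ (hXn m hm' b (hYX hb)) (by
      rw [← MulAut.conj_apply, MulEquiv.orderOf_eq]; exact hYo b hb)
  -- `t` inverts `Y`
  have hfix : ∀ b ∈ Y, Commute b t → b = 1 := by
    intro b hb hbt
    have hbU : b ∈ U := by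
      rcases h.cases_comm hu hbt (mem_centralizer_singleton_iff.1 (hXM (hYX hb))) with h1 | h1
      · exact ⟨h1.1, hXM (hYX hb)⟩
      · exfalso
        exact htX (by
          have h5 := mul_mem (hUX ⟨h1.1, mem_centralizer_singleton_iff.2 h1.2.eq⟩) (inv_mem (hYX hb))
          rwa [mul_inv_cancel_right] at h5)
    have hd := orderOf_dvd_of_pow_eq_one (hU3 b hbU)
    rcases (Nat.dvd_prime Nat.prime_three).1 hd with h1 | h1
    · exact orderOf_eq_one_iff.1 h1
    · exact absurd (dvd_of_eq h1.symm) (hYo b hb)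
  have hinv : ∀ b ∈ Y, t * b * t⁻¹ = b⁻¹ := by
    let f : Y → Y := fun b => ⟨(b : G)⁻¹ * (t * b * t⁻¹), mul_mem (inv_mem b.2) (hYnorm t htM _ b.2)⟩
    have hf : Function.Surjective f := Finite.injective_iff_surjective.1 fun a b e => by
      have e' : (a : G)⁻¹ * (t * a * t⁻¹) = (b : G)⁻¹ * (t * b * t⁻¹) := congrArg Subtype.val e
      apply Subtype.ext
      have h1 : Commute ((b : G) * (a : G)⁻¹) t := by
        have h2 : t * ((b : G) * (a : G)⁻¹) * t⁻¹ = (b : G) * (a : G)⁻¹ := by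
          have h4 : t * (a : G) * t⁻¹ = (a : G) * ((b : G)⁻¹ * (t * b * t⁻¹)) := by
            rw [← e']; group
          calc t * ((b : G) * (a : G)⁻¹) * t⁻¹ = (t * b * t⁻¹) * (t * (a : G) * t⁻¹)⁻¹ := by group
            _ = _ := by rw [h4]; group
        exact (mul_inv_eq_iff_eq_mul.1 h2).symm
      exact (mul_inv_eq_one.1 (hfix _ (mul_mem b.2 (inv_mem a.2)) h1)).symm
    intro b hb
    obtain ⟨a, ha⟩ := hf ⟨b, hb⟩
    have ha' : (a : G)⁻¹ * (t * a * t⁻¹) = b := congrArg Subtype.val ha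
    rw [← ha', h.inv_t]
    calc t * ((a : G)⁻¹ * (t * a * t)) * t = t * (a : G)⁻¹ * t * a * (t * t) := by group
      _ = _ := by rw [h.tt, mul_one, mul_inv_rev, mul_inv_rev, mul_inv_rev, h.inv_t, inv_inv]; group
  refine ⟨U, Y, hcU, hUc, fun b hb => mem_centralizer_singleton_iff.1 (hXM (hYX hb)), fun a ha b hb => ?_,
    fun a ha b hb => hYnorm a (hXM (hUX ha)) b hb, hYo,
    fun g hg ho' h3 => hin g (hoX g (mem_centralizer_singleton_iff.2 hg.eq) ho') h3⟩
  have h1 := hinv _ (mul_mem ha hb)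
  rw [mul_inv_rev, ← hinv a ha, ← hinv b hb] at h1
  have h2 : (t * a * t⁻¹) * (t * b * t⁻¹) = (t * b * t⁻¹) * (t * a * t⁻¹) :=
    (show (t * a * t⁻¹) * (t * b * t⁻¹) = t * (a * b) * t⁻¹ by group).trans h1
  have h3 : t * (a * b) * t⁻¹ = t * (b * a) * t⁻¹ := by
    calc t * (a * b) * t⁻¹ = (t * a * t⁻¹) * (t * b * t⁻¹) := by group
      _ = _ := by rw [h2]; group
  exact mul_left_cancel (mul_right_cancel h3)

/-- The centraliser of an element of order three. -/
theorem exists_kernel {x : G} (hx : orderOf x = 3) :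
    ∃ U Y : Subgroup G, Nat.card U = q ∧ (∀ a ∈ U, Commute a x) ∧ (∀ b ∈ Y, Commute b x) ∧
      (∀ a ∈ Y, ∀ b ∈ Y, a * b = b * a) ∧ (∀ a ∈ U, ∀ b ∈ Y, a * b * a⁻¹ ∈ Y) ∧
      (∀ b ∈ Y, ¬ 3 ∣ orderOf b) ∧
      ∀ g : G, Commute g x → Odd (orderOf g) → ¬ 3 ∣ orderOf g → g ∈ Y := by
  obtain ⟨g, hg⟩ := h.exists_conj_mem (k := 1) (hx.trans (pow_one 3).symm)
  obtain ⟨U, Y, h1, h2, h3, h4, h5, h6, h7⟩ := h.exists_kernel_mem hg (by
    rw [← MulAut.conj_apply, MulEquiv.orderOf_eq, hx])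
  set c : G ≃* G := MulAut.conj g with hc
  have hmem : ∀ (H : Subgroup G) (z : G), z ∈ H.comap c.toMonoidHom ↔ c z ∈ H := fun H z => Iff.rfl
  have hcx : c x = g * x * g⁻¹ := rfl
  have hcom : ∀ z : G, Commute (c z) (g * x * g⁻¹) ↔ Commute z x := fun z => by
    rw [← hcx, Commute, SemiconjBy, ← map_mul, ← map_mul, c.injective.eq_iff]; rfl
  refine ⟨U.comap c.toMonoidHom, Y.comap c.toMonoidHom, ?_, fun a ha => (hcom a).1 (h2 _ ha),
    fun b hb => (hcom b).1 (h3 _ hb), fun a ha b hb => c.injective (by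
      rw [map_mul, map_mul]; exact h4 _ ha _ hb), fun a ha b hb => ?_, fun b hb => ?_,
    fun z hz ho hz3 => ?_⟩
  · rw [← h1]
    exact Nat.card_congr (c.toEquiv.subtypeEquiv fun z => Iff.rfl)
  · show c (a * b * a⁻¹) ∈ Y
    rw [map_mul, map_mul, map_inv]
    exact h5 _ ha _ hb
  · rw [← c.orderOf_eq b]; exact h6 _ hb
  · exact (h7 (c z) ((hcom z).2 hz) (by rwa [c.orderOf_eq]) (by rwa [c.orderOf_eq]) : c z ∈ Y)

end Setup

end Cfsg.Agent.ReeInverted
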