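import Cfsg.Agent.EqLemmas
import Cfsg.Agent.Lib.ReeInverted.Setup

/-!
The torus `W = ⟨t⟩ × ⟨y⟩`, its parts `{1, t, s, ts}` and `A = ⟨y²⟩`.
-/

set_option autoImplicit false
set_option linter.unusedSectionVars false

namespace Cfsg.Agent.ReeInverted

open Subgroup

variable {G : Type*} [Group G]

/-- The involution of the torus. -/
def sInv (q : ℕ) (y : G) : G := y ^ ((q + 1) / 4)

/-- The odd part of the torus. -/
def oddPart (y : G) : Subgroup G := zpowers (y ^ 2)

/-- The torus with `t`. -/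
def bigTorus (t y : G) : Subgroup G := zpowers t ⊔ zpowers y

namespace Tor

variable {t : G} {K : Subgroup G} {q : ℕ} {y r : G} (D : Tor t K q y r)
include D

theorem four_a : 4 * ((q + 1) / 4) = q + 1 := by have := D.base.mod_eight; omega

theorem two_a : (q + 1) / 2 = 2 * ((q + 1) / 4) := by have := D.base.mod_eight; omega

theorem odd_a : Odd ((q + 1) / 4) := Nat.odd_iff.2 (by have := D.base.mod_eight; omega)

theorem seven_le : 7 ≤ (q + 1) / 4 := by have := D.base.le; omega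

theorem three_not_dvd : ¬ 3 ∣ (q + 1) / 4 := by
  intro h3
  obtain ⟨m, hm⟩ := D.base.three_power
  have h4 := D.four_a
  have := D.base.le
  rcases m with _ | m
  · simp at hm; omega
  · have : 3 ∣ q := hm ▸ dvd_pow_self 3 m.succ_ne_zero
    omega

theorem y_pow_two_a : y ^ (2 * ((q + 1) / 4)) = 1 := by rw [← D.two_a, ← D.order_y, pow_orderOf_eq_one]

theorem y_sq_pow : (y ^ 2) ^ ((q + 1) / 4) = 1 := by rw [← pow_mul, D.y_pow_two_a]

theorem s_sq : sInv q y * sInv q y = 1 := by rw [sInv, ← pow_add, ← two_mul, D.y_pow_two_a]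

theorem s_ne_one : sInv q y ≠ 1 := fun e => by
  have := orderOf_dvd_of_pow_eq_one (show y ^ ((q + 1) / 4) = 1 from e)
  rw [D.order_y] at this
  have := Nat.le_of_dvd (by have := D.seven_le; omega) this
  have := D.base.le
  omega

theorem s_order : orderOf (sInv q y) = 2 :=
  orderOf_eq_prime (by rw [pow_two]; exact D.s_sq) D.s_ne_one

theorem s_mem : sInv q y ∈ K := pow_mem D.y_mem _

theorem s_inv : (sInv q y)⁻¹ = sInv q y := inv_eq_of_mul_eq_one_right D.s_sq

theorem r_inv_self : r⁻¹ = r := inv_eq_of_mul_eq_one_right D.r_sq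

theorem r_conj_zpow (i : ℤ) : r * y ^ i * r⁻¹ = y ^ (-i) := by
  rw [← conj_zpow, D.r_inv, inv_zpow']

theorem r_ne_one : r ≠ 1 := fun e => D.r_not (e ▸ one_mem _)

theorem r_order : orderOf r = 2 := orderOf_eq_prime (by rw [pow_two]; exact D.r_sq) D.r_ne_one

theorem comm_ty : Commute t y := D.base.comm_t D.y_mem

theorem comm_ts : Commute t (sInv q y) := D.base.comm_t D.s_mem

theorem comm_tr : Commute t r := D.base.comm_t D.r_mem

theorem comm_rs : Commute r (sInv q y) := by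
  have h1 : r * sInv q y * r⁻¹ = sInv q y := by
    conv_rhs => rw [← D.s_inv]
    rw [sInv, ← conj_pow, D.r_inv, inv_pow]
  exact mul_inv_eq_iff_eq_mul.1 h1

theorem le_normalizer : zpowers t ≤ normalizer (zpowers y : Set G) :=
  zpowers_le.2 (mem_normalizer_iff.2 fun x => by
    constructor
    · intro hx
      obtain ⟨i, rfl⟩ := mem_zpowers_iff.1 hx
      rw [(D.comm_ty.zpow_right i).eq, mul_inv_cancel_right]
      exact zpow_mem (mem_zpowers y) i
    · intro hx
      obtain ⟨i, hi⟩ := mem_zpowers_iff.1 hx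
      have : x = y ^ i := by
        calc x = t⁻¹ * (t * x * t⁻¹) * t := by group
          _ = t⁻¹ * y ^ i * t := by rw [hi]
          _ = y ^ i := by rw [mul_assoc, ← (D.comm_ty.zpow_right i).eq, inv_mul_cancel_left]
      exact this ▸ zpow_mem (mem_zpowers y) i)

theorem mem_big {g : G} : g ∈ bigTorus t y ↔ ∃ i : ℤ, g = y ^ i ∨ g = t * y ^ i := by
  constructor
  · intro hg
    rw [bigTorus, ← SetLike.mem_coe, coe_mul_of_left_le_normalizer_right _ _ D.le_normalizer] at hg
    obtain ⟨z, hz, w, hw, rfl⟩ := hg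
    obtain ⟨i, rfl⟩ := mem_zpowers_iff.1 hz
    obtain ⟨j, rfl⟩ := mem_zpowers_iff.1 hw
    have h2 : t ^ (2 : ℤ) = 1 := by rw [zpow_two, D.base.tt]
    rcases Int.even_or_odd' i with ⟨k, rfl | rfl⟩
    · exact ⟨j, Or.inl (by show t ^ (2 * k) * y ^ j = _; rw [zpow_mul, h2, one_zpow, one_mul])⟩
    · exact ⟨j, Or.inr (by
        show t ^ (2 * k + 1) * y ^ j = _
        rw [zpow_add, zpow_mul, h2, one_zpow, one_mul, zpow_one])⟩
  · rintro ⟨i, rfl | rfl⟩
    · exact mem_sup_right (zpow_mem (mem_zpowers y) i)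
    · exact mul_mem (mem_sup_left (mem_zpowers t)) (mem_sup_right (zpow_mem (mem_zpowers y) i))

theorem t_mem_big : t ∈ bigTorus t y := mem_sup_left (mem_zpowers t)

theorem s_mem_big : sInv q y ∈ bigTorus t y := mem_sup_right (pow_mem (mem_zpowers y) _)

theorem odd_le_big : oddPart y ≤ bigTorus t y :=
  (zpowers_le.2 (pow_mem (mem_zpowers y) 2)).trans le_sup_right

theorem big_comm {g g' : G} (hg : g ∈ bigTorus t y) (hg' : g' ∈ bigTorus t y) : g * g' = g' * g := by
  have hy : ∀ i j : ℤ, Commute (y ^ i) (y ^ j) := fun i j =>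
    ((Commute.refl y).zpow_left i).zpow_right j
  have ht : ∀ i : ℤ, Commute t (y ^ i) := fun i => D.comm_ty.zpow_right i
  obtain ⟨i, rfl | rfl⟩ := D.mem_big.1 hg <;> obtain ⟨j, rfl | rfl⟩ := D.mem_big.1 hg'
  · exact hy i j
  · exact ((ht i).symm.mul_right (hy i j)).eq
  · exact ((ht j).mul_left (hy i j)).eq
  · exact (((Commute.refl t).mul_right (ht j)).mul_left ((ht i).symm.mul_right (hy i j))).eq

theorem big_exponent {g : G} (hg : g ∈ bigTorus t y) : g ^ (2 * ((q + 1) / 4)) = 1 := by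
  obtain ⟨i, rfl | rfl⟩ := D.mem_big.1 hg
  · rw [← zpow_natCast (y ^ i), ← zpow_mul, mul_comm, zpow_mul, zpow_natCast, D.y_pow_two_a, one_zpow]
  · rw [(D.comm_ty.zpow_right i).mul_pow, pow_mul, pow_two, D.base.tt, one_pow, one_mul,
      ← zpow_natCast (y ^ i), ← zpow_mul, mul_comm, zpow_mul, zpow_natCast, D.y_pow_two_a, one_zpow]

/-- `g` in the torus is `g ^ a * g ^ (a + 1)`. -/
theorem split {g : G} (hg : g ∈ bigTorus t y) :
    g ^ ((q + 1) / 4) * g ^ ((q + 1) / 4 + 1) = g := by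
  rw [← pow_add, ← add_assoc, ← two_mul, pow_succ, D.big_exponent hg, one_mul]

theorem sq_one_cases {g : G} (hg : g ∈ bigTorus t y) (h2 : g * g = 1) :
    g = 1 ∨ g = t ∨ g = sInv q y ∨ g = t * sInv q y := by
  have key : ∀ i : ℤ, y ^ i * y ^ i = 1 → y ^ i = 1 ∨ y ^ i = sInv q y := by
    intro i hi
    rw [← zpow_add] at hi
    have hd := orderOf_dvd_iff_zpow_eq_one.2 hi
    rw [D.order_y, D.two_a, ← two_mul, Nat.cast_mul] at hd
    obtain ⟨k, rfl⟩ := (mul_dvd_mul_iff_left (two_ne_zero' ℤ)).1 hd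
    rw [zpow_mul, zpow_natCast]
    show sInv q y ^ k = 1 ∨ sInv q y ^ k = sInv q y
    have h2' : sInv q y ^ (2 : ℤ) = 1 := by rw [zpow_two, D.s_sq]
    rcases Int.even_or_odd' k with ⟨j, rfl | rfl⟩
    · left; rw [zpow_mul, h2', one_zpow]
    · right; rw [zpow_add, zpow_mul, h2', one_zpow, one_mul, zpow_one]
  obtain ⟨i, rfl | rfl⟩ := D.mem_big.1 hg
  · rcases key i h2 with e | e <;> rw [e] <;> simp
  · have h3 : y ^ i * y ^ i = 1 := by
      rw [← pow_two, (D.comm_ty.zpow_right i).mul_pow, pow_two, D.base.tt, one_mul, pow_two] at h2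
      exact h2
    rcases key i h3 with e | e <;> rw [e] <;> simp

theorem pow_a_cases {g : G} (hg : g ∈ bigTorus t y) :
    g ^ ((q + 1) / 4) = 1 ∨ g ^ ((q + 1) / 4) = t ∨ g ^ ((q + 1) / 4) = sInv q y ∨
      g ^ ((q + 1) / 4) = t * sInv q y :=
  D.sq_one_cases (pow_mem hg _) (by rw [← pow_add, ← two_mul, D.big_exponent hg])

theorem odd_pow {x : G} (hx : x ∈ oddPart y) : x ^ ((q + 1) / 4) = 1 := by
  obtain ⟨i, rfl⟩ := mem_zpowers_iff.1 hx
  rw [← zpow_natCast, ← zpow_mul, mul_comm, zpow_mul, zpow_natCast, D.y_sq_pow, one_zpow]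

theorem mem_odd {x : G} (hx : x ∈ bigTorus t y) (ha : x ^ ((q + 1) / 4) = 1) : x ∈ oddPart y := by
  obtain ⟨i, rfl | rfl⟩ := D.mem_big.1 hx
  · rw [← zpow_natCast (y ^ i), ← zpow_mul] at ha
    have hd := orderOf_dvd_iff_zpow_eq_one.2 ha
    rw [D.order_y, D.two_a, Nat.cast_mul] at hd
    have h0 : (((q + 1) / 4 : ℕ) : ℤ) ≠ 0 := by have := D.seven_le; omega
    obtain ⟨j, rfl⟩ := (mul_dvd_mul_iff_right h0).1 hd
    exact mem_zpowers_iff.2 ⟨j, by rw [zpow_mul, Nat.cast_ofNat, zpow_two, pow_two]⟩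
  · exfalso
    obtain ⟨k, hk⟩ := D.odd_a
    rw [(D.comm_ty.zpow_right i).mul_pow, hk, pow_succ t, pow_mul t, pow_two, D.base.tt, one_pow,
      one_mul, mul_eq_one_iff_eq_inv] at ha
    exact D.base.t_not_mem (ha ▸ inv_mem (pow_mem (zpow_mem D.y_mem i) _))

theorem pow_succ_mem_odd {g : G} (hg : g ∈ bigTorus t y) : g ^ ((q + 1) / 4 + 1) ∈ oddPart y := by
  refine D.mem_odd (pow_mem hg _) ?_
  obtain ⟨k, hk⟩ := D.odd_a
  rw [← pow_mul, show ((q + 1) / 4 + 1) * ((q + 1) / 4) = 2 * ((q + 1) / 4) * (k + 1) by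
    rw [hk]; ring, pow_mul, D.big_exponent hg, one_pow]

theorem card_odd : Nat.card (oddPart y) = (q + 1) / 4 := by
  rw [oddPart, Nat.card_zpowers, orderOf_pow_of_dvd (by omega) (by rw [D.order_y, D.two_a]; exact dvd_mul_right 2 _),
    D.order_y, D.two_a, Nat.mul_div_cancel_left _ two_pos]

theorem odd_three_le {x : G} (hx : x ∈ oddPart y) (hx1 : x ≠ 1) : 3 ≤ orderOf x := by
  have hd := orderOf_dvd_of_pow_eq_one (D.odd_pow hx)
  have h1 : orderOf x ≠ 1 := fun e => hx1 (orderOf_eq_one_iff.1 e)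
  have h0 : orderOf x ≠ 0 := fun e => by rw [e, zero_dvd_iff] at hd; have := D.seven_le; omega
  have h2 : orderOf x ≠ 2 := fun e => by
    rw [e] at hd
    have := Nat.odd_iff.1 D.odd_a
    omega
  omega

/-- The common centraliser of `t` and `s`. -/
theorem cent_s [Finite G] {g : G} (hgt : Commute g t) (hgs : Commute g (sInv q y)) :
    g ∈ bigTorus t y ∨ r * g ∈ bigTorus t y := by
  classical
  have key : ∀ k ∈ K, Commute k (sInv q y) → k ∈ zpowers y ∨ r * k ∈ zpowers y := by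
    intro k hk hks
    let T := {k : G // k ∈ K ∧ Commute k (y ^ ((q + 1) / 4))}
    let f : Bool × ↥(zpowers y) → T := fun p => ⟨(if p.1 then r else 1) * (p.2 : G), by
      obtain ⟨i, hi⟩ := mem_zpowers_iff.1 p.2.2
      have hys : Commute (p.2 : G) (y ^ ((q + 1) / 4)) := by
        rw [← hi]; exact ((Commute.refl y).zpow_left i).pow_right _
      refine ⟨mul_mem (by split; exacts [D.r_mem, one_mem _]) (hi ▸ zpow_mem D.y_mem i), ?_⟩
      split
      · exact D.comm_rs.mul_left hys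
      · rwa [one_mul]⟩
    have hf : Function.Injective f := by
      rintro ⟨b, z⟩ ⟨b', z'⟩ e
      have e' : (if b then r else 1) * (z : G) = (if b' then r else 1) * (z' : G) :=
        congrArg Subtype.val e
      cases b <;> cases b' <;> simp only [Bool.false_eq_true, if_false, if_true, one_mul] at e'
      · rw [Subtype.ext e']
      · exact absurd (eq_mul_inv_of_mul_eq e'.symm ▸ mul_mem z.2 (inv_mem z'.2)) D.r_not
      · exact absurd (eq_mul_inv_of_mul_eq e' ▸ mul_mem z'.2 (inv_mem z.2)) D.r_not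
      · rw [Subtype.ext (mul_left_cancel e')]
    have hb : Function.Bijective f := (Nat.bijective_iff_injective_and_card f).2 ⟨hf, by
      rw [show Nat.card T = q + 1 from D.card_cent, Nat.card_prod, Nat.card_zpowers, D.order_y,
        Nat.card_eq_fintype_card, Fintype.card_bool, D.two_a, ← mul_assoc]
      exact D.four_a⟩
    obtain ⟨⟨b, z⟩, hz⟩ := hb.2 ⟨k, hk, hks⟩
    have e : (if b then r else 1) * (z : G) = k := congrArg Subtype.val hz
    cases b <;> simp only [Bool.false_eq_true, if_false, if_true, one_mul] at e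
    · exact Or.inl (e ▸ z.2)
    · exact Or.inr (by rw [← e, ← mul_assoc, D.r_sq, one_mul]; exact z.2)
  rcases D.base.cases_comm D.s_mem hgt hgs with ⟨h1, h2⟩ | ⟨h1, h2⟩
  · exact (key g h1 h2).imp (fun h => mem_sup_right h) fun h => mem_sup_right h
  · refine (key _ h1 h2).imp (fun h => ?_) fun h => ?_
    · have := mul_mem D.t_mem_big (mem_sup_right h : t * g ∈ bigTorus t y)
      rwa [← mul_assoc, D.base.tt, one_mul] at this
    · have := mul_mem D.t_mem_big (mem_sup_right h : r * (t * g) ∈ bigTorus t y)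
      rwa [← mul_assoc r, ← D.comm_tr.eq, mul_assoc, ← mul_assoc t, D.base.tt, one_mul] at this

/-- `C(t) ∩ C(x) = W` for `1 ≠ x ∈ A`. -/
theorem cent_odd {x g : G} (hx : x ∈ oddPart y) (hx1 : x ≠ 1) (hgt : Commute g t) (hgx : Commute g x) :
    g ∈ bigTorus t y := by
  have hxy : x ∈ zpowers y := zpowers_le.2 (pow_mem (mem_zpowers y) 2) hx
  have hxK : x ∈ K := zpowers_le.2 D.y_mem hxy
  rcases D.base.cases_comm hxK hgt hgx with ⟨h1, h2⟩ | ⟨h1, h2⟩
  · exact mem_sup_right (D.tor x hxy (D.odd_three_le hx hx1) g h1 h2)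
  · have := mul_mem D.t_mem_big (mem_sup_right (D.tor x hxy (D.odd_three_le hx hx1) _ h1 h2) :
      t * g ∈ bigTorus t y)
    rwa [← mul_assoc, D.base.tt, one_mul] at this

/-- Elements outside the torus in `r W` are involutions. -/
theorem r_mul_sq {z : G} (hz : z ∈ bigTorus t y) : (r * z) * (r * z) = 1 := by
  have key : ∀ i : ℤ, r * y ^ i * (r * y ^ i) = 1 := fun i => by
    calc r * y ^ i * (r * y ^ i) = (r * y ^ i * r⁻¹) * y ^ i := by rw [D.r_inv_self]; group
      _ = 1 := by rw [D.r_conj_zpow, ← zpow_add, neg_add_cancel, zpow_zero]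
  obtain ⟨i, rfl | rfl⟩ := D.mem_big.1 hz
  · exact key i
  · rw [show r * (t * y ^ i) = t * (r * y ^ i) by rw [← mul_assoc, ← D.comm_tr.eq, mul_assoc],
      ← pow_two, (D.comm_tr.mul_right (D.comm_ty.zpow_right i)).mul_pow, pow_two, D.base.tt, one_mul, pow_two]
    exact key i

end Tor

end Cfsg.Agent.ReeInverted
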