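import Cfsg.Agent.EqLemmas
import Cfsg.Agent.Lib.ReeInverted.Sylow
import Cfsg.Agent.Lib.ReeInverted.Torus
import Cfsg.Agent.S0215

/-!
Fusion of involutions.

* `sylow_comm` : with an involution centraliser `⟨t⟩ × K` of odd index, `8 ∤ |K|`, a Sylow 2-subgroup is abelian
* `Setup.conj_all` : there is one class of involutions
* `Cyc` : an element of order three cycling `t`, `s`, `ts`
-/

set_option autoImplicit false
set_option linter.unusedSectionVars false

namespace Cfsg.Agent.ReeInverted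

open Subgroup GoldschmidtFree

variable {G : Type*} [Group G]

theorem prod_cases {t : G} {K : Subgroup G} (ht : orderOf t = 2)
    (hprod : Cfsg.IsInternalDirectProduct (zpowers t) K (centralizer ({t} : Set G))) {g : G}
    (hg : Commute g t) : g ∈ K ∨ t * g ∈ K := by
  have tt : t * t = 1 := by rw [← pow_two, ← ht, pow_orderOf_eq_one]
  have hg' : g ∈ zpowers t ⊔ K := hprod.2.2.2.2.symm ▸ mem_centralizer_singleton_iff.2 hg.eq
  have hn : zpowers t ≤ normalizer (K : Set G) := zpowers_le.2 (mem_normalizer_iff.2 fun x => by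
    have hc : ∀ k ∈ K, t * k = k * t := fun k hk => hprod.2.2.1 t (mem_zpowers t) k hk
    refine ⟨fun hx => ?_, fun hx => ?_⟩
    · rwa [hc x hx, mul_inv_cancel_right]
    · have h1 := hc _ hx
      rw [inv_mul_cancel_right] at h1
      rwa [show t * x * t⁻¹ = x from mul_left_cancel h1] at hx)
  rw [← SetLike.mem_coe, coe_mul_of_left_le_normalizer_right _ _ hn] at hg'
  obtain ⟨z, hz, k, hk, rfl⟩ := hg'
  obtain ⟨i, rfl⟩ := mem_zpowers_iff.1 hz
  have h2 : t ^ (2 : ℤ) = 1 := by rw [zpow_two, tt]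
  rcases Int.even_or_odd' i with ⟨j, rfl | rfl⟩
  · refine Or.inl ?_
    show t ^ (2 * j) * k ∈ K
    rw [zpow_mul, h2, one_zpow, one_mul]; exact hk
  · refine Or.inr ?_
    show t * (t ^ (2 * j + 1) * k) ∈ K
    rw [zpow_add, zpow_mul, h2, one_zpow, one_mul, zpow_one, ← mul_assoc, tt, one_mul]
    exact hk

/-- A Sylow subgroup through `t` inside the centraliser of `t`. -/
theorem exists_sylow_le [Finite G] {t : G} (ht : orderOf t = 2)
    (hidx : Odd (centralizer ({t} : Set G)).index) :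
    ∃ P : Sylow 2 G, t ∈ P ∧ (P : Subgroup G) ≤ centralizer ({t} : Set G) := by
  have : Fact (Nat.Prime 2) := ⟨Nat.prime_two⟩
  set C := centralizer ({t} : Set G) with hC
  let t' : C := ⟨t, mem_centralizer_singleton_iff.2 rfl⟩
  obtain ⟨P', hP'⟩ := (IsPGroup.of_card (p := 2) (n := 1) (G := zpowers t')
    (by rw [Nat.card_zpowers, ← orderOf_coe, ht, pow_one])).exists_le_sylow
  obtain ⟨P, hP⟩ := (P'.2.map C.subtype).exists_le_sylow
  have hPe : (P : Subgroup G) = (P' : Subgroup C).map C.subtype := by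
    refine (eq_of_le_of_card_ge hP ?_).symm
    rw [Nat.card_congr ((P' : Subgroup C).equivMapOfInjective C.subtype C.subtype_injective).symm.toEquiv,
      Sylow.card_eq_multiplicity P, Sylow.card_eq_multiplicity P', ← C.card_mul_index,
      Nat.factorization_mul Nat.card_pos.ne' index_ne_zero_of_finite, Finsupp.add_apply,
      Nat.factorization_eq_zero_of_not_dvd
        (fun h2 => (Nat.not_even_iff_odd.2 hidx) (even_iff_two_dvd.2 h2)), add_zero]
  exact ⟨P, hP ⟨t', hP' (mem_zpowers t'), rfl⟩, hPe ▸ map_subtype_le _⟩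

/-- Sylow 2-subgroups are abelian. -/
theorem sylow_comm [Finite G] {t : G} {K : Subgroup G} (ht : orderOf t = 2)
    (hidx : Odd (centralizer ({t} : Set G)).index)
    (hprod : Cfsg.IsInternalDirectProduct (zpowers t) K (centralizer ({t} : Set G)))
    (hK : ¬ 8 ∣ Nat.card K) (S : Sylow 2 G) :
    ∀ a ∈ (S : Subgroup G), ∀ b ∈ (S : Subgroup G), a * b = b * a := by
  have : Fact (Nat.Prime 2) := ⟨Nat.prime_two⟩
  have tt : t * t = 1 := by rw [← pow_two, ← ht, pow_orderOf_eq_one]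
  obtain ⟨P, htP, hPC⟩ := exists_sylow_le ht hidx
  have hQ : ∀ k ∈ (P : Subgroup G) ⊓ K, ∀ l ∈ (P : Subgroup G) ⊓ K, k * l = l * k := by
    set Q := (P : Subgroup G) ⊓ K with hQd
    obtain ⟨j, hj⟩ := IsPGroup.iff_card.1 (P.2.to_le (inf_le_left : Q ≤ _))
    have hd : 2 ^ j ∣ Nat.card K := hj ▸ card_dvd_of_le inf_le_right
    have hj2 : j ≤ 2 := by
      by_contra hgt
      exact hK ((pow_dvd_pow 2 (by omega : 3 ≤ j)).trans hd)
    have hc : IsMulCommutative Q := by
      interval_cases j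
      · have := Nat.card_eq_one_iff_unique.1 (hj.trans (pow_zero 2))
        exact ⟨⟨fun a b => this.1.elim _ _⟩⟩
      · have : IsCyclic Q := isCyclic_of_prime_card (p := 2) (hj.trans (pow_one 2))
        infer_instance
      · exact IsPGroup.isMulCommutative_of_card_eq_prime_sq (p := 2) hj
    intro k hk l hl
    exact congrArg Subtype.val (hc.is_comm.comm ⟨k, hk⟩ ⟨l, hl⟩)
  have hP : ∀ a ∈ (P : Subgroup G), ∀ b ∈ (P : Subgroup G), a * b = b * a := by
    intro a ha b hb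
    have hat : Commute a t := mem_centralizer_singleton_iff.1 (hPC ha)
    have hbt : Commute b t := mem_centralizer_singleton_iff.1 (hPC hb)
    have hs : ∀ c ∈ (P : Subgroup G), Commute c t →
        ∃ k ∈ (P : Subgroup G) ⊓ K, c = k ∨ c = t * k := fun c hc hct =>
      (prod_cases ht hprod hct).elim (fun h1 => ⟨c, ⟨hc, h1⟩, Or.inl rfl⟩)
        fun h1 => ⟨t * c, ⟨mul_mem htP hc, h1⟩, Or.inr (by rw [← mul_assoc, tt, one_mul])⟩
    obtain ⟨k, hk, hak⟩ := hs a ha hat
    obtain ⟨l, hl, hbl⟩ := hs b hb hbt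
    have hkt : Commute k t := mem_centralizer_singleton_iff.1 (hPC hk.1)
    have hlt : Commute l t := mem_centralizer_singleton_iff.1 (hPC hl.1)
    have hkl : Commute k l := hQ k hk l hl
    rcases hak with rfl | rfl <;> rcases hbl with rfl | rfl
    · exact hkl
    · exact (hkt.mul_right hkl).eq
    · exact (hlt.symm.mul_left hkl).eq
    · exact (((Commute.refl t).mul_right hlt.symm).mul_left (hkt.mul_right hkl)).eq
  obtain ⟨g, hg⟩ := MulAction.exists_smul_eq G P S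
  have key : ∀ a ∈ (S : Subgroup G), ∃ p ∈ (P : Subgroup G), g * p * g⁻¹ = a := by
    intro a ha
    rw [← hg, Sylow.coe_subgroup_smul] at ha
    obtain ⟨p, hp, e⟩ := ha
    exact ⟨p, hp, e⟩
  intro a ha b hb
  obtain ⟨p, hp, rfl⟩ := key a ha
  obtain ⟨p', hp', rfl⟩ := key b hb
  calc g * p * g⁻¹ * (g * p' * g⁻¹) = g * (p * p') * g⁻¹ := by group
    _ = g * (p' * p) * g⁻¹ := by rw [hP p hp p' hp']
    _ = _ := by group

namespace Setup

variable [Finite G] {t : G} {K : Subgroup G} {q : ℕ} (h : Setup t K q)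
include h

theorem not_eight_dvd : ¬ 8 ∣ Nat.card K := by
  intro h8
  have h16 : 16 ∣ q * ((q + 1) * (q - 1)) := h.facts.card ▸ Nat.mul_dvd_mul_left 2 h8
  obtain ⟨b, hb⟩ : ∃ b, q = 8 * b + 3 := ⟨q / 8, by have := h.mod_eight; omega⟩
  subst hb
  rw [show (8 * b + 3) * ((8 * b + 3 + 1) * (8 * b + 3 - 1)) =
    16 * (32 * b ^ 3 + 36 * b ^ 2 + 13 * b + 1) + 8 by
      rw [show 8 * b + 3 - 1 = 8 * b + 2 by omega]; ring] at h16
  omega

theorem comm_sylow (S : Sylow 2 G) : ∀ a ∈ (S : Subgroup G), ∀ b ∈ (S : Subgroup G), a * b = b * a :=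
  sylow_comm h.ht h.odd_index h.prod h.not_eight_dvd S

/-- Two commuting involutions are not swapped. -/
theorem no_swap {u v n : G} (hu : u * u = 1) (hv : v * v = 1) (huv : Commute u v)
    (h1 : n * u * n⁻¹ = v) (h2 : n * v * n⁻¹ = u) : u = v := by
  have : Fact (Nat.Prime 2) := ⟨Nat.prime_two⟩
  obtain ⟨m, hm, k, hk⟩ := Involves.exists_primary_pow (q := 2) n
  obtain ⟨j, rfl⟩ : Odd m := Nat.odd_iff.2 (by omega)
  have hsw : ∀ i : ℕ, n ^ (2 * i + 1) * u * (n ^ (2 * i + 1))⁻¹ = v ∧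
      n ^ (2 * i + 1) * v * (n ^ (2 * i + 1))⁻¹ = u := by
    intro i
    induction i with
    | zero => simpa using ⟨h1, h2⟩
    | succ i ih =>
      have e : ∀ z : G, n ^ (2 * (i + 1) + 1) * z * (n ^ (2 * (i + 1) + 1))⁻¹ =
          n * (n * (n ^ (2 * i + 1) * z * (n ^ (2 * i + 1))⁻¹) * n⁻¹) * n⁻¹ := fun z => by
        rw [show 2 * (i + 1) + 1 = (2 * i + 1) + 1 + 1 by ring, pow_succ', pow_succ']
        group
      exact ⟨by rw [e, ih.1, h2, h1], by rw [e, ih.2, h1, h2]⟩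
  set c := n ^ (2 * j + 1) with hc
  have hpu : ∀ {z : G}, z * z = 1 → IsPGroup 2 (zpowers z) := fun {z} hz => by
    obtain ⟨i, -, hi⟩ := (Nat.dvd_prime_pow Nat.prime_two).1
      (orderOf_dvd_of_pow_eq_one (show z ^ 2 ^ 1 = 1 by rw [pow_one, pow_two, hz]))
    exact IsPGroup.of_card (n := i) (by rw [Nat.card_zpowers, hi])
  have hnu : zpowers u ≤ normalizer (zpowers v : Set G) := zpowers_le.2 (by
    rw [mem_normalizer_iff_map_conj_eq, MonoidHom.map_zpowers]
    congr 1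
    show u * v * u⁻¹ = v
    rw [huv.eq, mul_inv_cancel_right])
  have hV : IsPGroup 2 (zpowers u ⊔ zpowers v : Subgroup G) :=
    IsPGroup.to_sup_of_normal_right' (hpu hu) (hpu hv) hnu
  have hnc : zpowers c ≤ normalizer ((zpowers u ⊔ zpowers v : Subgroup G) : Set G) := zpowers_le.2 (by
    rw [mem_normalizer_iff_map_conj_eq, Subgroup.map_sup, MonoidHom.map_zpowers, MonoidHom.map_zpowers]
    show zpowers (c * u * c⁻¹) ⊔ zpowers (c * v * c⁻¹) = _
    rw [(hsw j).1, (hsw j).2, sup_comm])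
  have hP := IsPGroup.to_sup_of_normal_right' (IsPGroup.of_card (p := 2) (n := k) (G := zpowers c)
    (by rw [Nat.card_zpowers, hk])) hV hnc
  obtain ⟨S, hS⟩ := hP.exists_le_sylow
  have e := h.comm_sylow S c (hS (mem_sup_left (mem_zpowers c))) u
    (hS (mem_sup_right (mem_sup_left (mem_zpowers u))))
  rw [← (hsw j).1, e, mul_inv_cancel_right]

/-- Involutions of the centraliser of `t`. -/
theorem conj_four {s i : G} (hs : s ∈ K) (hso : orderOf s = 2) (hi : Commute i t) (hio : orderOf i = 2)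
    (hit : i ≠ t) : ∃ c ∈ K, c * s * c⁻¹ = i ∨ c * (t * s) * c⁻¹ = i := by
  have key : ∀ j ∈ K, orderOf j = 2 → ∃ c ∈ K, c * s * c⁻¹ = j := by
    intro j hj hjo
    obtain ⟨c, hc⟩ := isConj_iff.1 (h.facts.invol ⟨s, hs⟩ ⟨j, hj⟩ (by rwa [← orderOf_coe])
      (by rwa [← orderOf_coe]))
    exact ⟨c, c.2, by simpa using congrArg Subtype.val hc⟩
  rcases h.cases hi with h1 | h1
  · obtain ⟨c, hc, e⟩ := key i h1 hio
    exact ⟨c, hc, Or.inl e⟩
  · have hi2 : i * i = 1 := by rw [← pow_two, ← hio, pow_orderOf_eq_one]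
    obtain ⟨c, hc, e⟩ := key _ h1 (orderOf_eq_prime (by
        rw [hi.symm.mul_pow, pow_two, pow_two, h.tt, hi2, one_mul])
      (fun e => hit (by rw [← inv_eq_of_mul_eq_one_right e, h.inv_t])))
    refine ⟨c, hc, Or.inr ?_⟩
    calc c * (t * s) * c⁻¹ = (c * t) * s * c⁻¹ := by group
      _ = t * (c * s * c⁻¹) := by rw [← (h.comm_t hc).eq]; group
      _ = i := by rw [e, ← mul_assoc, h.tt, one_mul]

theorem exists_moved {s : G} (hs : s ∈ K) (hso : orderOf s = 2) :
    ∃ g : G, g * t * g⁻¹ = s ∨ g * t * g⁻¹ = t * s := by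
  by_contra hno
  push Not at hno
  obtain ⟨P, htP, hPC⟩ := exists_sylow_le h.ht h.odd_index
  obtain ⟨N, hN, hNodd, hcom⟩ := Cfsg.Agent.S0215.result P t h.ht htP fun g hg => by
    by_contra hne
    obtain ⟨c, -, hc⟩ := h.conj_four hs hso (mem_centralizer_singleton_iff.1 (hPC hg))
      (by rw [← MulAut.conj_apply, MulEquiv.orderOf_eq]; exact h.ht) hne
    rcases hc with hc | hc
    · exact (hno (c⁻¹ * g)).1 (by
        calc c⁻¹ * g * t * (c⁻¹ * g)⁻¹ = c⁻¹ * (g * t * g⁻¹) * c := by group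
          _ = s := by rw [← hc]; group)
    · exact (hno (c⁻¹ * g)).2 (by
        calc c⁻¹ * g * t * (c⁻¹ * g)⁻¹ = c⁻¹ * (g * t * g⁻¹) * c := by group
          _ = t * s := by rw [← hc]; group)
  have := h.simple
  rcases hN.eq_bot_or_eq_top with hb | hb
  · have hz : t ∈ center G := mem_center_iff.2 fun g => by
      have h1 := hcom g
      rw [hb, mem_bot, mul_inv_eq_one, mul_inv_eq_iff_eq_mul] at h1
      exact h1.symm
    rcases (inferInstance : (center G).Normal).eq_bot_or_eq_top with hc | hc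
    · rw [hc, mem_bot] at hz; exact h.ne_one hz
    · obtain ⟨a, b, hab⟩ := h.ne_comm
      exact hab (mem_center_iff.1 (hc ▸ mem_top b) a)
  · rw [hb, card_top] at hNodd
    exact (Nat.not_even_iff_odd.2 hNodd) (even_iff_two_dvd.2 (h.ht ▸ orderOf_dvd_natCard t))

/-- An element inducing a 3-cycle on `{t, s, ts}`. -/
theorem exists_cycle {s : G} (hs : s ∈ K) (hso : orderOf s = 2) :
    ∃ n : G, n * t * n⁻¹ = s ∧ n * s * n⁻¹ = t * s := by
  obtain ⟨g, hg⟩ := h.exists_moved hs hso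
  have hts : Commute t s := h.comm_t hs
  have hs2 : s * s = 1 := by rw [← pow_two, ← hso, pow_orderOf_eq_one]
  have hs1 : s ≠ 1 := fun e => by simp [e] at hso
  set v := g * t * g⁻¹ with hv
  have hvt : Commute v t := by
    rcases hg with e | e <;> rw [e]
    exacts [hts.symm, (Commute.refl t).mul_left hts.symm]
  have hvne : v ≠ t := by
    rcases hg with e | e <;> rw [e]
    exacts [fun e' => h.t_not_mem (e' ▸ hs), fun e' => hs1 (mul_eq_left.1 e')]
  obtain ⟨c, hc, hci⟩ := h.conj_four hs hso (i := g⁻¹ * t * g) (by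
      show g⁻¹ * t * g * t = t * (g⁻¹ * t * g)
      calc g⁻¹ * t * g * t = g⁻¹ * (t * v) * g := by rw [hv]; group
        _ = g⁻¹ * (v * t) * g := by rw [hvt.eq]
        _ = _ := by rw [hv]; group)
    (by rw [show g⁻¹ * t * g = MulAut.conj g⁻¹ t by simp, MulEquiv.orderOf_eq]; exact h.ht)
    (fun e => hvne (by
      calc v = g * t * g⁻¹ := hv
        _ = g * (g⁻¹ * t * g) * g⁻¹ := by rw [e]
        _ = t := by group))
  have hnt : g * c * t * (g * c)⁻¹ = v := by
    calc g * c * t * (g * c)⁻¹ = g * ((c * t) * c⁻¹) * g⁻¹ := by group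
      _ = v := by rw [← (h.comm_t hc).eq, mul_inv_cancel_right]
  have hns : g * c * s * (g * c)⁻¹ = t ∨ g * c * s * (g * c)⁻¹ = v * t := by
    rcases hci with e | e
    · left
      calc g * c * s * (g * c)⁻¹ = g * (c * s * c⁻¹) * g⁻¹ := by group
        _ = t := by rw [e]; group
    · right
      calc g * c * s * (g * c)⁻¹ = g * c * (t * (t * s)) * (g * c)⁻¹ := by
            rw [← mul_assoc t, h.tt, one_mul]
        _ = (g * c * t * (g * c)⁻¹) * (g * (c * (t * s) * c⁻¹) * g⁻¹) := by group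
        _ = v * t := by rw [hnt, e]; group
  rcases hg with e | e
  · rcases hns with e' | e'
    · exact absurd ((h.no_swap h.tt hs2 hts (hnt.trans e) e').symm ▸ hs) h.t_not_mem
    · exact ⟨g * c, hnt.trans e, by rw [e', e, hts.symm.eq]⟩
  · have hts2 : (t * s) * (t * s) = 1 := by
      rw [← pow_two, hts.mul_pow, pow_two, pow_two, h.tt, hs2, one_mul]
    rcases hns with e' | e'
    · set n := g * c
      have hnts : n * (t * s) * n⁻¹ = s := by
        calc n * (t * s) * n⁻¹ = (n * t * n⁻¹) * (n * s * n⁻¹) := by group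
          _ = s := by rw [hnt, e', e, hts.eq, mul_assoc, h.tt, mul_one]
      refine ⟨n⁻¹, ?_, ?_⟩
      · conv_lhs => rw [← e']
        group
      · conv_lhs => rw [← hnts]
        group
    · set n := g * c
      have e'' : n * s * n⁻¹ = s := by rw [e', e, hts.eq, mul_assoc, h.tt, mul_one]
      have hnts : n * (t * s) * n⁻¹ = t := by
        calc n * (t * s) * n⁻¹ = (n * t * n⁻¹) * (n * s * n⁻¹) := by group
          _ = t := by rw [hnt, e'', e, mul_assoc, hs2, mul_one]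
      exact absurd (mul_eq_left.1 (h.no_swap h.tt hts2 ((Commute.refl t).mul_right hts) (hnt.trans e)
        hnts).symm) hs1

/-- One class of involutions. -/
theorem conj_all {x : G} (hx : orderOf x = 2) : ∃ g : G, g * x * g⁻¹ = t := by
  have : Fact (Nat.Prime 2) := ⟨Nat.prime_two⟩
  obtain ⟨y, r, D⟩ := exists_tor h
  obtain ⟨n, hn1, hn2⟩ := h.exists_cycle D.s_mem D.s_order
  obtain ⟨P, htP, hPC⟩ := exists_sylow_le h.ht h.odd_index
  obtain ⟨Q, hQ⟩ := (IsPGroup.of_card (p := 2) (n := 1) (G := zpowers x)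
    (by rw [Nat.card_zpowers, hx, pow_one])).exists_le_sylow
  obtain ⟨g, hg⟩ := MulAction.exists_smul_eq G Q P
  have hmem : g * x * g⁻¹ ∈ (P : Subgroup G) := by
    rw [← hg, Sylow.coe_subgroup_smul]
    exact Subgroup.smul_mem_pointwise_smul x (MulAut.conj g) _ (hQ (mem_zpowers x))
  by_cases he : g * x * g⁻¹ = t
  · exact ⟨g, he⟩
  obtain ⟨c, -, hc⟩ := h.conj_four D.s_mem D.s_order (mem_centralizer_singleton_iff.1 (hPC hmem))
    (by rw [← MulAut.conj_apply, MulEquiv.orderOf_eq]; exact hx) he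
  rcases hc with hc | hc
  · exact ⟨n⁻¹ * c⁻¹ * g, by
      calc n⁻¹ * c⁻¹ * g * x * (n⁻¹ * c⁻¹ * g)⁻¹ = n⁻¹ * (c⁻¹ * (g * x * g⁻¹) * c) * n := by group
        _ = t := by
          rw [← hc, show c⁻¹ * (c * sInv q y * c⁻¹) * c = sInv q y by group, ← hn1]; group⟩
  · exact ⟨n⁻¹ * n⁻¹ * c⁻¹ * g, by
      calc n⁻¹ * n⁻¹ * c⁻¹ * g * x * (n⁻¹ * n⁻¹ * c⁻¹ * g)⁻¹
          = n⁻¹ * (n⁻¹ * (c⁻¹ * (g * x * g⁻¹) * c) * n) * n := by
            simp only [mul_inv_rev, inv_inv, mul_assoc]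
        _ = t := by
          rw [← hc, show c⁻¹ * (c * (t * sInv q y) * c⁻¹) * c = t * sInv q y by group, ← hn2,
            show n⁻¹ * (n * sInv q y * n⁻¹) * n = sInv q y by group, ← hn1]
          group⟩

end Setup

/-- An element of order three permuting `t`, `s`, `ts` cyclically. -/
structure Cyc (t : G) (K : Subgroup G) (q : ℕ) (y r w : G) : Prop where
  torData : Tor t K q y r
  order : orderOf w = 3
  wt : w * t * w⁻¹ = sInv q y
  ws : w * sInv q y * w⁻¹ = t * sInv q y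

theorem exists_cyc [Finite G] {t : G} {K : Subgroup G} {q : ℕ} (h : Setup t K q) :
    ∃ y r w : G, Cyc t K q y r w := by
  have : Fact (Nat.Prime 3) := ⟨Nat.prime_three⟩
  obtain ⟨y, r, D⟩ := exists_tor h
  obtain ⟨n, hn1, hn2⟩ := h.exists_cycle D.s_mem D.s_order
  have hn3 : n * (t * sInv q y) * n⁻¹ = t := by
    calc n * (t * sInv q y) * n⁻¹ = (n * t * n⁻¹) * (n * sInv q y * n⁻¹) := by group
      _ = t := by rw [hn1, hn2, ← mul_assoc, ← D.comm_ts.eq, mul_assoc, D.s_sq, mul_one]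
  have hper : ∀ i : ℕ, n ^ (3 * i) * t * (n ^ (3 * i))⁻¹ = t ∧
      n ^ (3 * i) * sInv q y * (n ^ (3 * i))⁻¹ = sInv q y := by
    intro i
    induction i with
    | zero => simp
    | succ i ih =>
      have e : ∀ z : G, n ^ (3 * (i + 1)) * z * (n ^ (3 * (i + 1)))⁻¹ =
          n * (n * (n * (n ^ (3 * i) * z * (n ^ (3 * i))⁻¹) * n⁻¹) * n⁻¹) * n⁻¹ := fun z => by
        rw [show 3 * (i + 1) = 3 * i + 1 + 1 + 1 by ring, pow_succ', pow_succ', pow_succ']
        group
      exact ⟨by rw [e, ih.1, hn1, hn2, hn3], by rw [e, ih.2, hn2, hn3, hn1]⟩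
  obtain ⟨m, hm, k, hk⟩ := Involves.exists_primary_pow (q := 3) n
  obtain ⟨e, j, he, hd⟩ : ∃ e j, e = 3 * j + 1 ∧ m ∣ e := by
    rcases (show m % 3 = 1 ∨ m % 3 = 2 by omega) with h1 | h1
    · exact ⟨m, m / 3, by omega, dvd_rfl⟩
    · exact ⟨2 * m, 2 * m / 3, by omega, dvd_mul_left m 2⟩
  set w := n ^ e with hw
  have hwt : w * t * w⁻¹ = sInv q y := by
    rw [hw, he, pow_succ', ← hn1]
    calc n * n ^ (3 * j) * t * (n * n ^ (3 * j))⁻¹ = n * (n ^ (3 * j) * t * (n ^ (3 * j))⁻¹) * n⁻¹ := by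
          group
      _ = _ := by rw [(hper j).1]
  have hws : w * sInv q y * w⁻¹ = t * sInv q y := by
    rw [hw, he, pow_succ', ← hn2]
    calc n * n ^ (3 * j) * sInv q y * (n * n ^ (3 * j))⁻¹
        = n * (n ^ (3 * j) * sInv q y * (n ^ (3 * j))⁻¹) * n⁻¹ := by group
      _ = _ := by rw [(hper j).2]
  obtain ⟨b, hb⟩ := hd
  have hdvd : orderOf w ∣ 3 ^ k := by
    rw [hw, hb, pow_mul, ← hk]; exact orderOf_pow_dvd _
  obtain ⟨i, -, hi⟩ := (Nat.dvd_prime_pow Nat.prime_three).1 hdvd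
  refine ⟨y, r, w, D, ?_, hwt, hws⟩
  refine orderOf_eq_prime (h.cube_one hi) fun e1 => ?_
  rw [e1, one_mul, inv_one, mul_one] at hwt
  exact h.t_not_mem (hwt ▸ D.s_mem)

namespace Cyc

variable {t : G} {K : Subgroup G} {q : ℕ} {y r w : G} (E : Cyc t K q y r w)
include E

theorem cube : w ^ 3 = 1 := E.order ▸ pow_orderOf_eq_one w

theorem inv_w : w⁻¹ = w * w :=
  inv_eq_of_mul_eq_one_right (by rw [← E.cube, pow_succ, pow_two]; group)

theorem wts : w * (t * sInv q y) * w⁻¹ = t := by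
  calc w * (t * sInv q y) * w⁻¹ = (w * t * w⁻¹) * (w * sInv q y * w⁻¹) := by group
    _ = t := by rw [E.wt, E.ws, ← mul_assoc, ← E.torData.comm_ts.eq, mul_assoc, E.torData.s_sq, mul_one]

/-- `w` normalises the odd part. -/
theorem conj_odd [Finite G] {x : G} (hx : x ∈ oddPart y) : w * x * w⁻¹ ∈ oddPart y := by
  have D := E.torData
  have hxW := D.odd_le_big hx
  have hst : Commute (w * x * w⁻¹) (sInv q y) := by
    rw [← E.wt, Commute, SemiconjBy]
    calc w * x * w⁻¹ * (w * t * w⁻¹) = w * (x * t) * w⁻¹ := by group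
      _ = w * (t * x) * w⁻¹ := by rw [D.big_comm hxW D.t_mem_big]
      _ = _ := by group
  have htt : Commute (w * x * w⁻¹) t := by
    rw [Commute, SemiconjBy]
    calc w * x * w⁻¹ * t = w * x * w⁻¹ * (w * (t * sInv q y) * w⁻¹) := by rw [E.wts]
      _ = w * (x * (t * sInv q y)) * w⁻¹ := by group
      _ = w * ((t * sInv q y) * x) * w⁻¹ := by rw [D.big_comm hxW (mul_mem D.t_mem_big D.s_mem_big)]
      _ = (w * (t * sInv q y) * w⁻¹) * (w * x * w⁻¹) := by group
      _ = _ := by rw [E.wts]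
  have ha : (w * x * w⁻¹) ^ ((q + 1) / 4) = 1 := by rw [conj_pow, D.odd_pow hx, mul_one, mul_inv_cancel]
  rcases D.cent_s htt hst with h1 | h1
  · exact D.mem_odd h1 ha
  · have h2 := D.r_mul_sq h1
    rw [← mul_assoc r r, D.r_sq, one_mul] at h2
    obtain ⟨j, hj⟩ := D.odd_a
    rw [hj, pow_succ, pow_mul, pow_two, h2, one_pow, one_mul] at ha
    rw [ha]; exact one_mem _

theorem pow_conj_odd [Finite G] (j : ℕ) {x : G} (hx : x ∈ oddPart y) :
    w ^ j * x * (w ^ j)⁻¹ ∈ oddPart y := by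
  induction j with
  | zero => simpa using hx
  | succ j ih =>
    rw [pow_succ', show w * w ^ j * x * (w * w ^ j)⁻¹ = w * (w ^ j * x * (w ^ j)⁻¹) * w⁻¹ by group]
    exact E.conj_odd ih

/-- `w` normalises the torus. -/
theorem conj_big [Finite G] {z : G} (hz : z ∈ bigTorus t y) : w * z * w⁻¹ ∈ bigTorus t y := by
  have D := E.torData
  rw [← D.split hz, show w * (z ^ ((q + 1) / 4) * z ^ ((q + 1) / 4 + 1)) * w⁻¹ =
    (w * z ^ ((q + 1) / 4) * w⁻¹) * (w * z ^ ((q + 1) / 4 + 1) * w⁻¹) by group]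
  refine mul_mem ?_ (D.odd_le_big (E.conj_odd (D.pow_succ_mem_odd hz)))
  rcases D.pow_a_cases hz with e | e | e | e <;> rw [e]
  · rw [mul_one, mul_inv_cancel]; exact one_mem _
  · rw [E.wt]; exact D.s_mem_big
  · rw [E.ws]; exact mul_mem D.t_mem_big D.s_mem_big
  · rw [E.wts]; exact D.t_mem_big

theorem pow_conj_big [Finite G] (j : ℕ) {x : G} (hx : x ∈ bigTorus t y) :
    w ^ j * x * (w ^ j)⁻¹ ∈ bigTorus t y := by
  induction j with
  | zero => simpa using hx
  | succ j ih =>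
    rw [pow_succ', show w * w ^ j * x * (w * w ^ j)⁻¹ = w * (w ^ j * x * (w ^ j)⁻¹) * w⁻¹ by group]
    exact E.conj_big ih

theorem inv_pow_conj_big [Finite G] (j : ℕ) {x : G} (hx : x ∈ bigTorus t y) :
    (w ^ j)⁻¹ * x * w ^ j ∈ bigTorus t y := by
  have e : (w ^ j)⁻¹ = w ^ (2 * j) := inv_eq_of_mul_eq_one_right (by
    rw [← pow_add, show j + 2 * j = 3 * j by ring, pow_mul, E.cube, one_pow])
  have := E.pow_conj_big (2 * j) hx
  rwa [← e, inv_inv] at this

/-- The normaliser of `{1, t, s, ts}` is `⟨w⟩ C(t, s)`. -/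
theorem mem_cases [Finite G] {g : G} (hgt : g * t * g⁻¹ ∈ bigTorus t y)
    (hgs : g * sInv q y * g⁻¹ ∈ bigTorus t y) :
    ∃ j : ℕ, j < 3 ∧ ∃ z ∈ bigTorus t y, g = w ^ j * z ∨ g = w ^ j * (r * z) := by
  have D := E.torData
  have hsq : ∀ u : G, u * u = 1 → (g * u * g⁻¹) * (g * u * g⁻¹) = 1 := fun u hu => by
    calc g * u * g⁻¹ * (g * u * g⁻¹) = g * (u * u) * g⁻¹ := by group
      _ = 1 := by rw [hu, mul_one, mul_inv_cancel]
  have hne : ∀ u : G, u ≠ 1 → g * u * g⁻¹ ≠ 1 := fun u hu e => hu (conj_eq_one_iff.1 e)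
  obtain ⟨j, hj, ej⟩ : ∃ j : ℕ, j < 3 ∧ g * t * g⁻¹ = w ^ j * t * (w ^ j)⁻¹ := by
    rcases D.sq_one_cases hgt (hsq _ D.base.tt) with e | e | e | e
    · exact absurd e (hne _ D.base.ne_one)
    · exact ⟨0, by norm_num, by simp [e]⟩
    · exact ⟨1, by norm_num, by rw [pow_one, e, E.wt]⟩
    · refine ⟨2, by norm_num, ?_⟩
      rw [e, pow_two, show w * w * t * (w * w)⁻¹ = w * (w * t * w⁻¹) * w⁻¹ by group, E.wt, E.ws]
  set g' := (w ^ j)⁻¹ * g with hg'
  have hg't : Commute g' t := by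
    have : g' * t * g'⁻¹ = t := by
      calc g' * t * g'⁻¹ = (w ^ j)⁻¹ * (g * t * g⁻¹) * w ^ j := by rw [hg']; group
        _ = t := by rw [ej]; group
    exact mul_inv_eq_iff_eq_mul.1 this
  have hK : g' * sInv q y * g'⁻¹ ∈ K := D.base.conj_mem hg't D.s_mem
  have hW : g' * sInv q y * g'⁻¹ ∈ bigTorus t y := by
    rw [show g' * sInv q y * g'⁻¹ = (w ^ j)⁻¹ * (g * sInv q y * g⁻¹) * w ^ j by rw [hg']; group]
    exact E.inv_pow_conj_big j hgs
  have hs : g' * sInv q y * g'⁻¹ = sInv q y := by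
    rcases D.sq_one_cases hW (by
      calc g' * sInv q y * g'⁻¹ * (g' * sInv q y * g'⁻¹) = g' * (sInv q y * sInv q y) * g'⁻¹ := by group
        _ = 1 := by rw [D.s_sq, mul_one, mul_inv_cancel]) with e | e | e | e
    · exact absurd (conj_eq_one_iff.1 e) D.s_ne_one
    · exact absurd (e ▸ hK) D.base.t_not_mem
    · exact e
    · rw [e] at hK
      exact absurd ((mul_mem_cancel_right D.s_mem).1 hK) D.base.t_not_mem
  have hcs : Commute g' (sInv q y) := mul_inv_eq_iff_eq_mul.1 hs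
  rcases D.cent_s hg't hcs with h1 | h1
  · exact ⟨j, hj, g', h1, Or.inl (by rw [hg', mul_inv_cancel_left])⟩
  · exact ⟨j, hj, r * g', h1, Or.inr (by
      rw [← mul_assoc r r, D.r_sq, one_mul, hg', mul_inv_cancel_left])⟩

end Cyc

end Cfsg.Agent.ReeInverted
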