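import Cfsg.Agent.EqLemmas
import Cfsg.Agent.Lib.ReeInverted.Fusion
import Cfsg.Agent.Lib.BSW.FourGroup
import Cfsg.Agent.Lib.Coprime.Generation

/-!
The action of `w` on the odd part of the torus.

* `Cyc.not_fixes` : `w` moves some element of `A`
* `Cyc.cent_eq` : `C(x) = W` for `x ∈ A` moved by `w`
-/

set_option autoImplicit false
set_option linter.unusedSectionVars false

namespace Cfsg.Agent.ReeInverted

open Subgroup GoldschmidtFree

variable {G : Type*} [Group G]

theorem exists_three_inverted : ¬ NoInverted (alternatingGroup (Fin 5)) := by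
  intro h
  let x : alternatingGroup (Fin 5) := ⟨Equiv.swap 0 1 * Equiv.swap 1 2, Equiv.Perm.mem_alternatingGroup.2 (by decide)⟩
  let g : alternatingGroup (Fin 5) := ⟨Equiv.swap 0 1 * Equiv.swap 3 4, Equiv.Perm.mem_alternatingGroup.2 (by decide)⟩
  have ho : orderOf x = 3 ^ 1 := by
    rw [pow_one]
    exact orderOf_eq_prime (by decide) (by decide)
  exact (by decide : x ≠ 1) (h x g ⟨1, ho⟩ (by decide))

namespace Cyc

variable [Finite G] {t : G} {K : Subgroup G} {q : ℕ} {y r w : G} (E : Cyc t K q y r w)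
include E

theorem y_sq_mem : y ^ 2 ∈ oddPart y := mem_zpowers _

theorem y_sq_ne_one : y ^ 2 ≠ 1 := fun e => by
  have D := E.torData
  have := orderOf_dvd_of_pow_eq_one e
  rw [D.order_y, D.two_a] at this
  have := Nat.le_of_dvd two_pos this
  have := D.seven_le
  omega

theorem r_not_comm {x : G} (hx : x ∈ oddPart y) (hx1 : x ≠ 1) : ¬ Commute r x := by
  have D := E.torData
  intro hc
  obtain ⟨i, hi⟩ := mem_zpowers_iff.1 hx
  have e : r * x * r⁻¹ = x⁻¹ := by
    rw [← hi, ← conj_zpow, ← conj_pow, D.r_inv, inv_pow, inv_zpow]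
  rw [hc.eq, mul_inv_cancel_right] at e
  have h3 := D.odd_three_le hx hx1
  have h2 : x ^ 2 = 1 := by rw [pow_two]; nth_rw 1 [e]; exact inv_mul_cancel x
  have := Nat.le_of_dvd two_pos (orderOf_dvd_of_pow_eq_one h2)
  omega

theorem w_pow_mem {k : ℕ} (hk : w ^ k ∈ bigTorus t y) : 3 ∣ k := by
  have D := E.torData
  have h1 := orderOf_dvd_of_pow_eq_one (show w ^ (k * (2 * ((q + 1) / 4))) = 1 by
    rw [pow_mul]; exact D.big_exponent hk)
  rw [E.order] at h1
  rcases (Nat.prime_three.dvd_mul).1 h1 with h2 | h2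
  · exact h2
  · rcases (Nat.prime_three.dvd_mul).1 h2 with h3 | h3
    · omega
    · exact absurd h3 D.three_not_dvd

theorem comm_w_odd {z : G} (hz : z ∈ bigTorus t y) (hc : Commute w z) : z ∈ oddPart y := by
  have D := E.torData
  refine D.mem_odd hz ?_
  have h1 : w * z ^ ((q + 1) / 4) * w⁻¹ = z ^ ((q + 1) / 4) := by
    rw [(hc.pow_right _).eq, mul_inv_cancel_right]
  rcases D.pow_a_cases hz with e | e | e | e
  · exact e
  · rw [e, E.wt] at h1; exact absurd (h1 ▸ D.s_mem) D.base.t_not_mem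
  · rw [e, E.ws] at h1; exact absurd (mul_eq_right.1 h1) D.base.ne_one
  · rw [e, E.wts] at h1; exact absurd (left_eq_mul.1 h1) D.s_ne_one

theorem pow_eq {j : ℕ} {z : G} (hz : z ∈ bigTorus t y) (h2 : w ^ j * z * (w ^ j * z) = 1) :
    3 ∣ j := by
  have hm : w ^ (j + j) ∈ bigTorus t y := by
    have h3 : w ^ (j + j) * ((w ^ j)⁻¹ * z * w ^ j * z) = 1 := by rw [← h2, pow_add]; group
    rw [eq_inv_of_mul_eq_one_left h3]
    exact inv_mem (mul_mem (E.inv_pow_conj_big j hz) hz)
  have := E.w_pow_mem hm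
  omega

/-- If `w` centralises `A` then `C(A) = W ⟨w⟩`. -/
theorem cases_of_fixes (hfix : ∀ x ∈ oddPart y, Commute w x) {g : G}
    (hg : g ∈ centralizer (oddPart y : Set G)) : ∃ j : ℕ, ∃ z ∈ bigTorus t y, g = w ^ j * z := by
  classical
  have D := E.torData
  set H := centralizer (oddPart y : Set G) with hH
  have hWH : bigTorus t y ≤ H := fun z hz => mem_centralizer_iff.2 fun x hx =>
    D.big_comm (D.odd_le_big hx) hz
  have hwH : w ∈ H := mem_centralizer_iff.2 fun x hx => (hfix x hx).symm.eq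
  have hcent : ∀ a ∈ H, Commute a t → a ∈ bigTorus t y := fun a ha hat =>
    D.cent_odd E.y_sq_mem E.y_sq_ne_one hat (mem_centralizer_iff.1 ha _ E.y_sq_mem).symm
  have hAH : oddPart y ≤ H := D.odd_le_big.trans hWH
  let N : Subgroup H := (oddPart y).subgroupOf H
  have hN : N.Normal := ⟨fun n hn a => by
    have e : (a : G) * n * (a : G)⁻¹ = n := by
      rw [← mem_centralizer_iff.1 a.2 (n : G) (mem_subgroupOf.1 hn), mul_inv_cancel_right]
    show (a : G) * n * (a : G)⁻¹ ∈ oddPart y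
    rw [e]; exact hn⟩
  let π : H →* H ⧸ N := QuotientGroup.mk' N
  have hπ : ∀ a b : H, π a = π b ↔ (a : G)⁻¹ * b ∈ oddPart y := fun a b =>
    (QuotientGroup.eq (s := N) (a := a) (b := b)).trans Iff.rfl
  have hπ1 : ∀ a : H, π a = 1 ↔ (a : G) ∈ oddPart y := fun a =>
    (QuotientGroup.eq_one_iff (N := N) a).trans Iff.rfl
  let t' : H := ⟨t, hWH D.t_mem_big⟩
  let s' : H := ⟨sInv q y, hWH D.s_mem_big⟩
  let w' : H := ⟨w, hwH⟩
  have hodd2 : ∀ x ∈ oddPart y, x * x = 1 → x = 1 := fun x hx hx2 => by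
    by_contra hne
    have := D.odd_three_le hx hne
    have := Nat.le_of_dvd two_pos (orderOf_dvd_of_pow_eq_one ((pow_two x).trans hx2))
    omega
  have ht1 : (t : G) ∉ oddPart y := fun e => D.base.ne_one (hodd2 t e D.base.tt)
  have hs1 : sInv q y ∉ oddPart y := fun e => D.s_ne_one (hodd2 _ e D.s_sq)
  have hts1 : t * sInv q y ∉ oddPart y := fun e => by
    have h1 := hodd2 _ e (by rw [← pow_two, D.comm_ts.mul_pow, pow_two, pow_two, D.base.tt, D.s_sq, one_mul])
    exact D.base.t_not_mem (eq_inv_of_mul_eq_one_left h1 ▸ inv_mem D.s_mem)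
  have ho : ∀ a : H, (a : G) * a = 1 → (a : G) ∉ oddPart y → orderOf (π a) = 2 := fun a ha hna =>
    orderOf_eq_prime (by
      rw [pow_two, ← map_mul, show a * a = 1 from Subtype.ext ha, map_one])
      fun e => hna ((hπ1 a).1 e)
  have hcent' : ∀ a : H, π a * π t' = π t' * π a → (a : G) ∈ bigTorus t y := by
    intro a ha
    rw [← map_mul, ← map_mul, hπ] at ha
    have ha' : ((a : G) * t)⁻¹ * (t * a) ∈ oddPart y := ha
    set c := ((a : G) * t)⁻¹ * (t * a) with hc
    have e : (a : G) * t * c = t * a := by rw [hc]; group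
    have hca : Commute (a : G) c := (mem_centralizer_iff.1 a.2 _ ha').symm
    have h1 : (a : G) * (t * c) * (a : G)⁻¹ = t := by
      calc (a : G) * (t * c) * (a : G)⁻¹ = (a : G) * t * c * (a : G)⁻¹ := by group
        _ = t := by rw [e, mul_inv_cancel_right]
    have h2 : t * c * (t * c) = 1 := by
      have : t * c = (a : G)⁻¹ * t * a := by
        conv_rhs => rw [← h1]
        group
      rw [this]
      calc (a : G)⁻¹ * t * a * ((a : G)⁻¹ * t * a) = (a : G)⁻¹ * (t * t) * a := by group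
        _ = 1 := by rw [D.base.tt, mul_one, inv_mul_cancel]
    have hct : Commute t c := D.big_comm D.t_mem_big (D.odd_le_big ha')
    rw [← pow_two, hct.mul_pow, pow_two, D.base.tt, one_mul, pow_two] at h2
    have hc1 := hodd2 c ha' h2
    rw [hc1, mul_one] at e
    exact hcent _ a.2 e
  have hstep : ∀ a : H, (a : G) ∈ bigTorus t y →
      π a = 1 ∨ π a = π t' ∨ π a = π s' ∨ π a = π (t' * s') := by
    intro a ha
    have hA : π (a ^ ((q + 1) / 4 + 1)) = 1 := (hπ1 _).2 (D.pow_succ_mem_odd ha)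
    have hsplit : π a = π (a ^ ((q + 1) / 4)) := by
      conv_lhs => rw [← Subtype.ext (a1 := a ^ ((q + 1) / 4) * a ^ ((q + 1) / 4 + 1)) (a2 := a) (D.split ha)]
      rw [map_mul, hA, mul_one]
    rw [hsplit]
    rcases D.pow_a_cases ha with e | e | e | e
    · exact Or.inl (by rw [show a ^ ((q + 1) / 4) = 1 from Subtype.ext e, map_one])
    · exact Or.inr (Or.inl (congrArg π (Subtype.ext e)))
    · exact Or.inr (Or.inr (Or.inl (congrArg π (Subtype.ext e))))
    · exact Or.inr (Or.inr (Or.inr (congrArg π (Subtype.ext e))))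
  have hws : π w' * π t' * (π w')⁻¹ = π s' := by
    rw [← map_inv, ← map_mul, ← map_mul]
    exact congrArg π (Subtype.ext E.wt)
  have hwts : π w' * π s' * (π w')⁻¹ = π (t' * s') := by
    rw [← map_inv, ← map_mul, ← map_mul]
    exact congrArg π (Subtype.ext E.ws)
  have ht2 : orderOf (π t') = 2 := ho t' D.base.tt ht1
  have hs2 : orderOf (π s') = 2 := ho s' D.s_sq hs1
  have hconjt : ∀ u : H ⧸ N, orderOf u = 2 → IsConj (π t') u := by
    have hcen : ∀ u : H ⧸ N, orderOf u = 2 → Commute u (π t') → IsConj (π t') u := by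
      intro u hu huc
      obtain ⟨a, rfl⟩ := QuotientGroup.mk'_surjective N u
      rcases hstep a (hcent' a huc.eq) with e | e | e | e
      · rw [show (QuotientGroup.mk' N) a = 1 from e, orderOf_one] at hu; omega
      · rw [show (QuotientGroup.mk' N) a = _ from e]
      · rw [show (QuotientGroup.mk' N) a = _ from e]
        exact isConj_iff.2 ⟨_, hws⟩
      · rw [show (QuotientGroup.mk' N) a = _ from e]
        exact isConj_iff.2 ⟨π w' * π w', by
          rw [show π w' * π w' * π t' * (π w' * π w')⁻¹ = π w' * (π w' * π t' * (π w')⁻¹) * (π w')⁻¹ by group,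
            hws, hwts]⟩
    intro u hu
    by_contra hne
    obtain ⟨z, hz2, hzt, hzu, -⟩ := Involution.exists_commuting_involution ht2 hu
      (Involution.even_of_not_isConj ht2 hu hne)
    obtain ⟨c, hc⟩ := isConj_iff.1 (hcen z hz2 hzt)
    refine hne ((hcen (c⁻¹ * u * c) ?_ ?_).trans (isConj_iff.2 ⟨c, by group⟩))
    · rw [show c⁻¹ * u * c = c⁻¹ * u * c⁻¹⁻¹ by rw [inv_inv], Involution.orderOf_conj, hu]
    · rw [Commute, SemiconjBy]
      calc c⁻¹ * u * c * π t' = c⁻¹ * (u * (c * π t' * c⁻¹)) * c := by group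
        _ = c⁻¹ * (z * u) * c := by rw [hc, hzu.eq]
        _ = _ := by rw [← hc]; group
  have hT : ∀ u ∈ zpowers (π t'), u = 1 ∨ u = π t' := by
    intro u hu
    obtain ⟨i, rfl⟩ := mem_zpowers_iff.1 hu
    have h2 : π t' ^ (2 : ℤ) = 1 := by rw [zpow_two, ← pow_two, ← ht2, pow_orderOf_eq_one]
    rcases Int.even_or_odd' i with ⟨k, rfl | rfl⟩
    · left; rw [zpow_mul, h2, one_zpow]
    · right; rw [zpow_add, zpow_mul, h2, one_zpow, one_mul, zpow_one]
  have hst : π s' * π t' = π t' * π s' := by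
    rw [← map_mul, ← map_mul]
    exact congrArg π (Subtype.ext D.comm_ts.symm.eq)
  have hyp : BSW.Hyp (π t') (π s') (zpowers (π t')) :=
    { ht := ht2
      hs := hs2
      comm := fun a ha b hb => by
        obtain ⟨i, rfl⟩ := mem_zpowers_iff.1 ha
        obtain ⟨k, rfl⟩ := mem_zpowers_iff.1 hb
        exact ((Commute.refl (π t')).zpow_left i).zpow_right k
      le_cent := zpowers_le.2 (BSW.self_mem_cent _)
      t_mem := mem_zpowers _
      s_mem := BSW.mem_cent.2 hst
      s_not := fun hm => by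
        rcases hT _ hm with e | e
        · exact hs1 ((hπ1 s').1 e)
        · exact hts1 (by
            have := (hπ s' t').1 e
            rwa [show (s' : G)⁻¹ * (t' : G) = t * sInv q y by
              show (sInv q y)⁻¹ * t = _
              rw [D.s_inv, D.comm_ts.eq]] at this)
      cent_le := fun u hu => by
        obtain ⟨a, rfl⟩ := QuotientGroup.mk'_surjective N u
        rcases hstep a (hcent' a (BSW.mem_cent.1 hu)) with e | e | e | e <;>
          rw [show (QuotientGroup.mk' N) a = _ from e]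
        · exact one_mem _
        · exact mem_sup_left (mem_zpowers _)
        · exact mem_sup_right (mem_zpowers _)
        · rw [map_mul]
          exact mul_mem (mem_sup_left (mem_zpowers _)) (mem_sup_right (mem_zpowers _))
      fix := fun u hu _ => hT u hu
      inv := fun u hu => by
        rcases hT u hu with rfl | rfl
        · simp
        · rw [hst, mul_inv_cancel_right, Involution.inv_eq ht2]
      ti := fun c u hu hu1 hcu => by
        have e := (hT u hu).resolve_left hu1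
        subst e
        rcases hT _ hcu with e' | e'
        · exact absurd (conj_eq_one_iff.1 e') hu1
        · exact BSW.mem_cent.2 (mul_inv_eq_iff_eq_mul.1 e')
      all_conj := fun a b ha hb => (hconjt a ha).symm.trans (hconjt b hb) }
  rcases hyp.alternatingFive_or_normal (by rw [Nat.card_zpowers, ht2]) with ⟨⟨e⟩⟩ | ⟨V, hV, hVe, hV4⟩
  · exfalso
    exact involves_perm_three_iff.1 (Involves.involves_of_subgroup (N := H)
      (Involves.involves_of_surjective (e.toMonoidHom.comp π)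
        (e.surjective.comp (QuotientGroup.mk'_surjective N))
        (involves_perm_three_iff.2 exists_three_inverted))) D.base.no
  have : Nontrivial V := Finite.one_lt_card_iff_nontrivial.1 (by omega)
  obtain ⟨⟨v, hv⟩, hv1⟩ := exists_ne (1 : V)
  have hv2 : orderOf v = 2 := orderOf_eq_prime (hVe.2 v hv) fun e => hv1 (Subtype.ext e)
  obtain ⟨c, hc⟩ := isConj_iff.1 (hconjt v hv2)
  have htV : π t' ∈ V := by
    have := hV.conj_mem v hv c⁻¹
    rwa [← hc, show c⁻¹ * (c * π t' * c⁻¹) * c⁻¹⁻¹ = π t' by group] at this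
  have hVW : ∀ a : H, π a ∈ V → (a : G) ∈ bigTorus t y := fun a ha => hcent' a
    (congrArg Subtype.val (hVe.1.is_comm.comm ⟨π a, ha⟩ ⟨π t', htV⟩))
  have hconjV : ∀ a b : H, π b ∈ V → (a : G) * b * (a : G)⁻¹ ∈ bigTorus t y := fun a b hb =>
    hVW (a * b * a⁻¹) (by rw [map_mul, map_mul, map_inv]; exact hV.conj_mem _ hb _)
  have hsV : π s' ∈ V := hws ▸ hV.conj_mem _ htV _
  obtain ⟨j, -, z, hz, e | e⟩ := E.mem_cases (hconjV ⟨g, hg⟩ t' htV) (hconjV ⟨g, hg⟩ s' hsV)
  · exact ⟨j, z, hz, e⟩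
  · exfalso
    have hr : r ∈ H := by
      have e0 : g = w ^ j * (r * z) := e
      have e' : r = (w ^ j)⁻¹ * g * z⁻¹ := by rw [e0]; group
      exact e' ▸ mul_mem (mul_mem (inv_mem (pow_mem hwH j)) hg) (inv_mem (hWH hz))
    exact E.r_not_comm E.y_sq_mem E.y_sq_ne_one (mem_centralizer_iff.1 hr _ E.y_sq_mem).symm

/-- `w` does not centralise `A`. -/
theorem not_fixes : ∃ x ∈ oddPart y, ¬ Commute w x := by
  classical
  have D := E.torData
  by_contra hno
  push Not at hno
  have : Fact (Nat.Prime 3) := ⟨Nat.prime_three⟩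
  obtain ⟨U, Y, hU, hUw, hYw, hYc, hUY, hY3, hYall⟩ := D.base.exists_kernel E.order
  have hAY : ∀ x ∈ oddPart y, x ∈ Y := fun x hx =>
    hYall x (hno x hx).symm (D.odd_a.of_dvd_nat (orderOf_dvd_of_pow_eq_one (D.odd_pow hx)))
      fun h3 => D.three_not_dvd (h3.trans (orderOf_dvd_of_pow_eq_one (D.odd_pow hx)))
  have hYA : ∀ b ∈ Y, b ∈ oddPart y := by
    intro b hb
    obtain ⟨j, z, hz, rfl⟩ := E.cases_of_fixes hno (g := b)
      (mem_centralizer_iff.2 fun x hx => hYc x (hAY x hx) b hb)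
    have hwz : Commute w z := by
      have h1 := ((Commute.refl w).pow_left j).inv_left.mul_left (hYw _ hb)
      rw [inv_mul_cancel_left] at h1
      exact h1.symm
    have hzA := E.comm_w_odd hz hwz
    have h3 : ((w ^ j * z) ^ ((q + 1) / 4)) = w ^ (j * ((q + 1) / 4)) := by
      rw [((hwz.pow_left j)).mul_pow, D.odd_pow hzA, mul_one, ← pow_mul]
    have h4 : (w ^ j * z) ^ (3 * ((q + 1) / 4)) = 1 := by
      rw [mul_comm 3, pow_mul, h3, ← pow_mul, mul_comm, pow_mul, E.cube, one_pow]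
    have h5 := (Nat.Coprime.dvd_of_dvd_mul_left
      ((Nat.prime_three.coprime_iff_not_dvd.2 (hY3 _ hb)).symm) (orderOf_dvd_of_pow_eq_one h4))
    rw [orderOf_dvd_iff_pow_eq_one, h3, ← orderOf_dvd_iff_pow_eq_one, E.order,
      Nat.prime_three.dvd_mul] at h5
    obtain ⟨i, rfl⟩ := h5.resolve_right D.three_not_dvd
    rw [pow_mul, E.cube, one_pow, one_mul]
    exact hzA
  have hUn : ∀ u ∈ U, ∀ x ∈ oddPart y, u * x * u⁻¹ ∈ oddPart y := fun u hu x hx =>
    hYA _ (hUY u hu x (hAY x hx))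
  have hUV : ∀ u ∈ U, ∀ i ∈ bigTorus t y, i * i = 1 → u * i * u⁻¹ ∈ bigTorus t y := by
    intro u hu i hi hi2
    obtain ⟨j, z, hz, e⟩ := E.cases_of_fixes hno (g := u * i * u⁻¹) (mem_centralizer_iff.2 fun x hx => by
      have hx' : u⁻¹ * x * u ∈ oddPart y := by simpa using hUn u⁻¹ (inv_mem hu) x hx
      calc x * (u * i * u⁻¹) = u * ((u⁻¹ * x * u) * i) * u⁻¹ := by group
        _ = u * (i * (u⁻¹ * x * u)) * u⁻¹ := by rw [D.big_comm (D.odd_le_big hx') hi]
        _ = _ := by group)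
    obtain ⟨k, rfl⟩ := E.pow_eq hz (by
      rw [← e]
      calc u * i * u⁻¹ * (u * i * u⁻¹) = u * (i * i) * u⁻¹ := by group
        _ = 1 := by rw [hi2, mul_one, mul_inv_cancel])
    rw [e, pow_mul, E.cube, one_pow, one_mul]; exact hz
  have hcases : ∀ u : U, ∃ p : Fin 3 × Bool, ∃ z ∈ bigTorus t y,
      (u : G) = w ^ (p.1 : ℕ) * ((if p.2 then r else 1) * z) := by
    intro u
    obtain ⟨j, hj, z, hz, e | e⟩ := E.mem_cases (hUV u u.2 t D.t_mem_big D.base.tt)
      (hUV u u.2 _ D.s_mem_big D.s_sq)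
    · exact ⟨(⟨j, hj⟩, false), z, hz, by simp [e]⟩
    · exact ⟨(⟨j, hj⟩, true), z, hz, by simp [e]⟩
  choose p z hz hp using hcases
  have hinj : Function.Injective p := by
    intro u v huv
    apply Subtype.ext
    have e : (u : G) = v * ((z v)⁻¹ * z u) := by
      rw [hp u, hp v, huv]; group
    have hd : (z v)⁻¹ * z u ∈ bigTorus t y := mul_mem (inv_mem (hz v)) (hz u)
    have hdU : (z v)⁻¹ * z u ∈ U := by
      rw [show (z v)⁻¹ * z u = (v : G)⁻¹ * u by rw [e]; group]
      exact mul_mem (inv_mem v.2) u.2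
    have h1 : (z v)⁻¹ * z u = 1 := by
      rw [← orderOf_eq_one_iff]
      obtain ⟨m, hm⟩ := D.base.three_power
      have h2 : orderOf ((z v)⁻¹ * z u) ∣ 3 ^ m := hm ▸ hU ▸ Subgroup.orderOf_dvd_natCard U hdU
      refine Nat.eq_one_of_dvd_coprimes (Nat.Coprime.pow_left m ?_) h2
        (orderOf_dvd_of_pow_eq_one (D.big_exponent hd))
      rw [Nat.prime_three.coprime_iff_not_dvd, Nat.prime_three.dvd_mul]
      have := D.three_not_dvd
      omega
    rw [e, h1, mul_one]
  have := Nat.card_le_card_of_injective p hinj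
  rw [hU, Nat.card_prod, Nat.card_fin, Nat.card_eq_fintype_card, Fintype.card_bool] at this
  have := D.base.le
  omega

/-- The four-group. -/
theorem four_mem {i : G} (hi : i ∈ zpowers t ⊔ zpowers (sInv q y)) :
    i ∈ bigTorus t y ∧ i * i = 1 := by
  have D := E.torData
  have hle : zpowers t ⊔ zpowers (sInv q y) ≤ bigTorus t y :=
    sup_le (zpowers_le.2 D.t_mem_big) (zpowers_le.2 D.s_mem_big)
  let V0 : Subgroup G :=
    { carrier := {z | z ∈ bigTorus t y ∧ z * z = 1}
      one_mem' := ⟨one_mem _, mul_one 1⟩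
      mul_mem' := fun {a b} ha hb => ⟨mul_mem ha.1 hb.1, by
        rw [← pow_two, (show Commute a b from D.big_comm ha.1 hb.1).mul_pow, pow_two, pow_two, ha.2,
          hb.2, one_mul]⟩
      inv_mem' := fun {a} ha => ⟨inv_mem ha.1, by rw [← mul_inv_rev, ha.2, inv_one]⟩ }
  exact (show zpowers t ⊔ zpowers (sInv q y) ≤ V0 from
    sup_le (zpowers_le.2 ⟨D.t_mem_big, D.base.tt⟩) (zpowers_le.2 ⟨D.s_mem_big, D.s_sq⟩)) hi

/-- `C(x) = W` for `x ∈ A` moved by `w`. -/
theorem cent_eq {x : G} (hx : x ∈ oddPart y) (hxw : ¬ Commute w x) {g : G} (hg : Commute g x) :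
    g ∈ bigTorus t y := by
  classical
  have : Fact (Nat.Prime 2) := ⟨Nat.prime_two⟩
  have D := E.torData
  have hx1 : x ≠ 1 := fun e => hxw (e ▸ Commute.one_right w)
  have hwj : ∀ j : ℕ, Commute (w ^ j) x → 3 ∣ j := by
    intro j hj
    by_contra h3
    apply hxw
    rcases (show j % 3 = 1 ∨ j % 3 = 2 by omega) with h1 | h1
    · rwa [← Nat.mod_add_div j 3, pow_add, pow_mul, E.cube, one_pow, mul_one, h1, pow_one] at hj
    · rw [← Nat.mod_add_div j 3, pow_add, pow_mul, E.cube, one_pow, mul_one, h1] at hj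
      have := (hj.pow_left 2)
      rwa [← pow_mul, show 2 * 2 = 3 + 1 by norm_num, pow_add, E.cube, one_mul, pow_one] at this
  -- common centralisers with the involutions
  have hci : ∀ j : ℕ, ∀ a : G, Commute a x → Commute a (w ^ j * t * (w ^ j)⁻¹) → a ∈ bigTorus t y := by
    intro j a hax hai
    have e : (w ^ j)⁻¹ = w ^ (2 * j) := inv_eq_of_mul_eq_one_right (by
      rw [← pow_add, show j + 2 * j = 3 * j by ring, pow_mul, E.cube, one_pow])
    have hx' : (w ^ j)⁻¹ * x * w ^ j ∈ oddPart y := by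
      have := E.pow_conj_odd (2 * j) hx
      rwa [← e, inv_inv] at this
    have hx'1 : (w ^ j)⁻¹ * x * w ^ j ≠ 1 := fun e1 => hx1 (by
      calc x = w ^ j * ((w ^ j)⁻¹ * x * w ^ j) * (w ^ j)⁻¹ := by group
        _ = 1 := by rw [e1]; group)
    have h1 := D.cent_odd hx' hx'1 (g := (w ^ j)⁻¹ * a * w ^ j) (by
      rw [Commute, SemiconjBy]
      calc (w ^ j)⁻¹ * a * w ^ j * t = (w ^ j)⁻¹ * (a * (w ^ j * t * (w ^ j)⁻¹)) * w ^ j := by group
        _ = (w ^ j)⁻¹ * ((w ^ j * t * (w ^ j)⁻¹) * a) * w ^ j := by rw [hai.eq]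
        _ = _ := by group) (by
      rw [Commute, SemiconjBy]
      calc (w ^ j)⁻¹ * a * w ^ j * ((w ^ j)⁻¹ * x * w ^ j) = (w ^ j)⁻¹ * (a * x) * w ^ j := by group
        _ = (w ^ j)⁻¹ * (x * a) * w ^ j := by rw [hax.eq]
        _ = _ := by group)
    have := E.pow_conj_big j h1
    rwa [show w ^ j * ((w ^ j)⁻¹ * a * w ^ j) * (w ^ j)⁻¹ = a by group] at this
  have hct : ∀ a : G, Commute a x → Commute a t → a ∈ bigTorus t y := fun a h1 h2 =>
    hci 0 a h1 (by simpa using h2)
  have hnorm : ∀ a : G, Commute a x → a * t * a⁻¹ ∈ bigTorus t y →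
      a * sInv q y * a⁻¹ ∈ bigTorus t y → a ∈ bigTorus t y := by
    intro a hax h1 h2
    obtain ⟨j, -, z, hz, e | e⟩ := E.mem_cases h1 h2
    · have hzx : Commute z x := D.big_comm hz (D.odd_le_big hx)
      have := hax.mul_left hzx.inv_left
      rw [e, mul_inv_cancel_right] at this
      obtain ⟨i, rfl⟩ := hwj j this
      rw [e, pow_mul, E.cube, one_pow, one_mul]; exact hz
    · exfalso
      have hzx : Commute z x := D.big_comm hz (D.odd_le_big hx)
      have h3 : Commute (w ^ j * r) x := by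
        have := hax.mul_left hzx.inv_left
        rwa [e, mul_assoc, mul_inv_cancel_right] at this
      have hr : r * x * r⁻¹ = x⁻¹ := by
        obtain ⟨i, hi⟩ := mem_zpowers_iff.1 hx
        rw [← hi, ← conj_zpow, ← conj_pow, D.r_inv, inv_pow, inv_zpow]
      have h4 : w ^ j * x⁻¹ * (w ^ j)⁻¹ = x := by
        calc w ^ j * x⁻¹ * (w ^ j)⁻¹ = (w ^ j * r) * x * (w ^ j * r)⁻¹ := by rw [← hr]; group
          _ = x := by rw [h3.eq, mul_inv_cancel_right]
      have h5 : Commute (w ^ (2 * j)) x := mul_inv_eq_iff_eq_mul.1 (by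
        calc w ^ (2 * j) * x * (w ^ (2 * j))⁻¹ = w ^ j * (w ^ j * x⁻¹ * (w ^ j)⁻¹)⁻¹ * (w ^ j)⁻¹ := by
              rw [two_mul, pow_add]; group
          _ = x := by rw [h4]; exact h4)
      obtain ⟨i, rfl⟩ : 3 ∣ j := by have := hwj _ h5; omega
      rw [pow_mul, E.cube, one_pow, one_mul] at h4
      have := D.odd_three_le hx hx1
      have := Nat.le_of_dvd two_pos (orderOf_dvd_of_pow_eq_one (show x ^ 2 = 1 by
        rw [pow_two]; nth_rw 1 [← h4]; simp))
      omega
  set H := centralizer ({x} : Set G) with hH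
  set V := zpowers t ⊔ zpowers (sInv q y) with hV
  have hVH : V ≤ H := fun i hi => mem_centralizer_singleton_iff.2
    (D.big_comm (E.four_mem hi).1 (D.odd_le_big hx))
  have htV : t ∈ V := mem_sup_left (mem_zpowers t)
  have hsV : sInv q y ∈ V := mem_sup_right (mem_zpowers _)
  have hVp : IsPGroup 2 (V.subgroupOf H) := fun a => ⟨1, by
    apply Subtype.ext; apply Subtype.ext
    show ((a : H) : G) ^ 2 ^ 1 = 1
    rw [pow_one, pow_two]; exact (E.four_mem (mem_subgroupOf.1 a.2)).2⟩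
  obtain ⟨S, hS⟩ := hVp.exists_le_sylow
  obtain ⟨S', hS'⟩ := (S.2.map H.subtype).exists_le_sylow
  have hSW : ∀ a ∈ (S : Subgroup H), (a : G) ∈ bigTorus t y ∧ (a : G) * a = 1 := by
    intro a ha
    have haW : (a : G) ∈ bigTorus t y := hct _ (mem_centralizer_singleton_iff.1 a.2)
      (D.base.comm_sylow S' _ (hS' ⟨a, ha, rfl⟩) _
        (hS' ⟨⟨t, hVH htV⟩, hS (mem_subgroupOf.2 htV), rfl⟩))
    refine ⟨haW, ?_⟩
    obtain ⟨k, hk⟩ := IsPGroup.iff_orderOf.1 S.2 ⟨a, ha⟩
    have hk' : orderOf (a : G) = 2 ^ k := by rw [← hk, ← orderOf_coe, ← orderOf_coe]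
    have hA := D.pow_succ_mem_odd haW
    have h1 : (a : G) ^ ((q + 1) / 4 + 1) = 1 := by
      rw [← orderOf_eq_one_iff]
      exact Nat.eq_one_of_dvd_coprimes (Nat.Coprime.pow_left k (Nat.coprime_two_left.2 D.odd_a))
        (hk' ▸ orderOf_pow_dvd _) (orderOf_dvd_of_pow_eq_one (D.odd_pow hA))
    have e := D.split haW
    rw [h1, mul_one] at e
    rw [← e, ← pow_add, ← two_mul, D.big_exponent haW]
  have hP : normalizer ((S : Subgroup H) : Set H) ≤ centralizer ((S : Subgroup H) : Set H) := by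
    intro a ha
    have haW : (a : G) ∈ bigTorus t y := hnorm _ (mem_centralizer_singleton_iff.1 a.2)
      (hSW (a * ⟨t, hVH htV⟩ * a⁻¹) ((mem_normalizer_iff.1 ha _).1 (hS (mem_subgroupOf.2 htV)))).1
      (hSW (a * ⟨_, hVH hsV⟩ * a⁻¹) ((mem_normalizer_iff.1 ha _).1 (hS (mem_subgroupOf.2 hsV)))).1
    exact mem_centralizer_iff.2 fun b hb => Subtype.ext (D.big_comm (hSW b hb).1 haW)
  obtain ⟨O, hOn, hcomp, hO2⟩ : ∃ O : Subgroup H, O.Normal ∧ O.IsComplement' (S : Subgroup H) ∧
      ¬ 2 ∣ Nat.card O :=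
    ⟨(MonoidHom.transferSylow S hP).ker, MonoidHom.normal_ker _,
      MonoidHom.ker_transferSylow_isComplement' S hP, MonoidHom.not_dvd_card_ker_transferSylow S hP⟩
  have : IsMulCommutative V := ⟨⟨fun a b => Subtype.ext
    (D.big_comm (E.four_mem a.2).1 (E.four_mem b.2).1)⟩⟩
  have hnc : ¬ IsCyclic V := by
    intro hcyc
    obtain ⟨⟨c, hc⟩, hgen⟩ := hcyc.exists_generator
    have h2 : c * c = 1 := (E.four_mem hc).2
    have key : ∀ i ∈ V, i = 1 ∨ i = c := by
      intro i hi
      obtain ⟨k, hk⟩ := mem_zpowers_iff.1 (hgen ⟨i, hi⟩)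
      have hk' : c ^ k = i := congrArg Subtype.val hk
      rw [← hk']
      have h2' : c ^ (2 : ℤ) = 1 := by rw [zpow_two, h2]
      rcases Int.even_or_odd' k with ⟨l, rfl | rfl⟩
      · left; rw [zpow_mul, h2', one_zpow]
      · right; rw [zpow_add, zpow_mul, h2', one_zpow, one_mul, zpow_one]
    have e1 := (key t htV).resolve_left D.base.ne_one
    have e2 := (key _ hsV).resolve_left D.s_ne_one
    exact D.base.t_not_mem (e1.trans e2.symm ▸ D.s_mem)
  have hle : O.map H.subtype ≤ bigTorus t y := by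
    refine Coprime.le_of_noncyclic hnc ?_ ?_ ?_
    · intro i hi
      rw [mem_normalizer_iff_map_conj_eq, Subgroup.map_map]
      refine Eq.trans ?_ (congrArg (Subgroup.map H.subtype)
        (mem_normalizer_iff_map_conj_eq.1 (show (⟨i, hVH hi⟩ : H) ∈ normalizer (O : Set H) by
          rw [normalizer_eq_top_iff.2 hOn]; exact mem_top _)))
      rw [Subgroup.map_map]
      congr 1
    · obtain ⟨k, hk⟩ := IsPGroup.iff_card.1 hVp
      rw [← Nat.card_congr (subgroupOfEquivOfLe hVH).toEquiv, hk,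
        Nat.card_congr (O.equivMapOfInjective H.subtype H.subtype_injective).symm.toEquiv]
      exact Nat.Coprime.pow_left k (Nat.prime_two.coprime_iff_not_dvd.2 hO2)
    · rintro i hi hi1 a ⟨⟨a, ha, rfl⟩, hai⟩
      have hax : Commute (a : G) x := mem_centralizer_singleton_iff.1 a.2
      have hai' : Commute (a : G) i := mem_centralizer_singleton_iff.1 hai
      rcases D.sq_one_cases (E.four_mem hi).1 (E.four_mem hi).2 with e | e | e | e
      · exact absurd e hi1
      · exact hct _ hax (e ▸ hai')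
      · exact hci 1 _ hax (by rw [pow_one, E.wt, ← e]; exact hai')
      · refine hci 2 _ hax ?_
        rw [pow_two, show w * w * t * (w * w)⁻¹ = w * (w * t * w⁻¹) * w⁻¹ by group, E.wt, E.ws, ← e]
        exact hai'
  obtain ⟨⟨⟨o, ho⟩, ⟨v, hv⟩⟩, e⟩ := hcomp.2 ⟨g, mem_centralizer_singleton_iff.2 hg.eq⟩
  have e' : (o : G) * v = g := congrArg Subtype.val e
  rw [← e']
  exact mul_mem (hle ⟨o, ho, rfl⟩) (hSW v hv).1

end Cyc

end Cfsg.Agent.ReeInverted
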