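import Cfsg.Agent.EqLemmas
import Cfsg.Agent.Lib.ReeInverted.Fpf
import Cfsg.Agent.Lib.ReeInverted.TwInd
import Cfsg.Agent.Lib.ClassCount.CharSum

/-!
Counting in the centraliser of `t`.

* `Tor.bigEquiv` : `W = {1, t, s, ts} × A`
* `Tor.sum_odd_conj`, `Setup.sum_root_conj` : sums over the centraliser of `t`
* `Setup.fibre_t`, `Setup.fibre_root`, `Tor.fibre_tor` : products of two involutions
-/

set_option autoImplicit false
set_option linter.unusedSectionVars false

namespace Cfsg.Agent.ReeInverted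

open Subgroup GoldschmidtFree

variable {G : Type*} [Group G]

/-- `1, t, s, ts`. -/
def vElt (t : G) (q : ℕ) (y : G) : Fin 4 → G := ![1, t, sInv q y, t * sInv q y]

namespace Tor

variable [Finite G] {t : G} {K : Subgroup G} {q : ℕ} {y r : G} (D : Tor t K q y r)
include D

theorem vElt_mem (i : Fin 4) : vElt t q y i ∈ bigTorus t y := by
  fin_cases i
  · exact one_mem _
  · exact D.t_mem_big
  · exact D.s_mem_big
  · exact mul_mem D.t_mem_big D.s_mem_big

theorem vElt_sq (i : Fin 4) : vElt t q y i * vElt t q y i = 1 := by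
  fin_cases i
  · exact mul_one 1
  · exact D.base.tt
  · exact D.s_sq
  · show t * sInv q y * (t * sInv q y) = 1
    rw [← pow_two, D.comm_ts.mul_pow, pow_two, pow_two, D.base.tt, D.s_sq, one_mul]

theorem vElt_injective : Function.Injective (vElt t q y) := by
  have h1 := D.base.ne_one
  have h2 := D.s_ne_one
  have h3 : t ≠ sInv q y := fun e => D.base.t_not_mem (e ▸ D.s_mem)
  have h4 : t * sInv q y ≠ 1 := fun e => D.base.t_not_mem
    (eq_inv_of_mul_eq_one_left e ▸ inv_mem D.s_mem)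
  intro i j e
  fin_cases i <;> fin_cases j <;> simp [vElt] at e ⊢ <;>
    first
      | exact absurd e h1 | exact absurd e.symm h1 | exact absurd e h2 | exact absurd e.symm h2
      | exact absurd e h3 | exact absurd e.symm h3 | exact absurd e h4 | exact absurd e.symm h4

theorem vElt_pow (i : Fin 4) : vElt t q y i ^ ((q + 1) / 4) = vElt t q y i := by
  obtain ⟨j, hj⟩ := D.odd_a
  rw [hj, pow_succ, pow_mul, pow_two, D.vElt_sq i, one_pow, one_mul]

theorem vElt_mul_pow (i : Fin 4) {z : G} (hz : z ∈ oddPart y) :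
    (vElt t q y i * z) ^ ((q + 1) / 4) = vElt t q y i ∧
      (vElt t q y i * z) ^ ((q + 1) / 4 + 1) = z := by
  have hc : Commute (vElt t q y i) z := D.big_comm (D.vElt_mem i) (D.odd_le_big hz)
  refine ⟨by rw [hc.mul_pow, D.vElt_pow, D.odd_pow hz, mul_one], ?_⟩
  rw [hc.mul_pow, pow_succ, pow_succ, D.vElt_pow, D.vElt_sq, one_mul, D.odd_pow hz, one_mul]

/-- `W = {1, t, s, ts} × A` -/
noncomputable def bigEquiv : Fin 4 × oddPart y ≃ bigTorus t y :=
  Equiv.ofBijective (fun p => ⟨vElt t q y p.1 * p.2, mul_mem (D.vElt_mem _) (D.odd_le_big p.2.2)⟩) (by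
    constructor
    · rintro ⟨i, z⟩ ⟨j, z'⟩ e
      have e' : vElt t q y i * z = vElt t q y j * z' := congrArg Subtype.val e
      obtain ⟨h1, h2⟩ := D.vElt_mul_pow i z.2
      obtain ⟨h3, h4⟩ := D.vElt_mul_pow j z'.2
      rw [e', h3] at h1
      rw [e', h4] at h2
      exact Prod.ext (D.vElt_injective h1.symm) (Subtype.ext h2.symm)
    · rintro ⟨g, hg⟩
      obtain ⟨i, hi⟩ : ∃ i, vElt t q y i = g ^ ((q + 1) / 4) := by
        rcases D.pow_a_cases hg with e | e | e | e <;> rw [e]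
        exacts [⟨0, rfl⟩, ⟨1, rfl⟩, ⟨2, rfl⟩, ⟨3, rfl⟩]
      exact ⟨⟨i, ⟨g ^ ((q + 1) / 4 + 1), D.pow_succ_mem_odd hg⟩⟩, Subtype.ext (by
        show vElt t q y i * g ^ ((q + 1) / 4 + 1) = g
        rw [hi, D.split hg])⟩)

theorem bigEquiv_apply (p : Fin 4 × oddPart y) : (D.bigEquiv p : G) = vElt t q y p.1 * p.2 := rfl

theorem card_big : Nat.card (bigTorus t y) = q + 1 := by
  rw [← Nat.card_congr D.bigEquiv, Nat.card_prod, Nat.card_fin, D.card_odd, D.four_a]

theorem r_not_big : r ∉ bigTorus t y := fun hr => by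
  have h1 := D.big_comm hr (mem_sup_right (mem_zpowers y) : y ∈ bigTorus t y)
  have h2 := D.r_inv
  rw [h1, mul_inv_cancel_right] at h2
  have h3 : y ^ 2 = 1 := by rw [pow_two]; nth_rw 1 [h2]; exact inv_mul_cancel y
  have := Nat.le_of_dvd two_pos (orderOf_dvd_of_pow_eq_one h3)
  rw [D.order_y, D.two_a] at this
  have := D.seven_le
  omega

theorem r_conj_odd {x : G} (hx : x ∈ oddPart y) : r * x * r⁻¹ = x⁻¹ := by
  obtain ⟨i, hi⟩ := mem_zpowers_iff.1 hx
  rw [← hi, ← conj_zpow, ← conj_pow, D.r_inv, inv_pow, inv_zpow]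

theorem inv_conj_odd {x : G} (hx : x ∈ oddPart y) : r⁻¹ * x * r = x⁻¹ := by
  have := D.r_conj_odd hx
  rwa [D.r_inv_self] at this ⊢

theorem conj_odd_cases {x z : G} (hx : Commute x t) (hz : z ∈ oddPart y) (hz1 : z ≠ 1)
    (hxz : x⁻¹ * z * x ∈ oddPart y) : x ∈ bigTorus t y ∨ r * x ∈ bigTorus t y := by
  set v := x⁻¹ * z * x with hv
  have h1 : x * sInv q y * x⁻¹ ∈ bigTorus t y := D.cent_odd hz hz1 (by
      show x * sInv q y * x⁻¹ * t = t * (x * sInv q y * x⁻¹)
      exact (((hx.mul_left D.comm_ts.symm).mul_left hx.inv_left).eq)) (by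
      show x * sInv q y * x⁻¹ * z = z * (x * sInv q y * x⁻¹)
      have hc : sInv q y * v = v * sInv q y := D.big_comm D.s_mem_big (D.odd_le_big hxz)
      calc x * sInv q y * x⁻¹ * z = x * (sInv q y * v) * x⁻¹ := by rw [hv]; group
        _ = x * (v * sInv q y) * x⁻¹ := by rw [hc]
        _ = _ := by rw [hv]; group)
  have h2 : x * sInv q y * x⁻¹ = sInv q y := by
    have hK := D.base.conj_mem hx D.s_mem
    rcases D.sq_one_cases h1 (by
      calc x * sInv q y * x⁻¹ * (x * sInv q y * x⁻¹) = x * (sInv q y * sInv q y) * x⁻¹ := by group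
        _ = 1 := by rw [D.s_sq, mul_one, mul_inv_cancel]) with e | e | e | e
    · exact absurd (conj_eq_one_iff.1 e) D.s_ne_one
    · exact absurd (e ▸ hK) D.base.t_not_mem
    · exact e
    · rw [e] at hK
      exact absurd ((mul_mem_cancel_right D.s_mem).1 hK) D.base.t_not_mem
  exact D.cent_s hx (mul_inv_eq_iff_eq_mul.1 h2)

/-- The sum over `C(t)` at an element of `A`. -/
theorem sum_odd_conj [Fintype (centralizer ({t} : Set G))] (μ : oddPart y → ℂ) {z : G}
    (hz : z ∈ oddPart y) (hz1 : z ≠ 1) :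
    ∑ x : centralizer ({t} : Set G), extendByZero (oddPart y) μ ((x : G)⁻¹ * z * x) =
      (q + 1 : ℕ) * (μ ⟨z, hz⟩ + μ ⟨z⁻¹, inv_mem hz⟩) := by
  classical
  have := Fintype.ofFinite (bigTorus t y)
  have hW : ∀ w ∈ bigTorus t y, Commute w t := fun w hw => D.big_comm hw D.t_mem_big
  let f : Bool × bigTorus t y ↪ centralizer ({t} : Set G) :=
    ⟨fun p => ⟨(if p.1 then r else 1) * (p.2 : G), mem_centralizer_singleton_iff.2 (by
      refine (Commute.mul_left ?_ (hW _ p.2.2)).eq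
      split
      exacts [D.comm_tr.symm, Commute.one_left t])⟩, by
      rintro ⟨i, w⟩ ⟨j, w'⟩ e
      have e' : (if i then r else 1) * (w : G) = (if j then r else 1) * (w' : G) :=
        congrArg Subtype.val e
      cases i <;> cases j <;> simp only [Bool.false_eq_true, if_false, if_true, one_mul] at e'
      · rw [Subtype.ext e']
      · exact absurd (eq_mul_inv_of_mul_eq e'.symm ▸ mul_mem w.2 (inv_mem w'.2)) D.r_not_big
      · exact absurd (eq_mul_inv_of_mul_eq e' ▸ mul_mem w'.2 (inv_mem w.2)) D.r_not_big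
      · rw [Subtype.ext (mul_left_cancel e')]⟩
  rw [← Finset.sum_subset (Finset.subset_univ (Finset.univ.map f))]
  · rw [Finset.sum_map, Fintype.sum_prod_type, Fintype.sum_bool]
    have hfix : ∀ w : bigTorus t y, (w : G)⁻¹ * z * w = z := fun w => by
      rw [mul_assoc, ← D.big_comm w.2 (D.odd_le_big hz), inv_mul_cancel_left]
    have hz' := inv_mem hz
    have hfix' : ∀ w : bigTorus t y, (r * (w : G))⁻¹ * z * (r * w) = z⁻¹ := fun w => by
      calc (r * (w : G))⁻¹ * z * (r * w) = (w : G)⁻¹ * (r⁻¹ * z * r) * w := by group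
        _ = z⁻¹ := by
          rw [D.inv_conj_odd hz, mul_assoc, ← D.big_comm w.2 (D.odd_le_big hz'), inv_mul_cancel_left]
    have hcoe : ∀ p : Bool × bigTorus t y, ((f p : centralizer ({t} : Set G)) : G) =
      (if p.1 then r else 1) * (p.2 : G) := fun p => rfl
    simp only [hcoe, Bool.false_eq_true, if_false, if_true, one_mul, hfix,
      hfix', Char.extendByZero_mem _ μ hz, Char.extendByZero_mem _ μ hz', Finset.sum_const,
      Finset.card_univ, nsmul_eq_mul]
    rw [← Nat.card_eq_fintype_card, D.card_big]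
    ring
  · intro x _ hx
    apply Char.extendByZero_not_mem
    intro hmem
    apply hx
    simp only [Finset.mem_map, Finset.mem_univ, true_and]
    rcases D.conj_odd_cases (mem_centralizer_singleton_iff.1 x.2) hz hz1 hmem with h1 | h1
    · exact ⟨⟨false, ⟨x, h1⟩⟩, Subtype.ext (by simp [f])⟩
    · exact ⟨⟨true, ⟨r * x, h1⟩⟩, Subtype.ext (by simp [f, ← mul_assoc, D.r_sq])⟩

end Tor

namespace Setup

variable [Finite G] {t : G} {K : Subgroup G} {q : ℕ} (h : Setup t K q)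
include h

theorem isConj_iff_order {g : G} : IsConj t g ↔ orderOf g = 2 := by
  refine ⟨fun hc => (Involution.orderOf_eq_of_isConj hc).symm.trans h.ht, fun hg => ?_⟩
  obtain ⟨c, hc⟩ := h.conj_all hg
  exact (isConj_iff.2 ⟨c, hc⟩).symm

theorem isConj_iff_sq {g : G} : IsConj t g ↔ g ≠ 1 ∧ g * g = 1 :=
  h.isConj_iff_order.trans Involution.orderOf_eq_two_iff

/-- `C(t) = {1, t} × K` -/
noncomputable def centEquiv : Bool × K ≃ centralizer ({t} : Set G) :=
  Equiv.ofBijective (fun p => ⟨(if p.1 then t else 1) * (p.2 : G), mul_mem (by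
    split
    exacts [mem_centralizer_singleton_iff.2 rfl, one_mem _]) (h.k_le p.2.2)⟩) (by
    constructor
    · rintro ⟨b, k⟩ ⟨b', k'⟩ e
      have e' : (if b then t else 1) * (k : G) = (if b' then t else 1) * (k' : G) :=
        congrArg Subtype.val e
      cases b <;> cases b' <;> simp only [Bool.false_eq_true, if_false, if_true, one_mul] at e'
      · rw [Subtype.ext e']
      · exact absurd (eq_mul_inv_of_mul_eq e'.symm ▸ mul_mem k.2 (inv_mem k'.2)) h.t_not_mem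
      · exact absurd (eq_mul_inv_of_mul_eq e' ▸ mul_mem k'.2 (inv_mem k.2)) h.t_not_mem
      · rw [Subtype.ext (mul_left_cancel e')]
    · rintro ⟨g, hg⟩
      rcases h.cases (mem_centralizer_singleton_iff.1 hg) with h1 | h1
      · exact ⟨⟨false, ⟨g, h1⟩⟩, Subtype.ext (by simp)⟩
      · exact ⟨⟨true, ⟨t * g, h1⟩⟩, Subtype.ext (by simp [← mul_assoc, h.tt])⟩)

theorem centEquiv_apply (p : Bool × K) :
    (h.centEquiv p : G) = (if p.1 then t else 1) * (p.2 : G) := rfl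

/-- Twice the number of involutions of `K`. -/
theorem card_invol : 2 * Nat.card {k : K // orderOf k = 2} = q * (q - 1) := by
  obtain ⟨y, r, D⟩ := exists_tor h
  let s' : K := ⟨sInv q y, D.s_mem⟩
  have hs' : orderOf s' = 2 := by rw [← orderOf_coe]; exact D.s_order
  have hcent : Nat.card (centralizer ({s'} : Set K)) = q + 1 := by
    rw [← D.card_cent]
    exact Nat.card_congr
      ⟨fun k => ⟨k.1.1, k.1.2, congrArg Subtype.val (mem_centralizer_singleton_iff.1 k.2)⟩,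
       fun k => ⟨⟨k.1, k.2.1⟩, mem_centralizer_singleton_iff.2 (Subtype.ext k.2.2.eq)⟩,
       fun k => rfl, fun k => rfl⟩
  have hcls : Nat.card {k : K // orderOf k = 2} = Nat.card {k : K // IsConj s' k} :=
    Nat.card_congr (Equiv.subtypeEquivRight fun k =>
      ⟨fun hk => h.facts.invol s' k hs' hk, fun hk => (Involution.orderOf_eq_of_isConj hk).symm.trans hs'⟩)
  have h1 := ClassCount.card_class_mul_card_centralizer s'
  rw [hcent, ← hcls] at h1
  have h2 := h.facts.card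
  rw [← h1] at h2
  apply Nat.eq_of_mul_eq_mul_right (show 0 < q + 1 by omega)
  calc 2 * Nat.card {k : K // orderOf k = 2} * (q + 1)
      = 2 * (Nat.card {k : K // orderOf k = 2} * (q + 1)) := by ring
    _ = _ := by rw [h2]; ring

theorem fibre_t : ClassCount.fibreCount t t t = q * (q - 1) := by
  rw [ClassCount.fibreCount, ← h.card_invol]
  have hk : ∀ k : K, orderOf k = 2 → (k : G) ≠ 1 ∧ (k : G) * k = 1 := fun k hk =>
    Involution.orderOf_eq_two_iff.1 (by rw [orderOf_coe]; exact hk)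
  have htk : ∀ k : K, orderOf k = 2 → t * (k : G) ≠ 1 ∧ t * (k : G) * (t * k) = 1 := fun k hk' => by
    refine ⟨fun e => h.t_not_mem (eq_inv_of_mul_eq_one_left e ▸ inv_mem k.2), ?_⟩
    rw [← pow_two, (h.comm_t k.2).mul_pow, pow_two, pow_two, h.tt, (hk k hk').2, one_mul]
  let f : Bool × {k : K // orderOf k = 2} → {g : G // IsConj t g ∧ IsConj t (g⁻¹ * t)} := fun p =>
    match p with
    | (false, k) => ⟨(k.1 : G), h.isConj_iff_sq.2 (hk _ k.2), h.isConj_iff_sq.2 (by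
        rw [inv_eq_of_mul_eq_one_right (hk _ k.2).2, ← (h.comm_t k.1.2).eq]; exact htk _ k.2)⟩
    | (true, k) => ⟨t * (k.1 : G), h.isConj_iff_sq.2 (htk _ k.2), h.isConj_iff_sq.2 (by
        rw [inv_eq_of_mul_eq_one_right (htk _ k.2).2, (h.comm_t k.1.2).eq, mul_assoc, h.tt, mul_one]
        exact hk _ k.2)⟩
  have hf : Function.Bijective f := by
    constructor
    · rintro ⟨b, k⟩ ⟨b', k'⟩ e
      have e' := congrArg Subtype.val e
      cases b <;> cases b' <;> simp only [f] at e'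
      · rw [Subtype.ext (Subtype.ext e')]
      · exact absurd (eq_mul_inv_of_mul_eq e'.symm ▸ mul_mem k.1.2 (inv_mem k'.1.2)) h.t_not_mem
      · exact absurd (eq_mul_inv_of_mul_eq e' ▸ mul_mem k'.1.2 (inv_mem k.1.2)) h.t_not_mem
      · rw [Subtype.ext (Subtype.ext (mul_left_cancel e'))]
    · rintro ⟨g, hg, hg'⟩
      obtain ⟨hg1, hg2⟩ := h.isConj_iff_sq.1 hg
      obtain ⟨hg1', hg2'⟩ := h.isConj_iff_sq.1 hg'
      rw [inv_eq_of_mul_eq_one_right hg2] at hg1' hg2'
      have hct : Commute g t := by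
        show g * t = t * g
        calc g * t = (g * t)⁻¹ := (inv_eq_of_mul_eq_one_right hg2').symm
          _ = t * g := by rw [mul_inv_rev, h.inv_t, inv_eq_of_mul_eq_one_right hg2]
      rcases h.cases hct with h1 | h1
      · exact ⟨(false, ⟨⟨g, h1⟩, by rw [← orderOf_coe]; exact Involution.orderOf_of_sq hg2 hg1⟩), rfl⟩
      · refine ⟨(true, ⟨⟨t * g, h1⟩, ?_⟩), Subtype.ext (by simp [f, ← mul_assoc, h.tt])⟩
        rw [← orderOf_coe]
        refine Involution.orderOf_of_sq ?_ fun e => hg1' ?_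
        · show t * g * (t * g) = 1
          rw [← pow_two, hct.symm.mul_pow, pow_two, pow_two, h.tt, hg2, one_mul]
        · rw [hct.eq]; exact e
  rw [← Nat.card_congr (Equiv.ofBijective f hf), Nat.card_prod, Nat.card_eq_fintype_card (α := Bool),
    Fintype.card_bool]

theorem fibre_root {u : G} (hu : u ^ 3 = 1) (hu1 : u ≠ 1) (hut : Commute t u) :
    ClassCount.fibreCount t t (t * u) = 0 := by
  have : IsEmpty {g : G // IsConj t g ∧ IsConj t (g⁻¹ * (t * u))} := ⟨fun ⟨g, hg, hg'⟩ => by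
    obtain ⟨-, hg2⟩ := h.isConj_iff_sq.1 hg
    obtain ⟨-, hg2'⟩ := h.isConj_iff_sq.1 hg'
    have h1 : g * (t * u) * g⁻¹ = (t * u)⁻¹ := by
      rw [inv_eq_of_mul_eq_one_right hg2] at hg2' ⊢
      refine eq_inv_of_mul_eq_one_left ?_
      simpa [mul_assoc] using hg2'
    have h4 : (t * u) ^ 4 = u := by
      rw [hut.mul_pow, show (4 : ℕ) = 2 * 2 by norm_num, pow_mul, pow_two t, h.tt, one_pow, one_mul,
        show 2 * 2 = 3 + 1 by norm_num, pow_succ, hu, one_mul]
    refine hu1 (h.no u g ⟨1, by rw [pow_one]; exact orderOf_eq_prime hu hu1⟩ ?_)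
    rw [← h4, ← conj_pow, h1, inv_pow]⟩
  exact Nat.card_of_isEmpty

/-- Conjugates of `z` and `z⁻¹` inside `C_K(u)`. -/
theorem root_count {u : G} (hu : u ∈ K) (ho : orderOf u = 3)
    (hroot : ∀ z ∈ K, Commute z u → z ≠ 1 → ∃ k ∈ K, k * u * k⁻¹ = z ∨ k * u * k⁻¹ = z⁻¹) {z v : G}
    (hz : z ∈ K ⊓ centralizer ({u} : Set G)) (hz1 : z ≠ 1)
    (hv : v ∈ K ⊓ centralizer ({u} : Set G)) (hv1 : v ≠ 1) :
    Nat.card {k : K // (k : G)⁻¹ * z * k = v} + Nat.card {k : K // (k : G)⁻¹ * z⁻¹ * k = v} = q := by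
  have hv3 : orderOf v = 3 := by
    have : Fact (Nat.Prime 3) := ⟨Nat.prime_three⟩
    have hc : Commute v u := mem_centralizer_singleton_iff.1 hv.2
    exact orderOf_eq_prime (((h.facts_u hu ho).2 v hv.1 v hv.1 hc hc).2) hv1
  have key : ∀ z' : G, (∃ k : K, (k : G)⁻¹ * z' * k = v) →
      Nat.card {k : K // (k : G)⁻¹ * z' * k = v} = q := by
    rintro z' ⟨k0, hk0⟩
    rw [← (h.facts_u hv.1 hv3).1]
    refine Nat.card_congr ⟨fun k => ⟨(k0 : G)⁻¹ * k.1, K.mul_mem (K.inv_mem k0.2) k.1.2,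
        mem_centralizer_singleton_iff.2 ?_⟩,
      fun c => ⟨k0 * ⟨c.1, c.2.1⟩, ?_⟩, fun k => ?_, fun c => ?_⟩
    · calc (k0 : G)⁻¹ * k.1 * v = (k0 : G)⁻¹ * k.1 * ((k.1 : G)⁻¹ * z' * k.1) := by rw [k.2]
        _ = ((k0 : G)⁻¹ * z' * k0) * ((k0 : G)⁻¹ * k.1) := by group
        _ = _ := by rw [hk0]
    · calc ((k0 : G) * c.1)⁻¹ * z' * ((k0 : G) * c.1) = (c.1 : G)⁻¹ * ((k0 : G)⁻¹ * z' * k0) * c.1 := by
            group
        _ = v := by rw [hk0, mul_assoc, ← mem_centralizer_singleton_iff.1 c.2.2, inv_mul_cancel_left]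
    · exact Subtype.ext (Subtype.ext (by simp))
    · exact Subtype.ext (by simp)
  have hnot : ∀ k k' : K, (k : G)⁻¹ * z * k = v → (k' : G)⁻¹ * z⁻¹ * k' = v → False := by
    intro k k' e e'
    have hc : Commute z u := mem_centralizer_singleton_iff.1 hz.2
    refine hz1 (h.no z ((k' : G) * (k : G)⁻¹) ⟨1, by
      have : Fact (Nat.Prime 3) := ⟨Nat.prime_three⟩
      rw [pow_one]; exact orderOf_eq_prime (((h.facts_u hu ho).2 z hz.1 z hz.1 hc hc).2) hz1⟩ ?_)
    calc (k' : G) * (k : G)⁻¹ * z * ((k' : G) * (k : G)⁻¹)⁻¹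
        = (k' : G) * ((k : G)⁻¹ * z * k) * (k' : G)⁻¹ := by group
      _ = z⁻¹ := by rw [e, ← e']; group
  obtain ⟨a, ha, haz⟩ := hroot z hz.1 (mem_centralizer_singleton_iff.1 hz.2) hz1
  obtain ⟨b, hb, hbv⟩ := hroot v hv.1 (mem_centralizer_singleton_iff.1 hv.2) hv1
  have hex : (∃ k : K, (k : G)⁻¹ * z * k = v) ∨ ∃ k : K, (k : G)⁻¹ * z⁻¹ * k = v := by
    have e0 : ∀ w : G, (a * b⁻¹)⁻¹ * (a * w * a⁻¹) * (a * b⁻¹) = b * w * b⁻¹ := fun w => by group
    have hinv : ∀ c : G, c * u⁻¹ * c⁻¹ = (c * u * c⁻¹)⁻¹ := fun c => by group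
    have hm : a * b⁻¹ ∈ K := mul_mem ha (inv_mem hb)
    rcases haz with e | e <;> rcases hbv with e' | e'
    · exact Or.inl ⟨⟨_, hm⟩, by rw [← e, ← e']; exact e0 u⟩
    · exact Or.inr ⟨⟨_, hm⟩, by rw [← e, ← inv_inv v, ← e', ← hinv, ← hinv]; exact e0 _⟩
    · exact Or.inr ⟨⟨_, hm⟩, by rw [← e, ← e']; exact e0 u⟩
    · exact Or.inl ⟨⟨_, hm⟩, by rw [← inv_inv z, ← e, ← inv_inv v, ← e', ← hinv, ← hinv]; exact e0 _⟩
  rcases hex with ⟨k, hk⟩ | ⟨k, hk⟩
  · have : IsEmpty {k : K // (k : G)⁻¹ * z⁻¹ * k = v} := ⟨fun k' => hnot k k' hk k'.2⟩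
    rw [key z ⟨k, hk⟩, Nat.card_of_isEmpty, add_zero]
  · have : IsEmpty {k : K // (k : G)⁻¹ * z * k = v} := ⟨fun k' => hnot k' k k'.2 hk⟩
    rw [key z⁻¹ ⟨k, hk⟩, Nat.card_of_isEmpty, zero_add]

/-- The sum over `C(t)` at an element of `C_K(u)`. -/
theorem sum_root_conj [Fintype (centralizer ({t} : Set G))] {u : G} (hu : u ∈ K) (ho : orderOf u = 3)
    (hroot : ∀ z ∈ K, Commute z u → z ≠ 1 → ∃ k ∈ K, k * u * k⁻¹ = z ∨ k * u * k⁻¹ = z⁻¹)
    {U : Subgroup G} (hU : U = K ⊓ centralizer ({u} : Set G)) (ψ : U →* ℂ) (hψ : ∃ x, ψ x ≠ 1) {z : G}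
    (hzU : z ∈ U) (hz1 : z ≠ 1) :
    ∑ x : centralizer ({t} : Set G), (extendByZero U ψ ((x : G)⁻¹ * z * x) +
      extendByZero U ψ ((x : G)⁻¹ * z⁻¹ * x)) = -(2 * q : ℕ) := by
  classical
  have := Fintype.ofFinite K
  have := Fintype.ofFinite U
  have hz : z ∈ K ⊓ centralizer ({u} : Set G) := hU ▸ hzU
  have hexp : ∀ g : G, extendByZero U ψ g = ∑ v : U, if g = (v : G) then ψ v else 0 := by
    intro g
    by_cases hg : g ∈ U
    · rw [Char.extendByZero_mem U _ hg, Finset.sum_eq_single ⟨g, hg⟩ (fun v _ hv => if_neg fun e =>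
        hv (Subtype.ext e.symm)) (fun hn => absurd (Finset.mem_univ _) hn), if_pos rfl]
    · rw [Char.extendByZero_not_mem U _ hg, Finset.sum_eq_zero fun v _ => if_neg fun e => hg (by rw [e]; exact v.2)]
  have hK : ∀ w : G, w ∈ K → ∑ k : K, extendByZero U ψ ((k : G)⁻¹ * w * k) =
      ∑ v : U, (Nat.card {k : K // (k : G)⁻¹ * w * k = v} : ℂ) * ψ v := by
    intro w _
    simp only [hexp]
    rw [Finset.sum_comm]
    refine Finset.sum_congr rfl fun v _ => ?_
    rw [← Finset.sum_filter, Finset.sum_const, nsmul_eq_mul, Nat.card_eq_fintype_card, Fintype.card_subtype]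
  have hcount : ∀ v : U, (Nat.card {k : K // (k : G)⁻¹ * z * k = v} : ℂ) * ψ v +
      (Nat.card {k : K // (k : G)⁻¹ * z⁻¹ * k = v} : ℂ) * ψ v =
      (q : ℂ) * ψ v - if v = 1 then (q : ℂ) else 0 := by
    intro v
    by_cases hv : v = 1
    · subst hv
      have h1 : IsEmpty {k : K // (k : G)⁻¹ * z * k = ((1 : U) : G)} := ⟨fun k => hz1 (by
        have e : (k.1 : G)⁻¹ * z * k.1 = 1 := k.2.trans (OneMemClass.coe_one U)
        rwa [mul_assoc, inv_mul_eq_one, eq_comm, mul_eq_right] at e)⟩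
      have h2 : IsEmpty {k : K // (k : G)⁻¹ * z⁻¹ * k = ((1 : U) : G)} := ⟨fun k => hz1 (by
        have e : (k.1 : G)⁻¹ * z⁻¹ * k.1 = 1 := k.2.trans (OneMemClass.coe_one U)
        rwa [mul_assoc, inv_mul_eq_one, eq_comm, mul_eq_right, inv_eq_one] at e)⟩
      rw [Nat.card_of_isEmpty, Nat.card_of_isEmpty, if_pos rfl, map_one]
      simp
    · rw [if_neg hv, sub_zero, ← add_mul, ← Nat.cast_add,
        h.root_count hu ho hroot hz hz1 (hU ▸ v.2) fun e => hv (Subtype.ext e)]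
  have hsum : ∑ k : K, (extendByZero U ψ ((k : G)⁻¹ * z * k) +
      extendByZero U ψ ((k : G)⁻¹ * z⁻¹ * k)) = -(q : ℂ) := by
    rw [Finset.sum_add_distrib, hK z hz.1, hK z⁻¹ (inv_mem hz.1), ← Finset.sum_add_distrib,
      Finset.sum_congr rfl fun v _ => hcount v, Finset.sum_sub_distrib, ← Finset.mul_sum]
    obtain ⟨x, hx⟩ := hψ
    rw [sum_lin_eq_zero ψ hx, Finset.sum_ite_eq', if_pos (Finset.mem_univ _)]
    ring
  rw [← h.centEquiv.sum_comp, Fintype.sum_prod_type, Fintype.sum_bool]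
  have hconj : ∀ (k : K) (w : G), w ∈ K → (t * (k : G))⁻¹ * w * (t * k) = (k : G)⁻¹ * w * k := by
    intro k w hw
    calc (t * (k : G))⁻¹ * w * (t * k) = (k : G)⁻¹ * (t⁻¹ * (w * t)) * k := by group
      _ = _ := by rw [← (h.comm_t hw).eq, inv_mul_cancel_left]
  simp only [centEquiv_apply, Bool.false_eq_true, if_false, if_true, one_mul, hconj _ _ hz.1,
    hconj _ _ (inv_mem hz.1), hsum]
  push_cast
  ring

end Setup

/-- Products of two involutions equal to `t z`, `1 ≠ z ∈ A`. -/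
theorem Tor.fibre_tor [Finite G] {t : G} {K : Subgroup G} {q : ℕ} {y r : G} (D : Tor t K q y r)
    {z : G} (hz : z ∈ oddPart y) (hz1 : z ≠ 1) : ClassCount.fibreCount t t (t * z) = q + 1 := by
  rw [ClassCount.fibreCount, ← D.card_big]
  have hzW := D.odd_le_big hz
  have hr : ∀ w ∈ bigTorus t y, r * w ≠ 1 ∧ r * w * (r * w) = 1 := fun w hw =>
    ⟨fun e => D.r_not_big (eq_inv_of_mul_eq_one_left e ▸ inv_mem hw), D.r_mul_sq hw⟩
  symm
  let f : bigTorus t y → {g : G // IsConj t g ∧ IsConj t (g⁻¹ * (t * z))} := fun w =>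
    ⟨r * (w : G), D.base.isConj_iff_sq.2 (hr _ w.2), D.base.isConj_iff_sq.2 (by
      rw [inv_eq_of_mul_eq_one_right (hr _ w.2).2, mul_assoc]
      exact hr _ (mul_mem w.2 (mul_mem D.t_mem_big hzW)))⟩
  refine Nat.card_congr (Equiv.ofBijective f ⟨fun a b e =>
    Subtype.ext (mul_left_cancel (congrArg Subtype.val e :)), ?_⟩)
  rintro ⟨g, hg, hg'⟩
  obtain ⟨-, hg2⟩ := D.base.isConj_iff_sq.1 hg
  obtain ⟨-, hg2'⟩ := D.base.isConj_iff_sq.1 hg'
  have h1 : g * (t * z) * g⁻¹ = (t * z)⁻¹ := by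
    rw [inv_eq_of_mul_eq_one_right hg2] at hg2' ⊢
    refine eq_inv_of_mul_eq_one_left ?_
    simpa [mul_assoc] using hg2'
  obtain ⟨hp1, hp2⟩ : (t * z) ^ ((q + 1) / 4) = t ∧ (t * z) ^ ((q + 1) / 4 + 1) = z :=
    D.vElt_mul_pow 1 hz
  have h2 : g * t * g⁻¹ = t := by
    have := congrArg (· ^ ((q + 1) / 4)) h1
    simpa only [conj_pow, inv_pow, hp1, D.base.inv_t] using this
  have h3 : g * z * g⁻¹ = z⁻¹ := by
    have := congrArg (· ^ ((q + 1) / 4 + 1)) h1
    simpa only [conj_pow, inv_pow, hp2] using this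
  have hgt : Commute g t := mul_inv_eq_iff_eq_mul.1 h2
  have hrz : Commute (r * g) z := mul_inv_eq_iff_eq_mul.1 (by
    calc r * g * z * (r * g)⁻¹ = r * (g * z * g⁻¹) * r⁻¹ := by group
      _ = z := by rw [h3, ← conj_inv, D.r_conj_odd hz, inv_inv])
  exact ⟨⟨r * g, D.cent_odd hz hz1 (D.comm_tr.symm.mul_left hgt) hrz⟩, Subtype.ext (by
    show r * (r * g) = g
    rw [← mul_assoc, D.r_sq, one_mul])⟩

end Cfsg.Agent.ReeInverted
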