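import Cfsg.Agent.EqLemmas
import Cfsg.Agent.Lib.ReeInverted.Count
import Mathlib.GroupTheory.FiniteAbelian.Duality

/-!
A linear character `μ` of `A` trivial on the fixed points of `w`, and its conjugates `lc j` under `w`.

* `exists_mu`
* `lc_sum_inv`, `lc_sum_mul` : orthogonality of the conjugates
-/

set_option autoImplicit false
set_option linter.unusedSectionVars false

namespace Cfsg.Agent.ReeInverted

open Subgroup
open scoped IsMulCommutative ComplexConjugate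

variable {G : Type*} [Group G]

/-- A non-trivial linear character of a finite abelian subgroup at a given element. -/
theorem exists_lin_ne_one [Finite G] (H : Subgroup G) (hH : ∀ a ∈ H, ∀ b ∈ H, a * b = b * a)
    {x : H} (hx : x ≠ 1) : ∃ l : H →* ℂ, l x ≠ 1 := by
  have : IsMulCommutative H := ⟨⟨fun a b => Subtype.ext (hH a a.2 b b.2)⟩⟩
  have : NeZero ((Monoid.exponent H : ℕ) : ℂ) := ⟨Nat.cast_ne_zero.2 Monoid.exponent_ne_zero_of_finite⟩
  obtain ⟨φ, hφ⟩ := CommGroup.exists_apply_ne_one_of_hasEnoughRootsOfUnity H ℂ hx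
  exact ⟨(Units.coeHom ℂ).comp φ, fun e => hφ (Units.val_eq_one.1 e)⟩

/-- `μ` conjugated by `w ^ j`, extended by zero. -/
noncomputable def lc {y : G} (μ : oddPart y →* ℂ) (w : G) (j : ℕ) (z : G) : ℂ :=
  extendByZero (oddPart y) μ (w ^ j * z * (w ^ j)⁻¹)

namespace Cyc

variable [Finite G] {t : G} {K : Subgroup G} {q : ℕ} {y r w : G} (E : Cyc t K q y r w)
include E

theorem exists_mu : ∃ μ : oddPart y →* ℂ, (∃ x, μ x ≠ 1) ∧
    ∀ x : oddPart y, Commute w (x : G) → μ x = 1 := by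
  have D := E.torData
  have hA : ∀ a ∈ oddPart y, ∀ b ∈ oddPart y, a * b = b * a := fun a ha b hb =>
    D.big_comm (D.odd_le_big ha) (D.odd_le_big hb)
  obtain ⟨x0, hx0, hxw⟩ := E.not_fixes
  obtain ⟨ν, hν⟩ := exists_lin_ne_one (oddPart y) hA
    (x := ⟨x0 * (w * x0⁻¹ * w⁻¹), mul_mem hx0 (E.conj_odd (inv_mem hx0))⟩) (by
      intro e
      have e' : x0 * (w * x0⁻¹ * w⁻¹) = 1 := congrArg Subtype.val e
      apply hxw
      rw [show w * x0⁻¹ * w⁻¹ = (w * x0 * w⁻¹)⁻¹ by group, mul_inv_eq_one, eq_mul_inv_iff_mul_eq] at e'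
      exact e'.symm)
  let m : oddPart y →* oddPart y :=
    { toFun := fun x => ⟨(x : G) * (w * (x : G)⁻¹ * w⁻¹), mul_mem x.2 (E.conj_odd (inv_mem x.2))⟩
      map_one' := Subtype.ext (by simp)
      map_mul' := fun a b => Subtype.ext (by
        show (a : G) * b * (w * ((a : G) * b)⁻¹ * w⁻¹) =
          (a : G) * (w * (a : G)⁻¹ * w⁻¹) * ((b : G) * (w * (b : G)⁻¹ * w⁻¹))
        rw [hA a a.2 b b.2]
        calc (b : G) * a * (w * ((b : G) * a)⁻¹ * w⁻¹)
            = (b : G) * ((a : G) * (w * (a : G)⁻¹ * w⁻¹)) * (w * (b : G)⁻¹ * w⁻¹) := by group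
          _ = (a : G) * (w * (a : G)⁻¹ * w⁻¹) * b * (w * (b : G)⁻¹ * w⁻¹) := by
            rw [hA (b : G) b.2 _ (mul_mem a.2 (E.conj_odd (inv_mem a.2)))]
          _ = _ := by group) }
  refine ⟨ν.comp m, ⟨⟨x0, hx0⟩, hν⟩, fun x hx => ?_⟩
  have : m x = 1 := Subtype.ext (by
    show (x : G) * (w * (x : G)⁻¹ * w⁻¹) = 1
    rw [hx.inv_right.eq, mul_inv_cancel_right, mul_inv_cancel])
  rw [MonoidHom.comp_apply, this, map_one]

section lc

variable (μ : oddPart y →* ℂ) (hμ : ∃ x, μ x ≠ 1) (hμ0 : ∀ x : oddPart y, Commute w (x : G) → μ x = 1)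

theorem lc_mem (j : ℕ) {z : G} (hz : z ∈ oddPart y) :
    lc μ w j z = μ ⟨w ^ j * z * (w ^ j)⁻¹, E.pow_conj_odd j hz⟩ :=
  Char.extendByZero_mem _ _ _

theorem lc_zero {z : G} (hz : z ∈ oddPart y) : lc μ w 0 z = μ ⟨z, hz⟩ := by
  rw [E.lc_mem μ 0 hz]; congr 1; exact Subtype.ext (by simp)

theorem lc_one (j : ℕ) : lc μ w j 1 = 1 := by
  rw [E.lc_mem μ j (one_mem _)]
  convert map_one μ using 2
  exact Subtype.ext (by simp)

theorem lc_mul (j : ℕ) {z z' : G} (hz : z ∈ oddPart y) (hz' : z' ∈ oddPart y) :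
    lc μ w j (z * z') = lc μ w j z * lc μ w j z' := by
  rw [E.lc_mem μ j hz, E.lc_mem μ j hz', E.lc_mem μ j (mul_mem hz hz'), ← map_mul]
  congr 1
  exact Subtype.ext conj_mul.symm

theorem lc_inv (j : ℕ) {z : G} (hz : z ∈ oddPart y) : lc μ w j z⁻¹ = conj (lc μ w j z) := by
  rw [E.lc_mem μ j hz, E.lc_mem μ j (inv_mem hz), conj_lin]
  congr 1
  exact Subtype.ext conj_inv.symm

theorem lc_conj (i j : ℕ) (z : G) : lc μ w j (w ^ i * z * (w ^ i)⁻¹) = lc μ w (j + i) z := by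
  simp only [lc]; congr 1; rw [pow_add]; group

theorem lc_three (j : ℕ) (z : G) : lc μ w (j + 3) z = lc μ w j z := by
  simp only [lc]; rw [pow_add, E.cube, mul_one]

theorem lc_mod (j : ℕ) (z : G) : lc μ w j z = lc μ w (j % 3) z := by
  simp only [lc]
  rw [show w ^ j = w ^ (j % 3) by
    conv_lhs => rw [← Nat.mod_add_div j 3, pow_add, pow_mul, E.cube, one_pow, mul_one]]

theorem lc_pow_a (j : ℕ) {z : G} (hz : z ∈ oddPart y) : lc μ w j z ^ ((q + 1) / 4) = 1 := by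
  rw [E.lc_mem μ j hz, ← map_pow]
  convert map_one μ using 2
  exact Subtype.ext (E.torData.odd_pow (E.pow_conj_odd j hz))

include hμ0 in
theorem lc_fix (j : ℕ) {z : G} (hz : z ∈ oddPart y) (hc : Commute w z) : lc μ w j z = 1 := by
  rw [E.lc_mem μ j hz]
  refine hμ0 _ ?_
  show Commute w (w ^ j * z * (w ^ j)⁻¹)
  rw [(hc.pow_left j).eq, mul_inv_cancel_right]; exact hc

include hμ hμ0 in
theorem lc_ne_next : ∃ z ∈ oddPart y, lc μ w 0 z ≠ lc μ w 1 z := by
  have D := E.torData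
  by_contra hno
  push Not at hno
  obtain ⟨⟨x, hx⟩, hx1⟩ := hμ
  apply hx1
  set x1 := w ^ 1 * x * (w ^ 1)⁻¹ with hx1d
  set x2 := w ^ 2 * x * (w ^ 2)⁻¹ with hx2d
  have hm1 : x1 ∈ oddPart y := E.pow_conj_odd 1 hx
  have hm2 : x2 ∈ oddPart y := E.pow_conj_odd 2 hx
  have hA : ∀ a ∈ oddPart y, ∀ b ∈ oddPart y, a * b = b * a := fun a ha b hb =>
    D.big_comm (D.odd_le_big ha) (D.odd_le_big hb)
  have hN : Commute w (x * x1 * x2) := mul_inv_eq_iff_eq_mul.1 (by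
    calc w * (x * x1 * x2) * w⁻¹ = x1 * x2 * (w ^ 3 * x * (w ^ 3)⁻¹) := by rw [hx1d, hx2d]; group
      _ = x * x1 * x2 := by
        rw [E.cube, one_mul, inv_one, mul_one, hA _ (mul_mem hm1 hm2) _ hx, ← mul_assoc])
  have e := E.lc_fix μ hμ0 0 (mul_mem (mul_mem hx hm1) hm2) hN
  rw [E.lc_mul μ 0 (mul_mem hx hm1) hm2, E.lc_mul μ 0 hx hm1, hx1d, hx2d, E.lc_conj, E.lc_conj] at e
  have e1 : lc μ w (0 + 1) x = lc μ w 0 x := (hno x hx).symm
  have e2 : lc μ w (0 + 2) x = lc μ w 0 x := by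
    have h1 := hno x1 hm1
    rw [hx1d, E.lc_conj, E.lc_conj, e1] at h1
    exact h1.symm
  rw [e1, e2] at e
  have h3 : lc μ w 0 x ^ 3 = 1 := by rw [← e]; ring
  have hg : lc μ w 0 x = 1 := by
    have := (pow_gcd_eq_one (a := lc μ w 0 x)).2 ⟨h3, E.lc_pow_a μ 0 hx⟩
    rwa [Nat.prime_three.coprime_iff_not_dvd.2 D.three_not_dvd, pow_one] at this
  rwa [E.lc_zero μ hx] at hg

include hμ hμ0 in
theorem lc_ne {i j : ℕ} (hij : i % 3 ≠ j % 3) : ∃ z ∈ oddPart y, lc μ w i z ≠ lc μ w j z := by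
  by_contra hno
  push Not at hno
  obtain ⟨z, hz, hz'⟩ := E.lc_ne_next μ hμ hμ0
  apply hz'
  have key : ∀ k : ℕ, lc μ w ((i + k) % 3) z = lc μ w ((j + k) % 3) z := fun k => by
    rw [← E.lc_mod μ, ← E.lc_mod μ, ← E.lc_conj μ, ← E.lc_conj μ]
    exact hno _ (E.pow_conj_odd k hz)
  rcases (show (j + (3 - i % 3)) % 3 = 1 ∧ (i + (3 - i % 3)) % 3 = 0 ∨
      (i + (3 - j % 3)) % 3 = 1 ∧ (j + (3 - j % 3)) % 3 = 0 by omega) with ⟨h1, h2⟩ | ⟨h1, h2⟩
  · have := key (3 - i % 3)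
    rwa [h1, h2] at this
  · have := key (3 - j % 3)
    rw [h1, h2] at this
    exact this.symm

include hμ hμ0 in
theorem lc_mul_ne (i j : ℕ) : ∃ z ∈ oddPart y, lc μ w i z * lc μ w j z ≠ 1 := by
  have D := E.torData
  by_contra hno
  push Not at hno
  by_cases hij : i % 3 = j % 3
  · obtain ⟨z, hz, hz'⟩ := E.lc_ne μ hμ hμ0 (i := i) (j := i + 1) (by omega)
    apply hz'
    have hall : ∀ x ∈ oddPart y, lc μ w i x = 1 := by
      intro x hx
      have h2 : lc μ w i x ^ 2 = 1 := by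
        have := hno x hx
        rwa [E.lc_mod μ j, ← hij, ← E.lc_mod μ, ← pow_two] at this
      have := (pow_gcd_eq_one (a := lc μ w i x)).2 ⟨h2, E.lc_pow_a μ i hx⟩
      rwa [Nat.coprime_two_left.2 D.odd_a, pow_one] at this
    rw [hall z hz, ← E.lc_conj μ 1 i z, hall _ (E.pow_conj_odd 1 hz)]
  · -- the third index would be equal to the first
    obtain ⟨z, hz, hz'⟩ := E.lc_ne μ hμ hμ0 (i := i) (j := i + 2 * (j % 3 + 3 - i % 3)) (by omega)
    apply hz'
    set d := j % 3 + 3 - i % 3 with hd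
    have h1 : lc μ w i z * lc μ w (i + d) z = 1 := by
      rw [E.lc_mod μ (i + d), show (i + d) % 3 = j % 3 by omega, ← E.lc_mod μ]
      exact hno z hz
    have h2 : lc μ w (i + d) z * lc μ w (i + 2 * d) z = 1 := by
      have := hno _ (E.pow_conj_odd d hz)
      rw [E.lc_conj, E.lc_conj, E.lc_mod μ (j + d), show (j + d) % 3 = (i + 2 * d) % 3 by omega,
        ← E.lc_mod μ] at this
      exact this
    calc lc μ w i z = lc μ w i z * (lc μ w (i + d) z * lc μ w (i + 2 * d) z) := by rw [h2, mul_one]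
      _ = _ := by rw [← mul_assoc, h1, one_mul]

include hμ hμ0 in
theorem lc_sum_inv [Fintype (oddPart y)] (i j : ℕ) :
    ∑ z : oddPart y, lc μ w i z * lc μ w j (z : G)⁻¹ =
      if i % 3 = j % 3 then (((q + 1) / 4 : ℕ) : ℂ) else 0 := by
  let l : oddPart y →* ℂ :=
    { toFun := fun z => lc μ w i z * lc μ w j (z : G)⁻¹
      map_one' := by simp [E.lc_one]
      map_mul' := fun a b => by
        simp only [coe_mul, mul_inv_rev, E.lc_mul μ i a.2 b.2, E.lc_mul μ j (inv_mem b.2) (inv_mem a.2)]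
        ring }
  split_ifs with h
  · have hl : ∀ z : oddPart y, l z = 1 := fun z => by
      show lc μ w i z * lc μ w j (z : G)⁻¹ = 1
      rw [E.lc_mod μ j, ← h, ← E.lc_mod μ, ← E.lc_mul μ i z.2 (inv_mem z.2), mul_inv_cancel, E.lc_one]
    show ∑ z : oddPart y, l z = _
    rw [Finset.sum_congr rfl fun z _ => hl z, Finset.sum_const, Finset.card_univ, nsmul_eq_mul, mul_one,
      ← Nat.card_eq_fintype_card, E.torData.card_odd]
  · obtain ⟨z, hz, hz'⟩ := E.lc_ne μ hμ hμ0 h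
    refine sum_lin_eq_zero l (x := ⟨z, hz⟩) fun e => hz' ?_
    have e' : lc μ w i z * lc μ w j z⁻¹ = 1 := e
    calc lc μ w i z = lc μ w i z * (lc μ w j z⁻¹ * lc μ w j z) := by
          rw [← E.lc_mul μ j (inv_mem hz) hz, inv_mul_cancel, E.lc_one, mul_one]
      _ = _ := by rw [← mul_assoc, e', one_mul]

include hμ hμ0 in
theorem lc_sum_mul [Fintype (oddPart y)] (i j : ℕ) :
    ∑ z : oddPart y, lc μ w i z * lc μ w j z = 0 := by
  let l : oddPart y →* ℂ :=
    { toFun := fun z => lc μ w i z * lc μ w j z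
      map_one' := by simp [E.lc_one]
      map_mul' := fun a b => by
        simp only [coe_mul, E.lc_mul μ i a.2 b.2, E.lc_mul μ j a.2 b.2]
        ring }
  obtain ⟨z, hz, hz'⟩ := E.lc_mul_ne μ hμ hμ0 i j
  exact sum_lin_eq_zero l (x := ⟨z, hz⟩) hz'

end lc

end Cyc

end Cfsg.Agent.ReeInverted
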