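import Cfsg.Agent.EqLemmas
import Cfsg.Agent.Lib.ReeInverted.Lin

/-!
The class functions of the contradiction: `delta` on the section of `t`, `fInd k` on the torus.

* `delta_inner_self` : norm 4
* `fInd_inner` : norms 2 and mutual product 1
* `fInd_inner_delta` : the products are `-2`
* `delta_inner_fibre` : the product with the counting function
-/

set_option autoImplicit false
set_option linter.unusedSectionVars false

namespace Cfsg.Agent.ReeInverted

open Subgroup
open scoped ComplexConjugate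

variable {G : Type*} [Group G]

/-- `C_K(u)` -/
def rootGrp (K : Subgroup G) (u : G) : Subgroup G := K ⊓ centralizer ({u} : Set G)

/-- The data at a root element. -/
structure Root (t : G) (K : Subgroup G) (q : ℕ) (u : G) (ψ : rootGrp K u →* ℂ) : Prop where
  base : Setup t K q
  u_mem : u ∈ K
  order : orderOf u = 3
  root : ∀ z ∈ K, Commute z u → z ≠ 1 → ∃ k ∈ K, k * u * k⁻¹ = z ∨ k * u * k⁻¹ = z⁻¹
  psi : ∃ x, ψ x ≠ 1

theorem exists_root [Finite G] {t : G} {K : Subgroup G} {q : ℕ} (h : Setup t K q) :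
    ∃ (u : G) (ψ : rootGrp K u →* ℂ), Root t K q u ψ := by
  obtain ⟨u, hu, hroot⟩ := h.facts.root
  have ho : orderOf (u : G) = 3 := by rw [orderOf_coe]; exact hu
  have hm : (u : G) ∈ rootGrp K u := ⟨u.2, mem_centralizer_singleton_iff.2 rfl⟩
  obtain ⟨ψ, hψ⟩ := exists_lin_ne_one (rootGrp K (u : G)) (fun a ha b hb =>
    ((h.facts_u u.2 ho).2 a ha.1 b hb.1 (mem_centralizer_singleton_iff.1 ha.2)
      (mem_centralizer_singleton_iff.1 hb.2)).1) (x := ⟨u, hm⟩) (fun e => by
      have e' : (u : G) = 1 := congrArg Subtype.val e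
      rw [e', orderOf_one] at ho; omega)
  refine ⟨u, ψ, h, u.2, ho, fun z hz hzu hz1 => ?_, _, hψ⟩
  rcases hroot ⟨z, hz⟩ (Subtype.ext hzu.eq) (fun e => hz1 (congrArg Subtype.val e)) with hc | hc
  · obtain ⟨k, hk⟩ := isConj_iff.1 hc
    exact ⟨k, k.2, Or.inl (by simpa using congrArg Subtype.val hk)⟩
  · obtain ⟨k, hk⟩ := isConj_iff.1 hc
    exact ⟨k, k.2, Or.inr (by simpa using congrArg Subtype.val hk)⟩

/-- `2 Ind β_U - Ind β_A` -/
noncomputable def delta [Fintype G] (t y : G) {U : Subgroup G} (ψ : U →* ℂ) (μ : oddPart y →* ℂ) :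
    G → ℂ :=
  fun g => 2 * (twInd t U ψ g + twInd t U (fun v => conj (ψ v)) g) - twInd t (oddPart y) μ g

/-- The sign on `{1, t, s, ts}`. -/
noncomputable def vsgn (t v : G) : ℂ := by
  classical exact if v = 1 ∨ v = t then 1 else -1

/-- The signs. -/
def sgn : Fin 4 → ℂ := ![1, 1, -1, -1]

/-- The action of `w` on `1, t, s, ts`. -/
def cyc4 : Fin 4 → Fin 4 := ![0, 2, 3, 1]

/-- `ψ₁ ⊗ (λ₀ - λₖ)` -/
noncomputable def fTor (q : ℕ) {t y : G} (μ : oddPart y →* ℂ) (w : G) (k : ℕ) : bigTorus t y → ℂ :=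
  fun g => vsgn t ((g : G) ^ ((q + 1) / 4)) *
    (lc μ w 0 ((g : G) ^ ((q + 1) / 4 + 1)) - lc μ w k ((g : G) ^ ((q + 1) / 4 + 1)))

/-- The induced function. -/
noncomputable def fInd [Fintype G] (q : ℕ) {t y : G} (μ : oddPart y →* ℂ) (w : G) (k : ℕ) : G → ℂ :=
  indFun (bigTorus t y) (fTor q (t := t) μ w k)

/-- The number of ways to write `g` as a product of two conjugates of `t`. -/
noncomputable def nFun (t g : G) : ℂ := (ClassCount.fibreCount t t g : ℂ)

namespace Root

variable [Finite G] {t : G} {K : Subgroup G} {q : ℕ} {u : G} {ψ : rootGrp K u →* ℂ}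
  (R : Root t K q u ψ)
include R

theorem comm {v : G} (hv : v ∈ rootGrp K u) : Commute t v := R.base.comm_t hv.1

theorem cube {v : G} (hv : v ∈ rootGrp K u) : v ^ 3 = 1 :=
  ((R.base.facts_u R.u_mem R.order).2 v hv.1 v hv.1 (mem_centralizer_singleton_iff.1 hv.2)
    (mem_centralizer_singleton_iff.1 hv.2)).2

theorem t_not : t ∉ rootGrp K u := fun h => R.base.t_not_mem h.1

theorem card : Nat.card (rootGrp K u) = q := (R.base.facts_u R.u_mem R.order).1

theorem exp (a : ℕ) {v : G} (hv : v ∈ rootGrp K u) : v ^ (3 * a) = 1 := by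
  rw [pow_mul, R.cube hv, one_pow]

end Root

section

variable [Fintype G] {t : G} {K : Subgroup G} {q : ℕ} {y r w u : G}
  {ψ : rootGrp K u →* ℂ} {μ : oddPart y →* ℂ}
  (E : Cyc t K q y r w) (R : Root t K q u ψ)
  (hμ : ∃ x, μ x ≠ 1) (hμ0 : ∀ x : oddPart y, Commute w (x : G) → μ x = 1)

include E

theorem odd_three_a : Odd (3 * ((q + 1) / 4)) := (by decide : Odd 3).mul E.torData.odd_a

theorem odd_exp {z : G} (hz : z ∈ oddPart y) : z ^ (3 * ((q + 1) / 4)) = 1 := by
  rw [mul_comm, pow_mul, E.torData.odd_pow hz, one_pow]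

theorem comm_odd {z : G} (hz : z ∈ oddPart y) : Commute t z :=
  E.torData.big_comm E.torData.t_mem_big (E.torData.odd_le_big hz)

theorem t_not_odd : t ∉ oddPart y := fun h => by
  have := E.torData.odd_pow h
  obtain ⟨j, hj⟩ := E.torData.odd_a
  rw [hj, pow_succ, pow_mul, pow_two, E.torData.base.tt, one_pow, one_mul] at this
  exact E.torData.base.ne_one this

theorem nq : (q : ℂ) ≠ 0 := Nat.cast_ne_zero.2 (by have := E.torData.base.le; omega)

theorem na : (((q + 1) / 4 : ℕ) : ℂ) ≠ 0 := Nat.cast_ne_zero.2 (by have := E.torData.seven_le; omega)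

theorem four_a_cast : 4 * (((q + 1) / 4 : ℕ) : ℂ) = (q : ℂ) + 1 := by
  exact_mod_cast E.torData.four_a

theorem a_cast : (((q + 1) / 4 : ℕ) : ℂ) = ((q : ℂ) + 1) / 4 := by
  linear_combination (four_a_cast E) / 4

theorem nq1 : (q : ℂ) + 1 ≠ 0 := by exact_mod_cast Nat.succ_ne_zero q

theorem card_cent_cast :
    (Nat.card (centralizer ({t} : Set G)) : ℂ) = (q : ℂ) * (((q : ℂ) + 1) * ((q : ℂ) - 1)) := by
  rw [E.torData.base.card_cent, Nat.cast_mul, Nat.cast_mul, Nat.cast_sub (by have := E.torData.base.le; omega)]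
  push_cast; ring

include R

theorem delta_isGen : IsGeneralizedCharacter G (delta t y ψ μ) := by
  have htt := R.base.tt
  have h1 := twInd_isGen htt (fun v hv => R.comm hv) R.t_not ψ
  have h2 := twInd_isGen htt (fun v hv => R.comm hv) R.t_not ((starRingEnd ℂ).toMonoidHom.comp ψ)
  have h3 := twInd_isGen htt (fun z hz => comm_odd E hz) (t_not_odd E) μ
  have e : delta t y ψ μ = ((2 : ℤ) : ℂ) • (twInd t (rootGrp K u) ψ +
      twInd t (rootGrp K u) ((starRingEnd ℂ).toMonoidHom.comp ψ)) - twInd t (oddPart y) μ := by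
    funext g
    simp only [delta, Pi.sub_apply, Pi.smul_apply, Pi.add_apply, smul_eq_mul, Int.cast_ofNat]
    rfl
  rw [e]
  exact Char.IsGeneralizedCharacter.sub
    (Char.IsGeneralizedCharacter.intCast_smul (Char.IsGeneralizedCharacter.add h1 h2) 2) h3

theorem delta_class : IsClassFunction G (delta t y ψ μ) :=
  Char.IsGeneralizedCharacter.isClassFunction (delta_isGen E R)

theorem delta_odd {g : G} (hg : g ^ (3 * ((q + 1) / 4)) = 1) : delta t y ψ μ g = 0 := by
  have hN := odd_three_a E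
  simp only [delta]
  rw [twInd_eq_zero R.base.tt R.base.ne_one (fun v hv => R.comm hv) _ hN (fun v hv => R.exp _ hv) hg,
    twInd_eq_zero R.base.tt R.base.ne_one (fun v hv => R.comm hv) _ hN (fun v hv => R.exp _ hv) hg,
    twInd_eq_zero R.base.tt R.base.ne_one (fun z hz => comm_odd E hz) _ hN (fun z hz => odd_exp E hz) hg]
  ring

/-- The value at `t`. -/
theorem delta_t : delta t y ψ μ t = 4 * ((q : ℂ) - 1) := by
  classical
  have := Fintype.ofFinite (centralizer ({t} : Set G))
  have hN := odd_three_a E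
  have e : t = t * 1 := (mul_one t).symm
  have key : ∀ (H : Subgroup G) (φ : H → ℂ), ∑ x : centralizer ({t} : Set G),
      extendByZero H φ ((x : G)⁻¹ * 1 * x) =
        (Nat.card (centralizer ({t} : Set G)) : ℂ) * φ 1 := fun H φ => by
    simp only [mul_one, inv_mul_cancel, Char.extendByZero_mem H φ (one_mem H), Finset.sum_const,
      Finset.card_univ, nsmul_eq_mul, Nat.card_eq_fintype_card]
    rfl
  simp only [delta]
  nth_rw 2 4 6 [e]
  rw [twInd_apply R.base.tt (fun v hv => R.comm hv) _ hN (fun v hv => R.exp _ hv) (Commute.one_right t) (one_pow _),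
    twInd_apply R.base.tt (fun v hv => R.comm hv) _ hN (fun v hv => R.exp _ hv) (Commute.one_right t) (one_pow _),
    twInd_apply R.base.tt (fun z hz => comm_odd E hz) _ hN (fun z hz => odd_exp E hz) (Commute.one_right t) (one_pow _),
    key, key, key, map_one, map_one μ, map_one, R.card, E.torData.card_odd, card_cent_cast E, a_cast E]
  have h0 := nq E
  have h1 := nq1 E
  field_simp
  ring

open Classical in
/-- The values on `t C_K(u)`. -/
theorem delta_root {v : G} (hv : v ∈ rootGrp K u) :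
    delta t y ψ μ (t * v) = (if v = 1 then 4 * (q : ℂ) else 0) - 4 := by
  classical
  by_cases h1 : v = 1
  · rw [if_pos h1, h1, mul_one, delta_t E R]; ring
  rw [if_neg h1, zero_sub]
  have := Fintype.ofFinite (centralizer ({t} : Set G))
  have hN := odd_three_a E
  simp only [delta]
  rw [twInd_apply R.base.tt (fun v hv => R.comm hv) _ hN (fun v hv => R.exp _ hv) (R.comm hv) (R.exp _ hv),
    twInd_apply R.base.tt (fun v hv => R.comm hv) _ hN (fun v hv => R.exp _ hv) (R.comm hv) (R.exp _ hv),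
    twInd_apply R.base.tt (fun z hz => comm_odd E hz) _ hN (fun z hz => odd_exp E hz) (R.comm hv) (R.exp _ hv)]
  have hA : ∀ x : centralizer ({t} : Set G), extendByZero (oddPart y) μ ((x : G)⁻¹ * v * x) = 0 := by
    intro x
    refine Char.extendByZero_not_mem _ _ fun hm => h1 ?_
    have h3 : ((x : G)⁻¹ * v * x) ^ 3 = 1 := by
      have := conj_pow (a := (x : G)⁻¹) (b := v) (i := 3)
      rw [inv_inv] at this
      rw [this, R.cube hv, mul_one, inv_mul_cancel]
    have := (pow_gcd_eq_one (a := (x : G)⁻¹ * v * x)).2 ⟨h3, E.torData.odd_pow hm⟩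
    rw [Nat.prime_three.coprime_iff_not_dvd.2 E.torData.three_not_dvd, pow_one, mul_assoc,
      inv_mul_eq_one, eq_comm, mul_eq_right] at this
    exact this
  have hbar : ∀ x : centralizer ({t} : Set G),
      extendByZero (rootGrp K u) (fun v => conj (ψ v)) ((x : G)⁻¹ * v * x) =
        extendByZero (rootGrp K u) ψ ((x : G)⁻¹ * v⁻¹ * x) := by
    intro x
    rw [show (x : G)⁻¹ * v⁻¹ * x = ((x : G)⁻¹ * v * x)⁻¹ by group]
    by_cases hm : (x : G)⁻¹ * v * x ∈ rootGrp K u
    · rw [Char.extendByZero_mem _ _ hm, Char.extendByZero_mem _ _ (inv_mem hm), conj_lin]; rfl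
    · rw [Char.extendByZero_not_mem _ _ hm,
        Char.extendByZero_not_mem _ _ fun h2 => hm (by simpa using inv_mem h2)]
  simp only [hA, hbar, Finset.sum_const_zero, mul_zero, sub_zero]
  rw [← mul_add, ← Finset.sum_add_distrib,
    R.base.sum_root_conj R.u_mem R.order R.root (U := rootGrp K u) rfl ψ R.psi hv h1, R.card]
  have h0 := nq E
  push_cast
  field_simp
  ring

open Classical in
/-- The values on `t A`. -/
theorem delta_tor {z : G} (hz : z ∈ oddPart y) :
    delta t y ψ μ (t * z) = (if z = 1 then 16 * (((q + 1) / 4 : ℕ) : ℂ) else 0) -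
      4 * (lc μ w 0 z + lc μ w 0 z⁻¹) := by
  classical
  by_cases h1 : z = 1
  · rw [if_pos h1, h1, mul_one, inv_one, E.lc_one, delta_t E R]
    linear_combination (-4 : ℂ) * four_a_cast E
  rw [if_neg h1, zero_sub]
  have := Fintype.ofFinite (centralizer ({t} : Set G))
  have hN := odd_three_a E
  have hzt := comm_odd E hz
  simp only [delta]
  rw [twInd_apply R.base.tt (fun v hv => R.comm hv) _ hN (fun v hv => R.exp _ hv) hzt (odd_exp E hz),
    twInd_apply R.base.tt (fun v hv => R.comm hv) _ hN (fun v hv => R.exp _ hv) hzt (odd_exp E hz),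
    twInd_apply R.base.tt (fun z hz => comm_odd E hz) _ hN (fun z hz => odd_exp E hz) hzt (odd_exp E hz)]
  have hU : ∀ (φ : rootGrp K u → ℂ) (x : centralizer ({t} : Set G)),
      extendByZero (rootGrp K u) φ ((x : G)⁻¹ * z * x) = 0 := by
    intro φ x
    refine Char.extendByZero_not_mem _ _ fun hm => h1 ?_
    have h3 : ((x : G)⁻¹ * z * x) ^ ((q + 1) / 4) = 1 := by
      have := conj_pow (a := (x : G)⁻¹) (b := z) (i := (q + 1) / 4)
      rw [inv_inv] at this
      rw [this, E.torData.odd_pow hz, mul_one, inv_mul_cancel]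
    have := (pow_gcd_eq_one (a := (x : G)⁻¹ * z * x)).2 ⟨R.cube hm, h3⟩
    rw [Nat.prime_three.coprime_iff_not_dvd.2 E.torData.three_not_dvd, pow_one, mul_assoc,
      inv_mul_eq_one, eq_comm, mul_eq_right] at this
    exact this
  simp only [hU, Finset.sum_const_zero, mul_zero, add_zero, zero_sub]
  rw [E.torData.sum_odd_conj (μ : oddPart y → ℂ) hz h1, ← E.lc_zero μ hz, ← E.lc_zero μ (inv_mem hz),
    E.torData.card_odd]
  have h0 := na E
  rw [Nat.cast_add, Nat.cast_one, ← four_a_cast E]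
  field_simp

include hμ hμ0

theorem delta_inner_self : classInner (delta t y ψ μ) (delta t y ψ μ) = 4 := by
  classical
  have := Fintype.ofFinite (rootGrp K u)
  have := Fintype.ofFinite (oddPart y)
  have hd := delta_class E R (μ := μ) (ψ := ψ)
  have e : delta t y ψ μ = (2 : ℂ) • (twInd t (rootGrp K u) ψ +
      twInd t (rootGrp K u) (fun v => conj (ψ v))) - twInd t (oddPart y) μ := by
    funext g; simp [delta, mul_add]
  nth_rw 1 [e]
  rw [Char.classInner_sub_left, Char.classInner_smul_left, Char.classInner_add_left,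
    twInd_inner R.base.tt _ _ hd, twInd_inner R.base.tt _ _ hd, twInd_inner R.base.tt _ _ hd]
  have hU : ∀ (l : rootGrp K u →* ℂ), (∃ x, l x ≠ 1) →
      ∑ v : rootGrp K u, l v * conj (delta t y ψ μ (t * v)) = 4 * (q : ℂ) := by
    intro l ⟨x, hx⟩
    have : ∀ v : rootGrp K u, l v * conj (delta t y ψ μ (t * v)) =
        (if v = 1 then 4 * (q : ℂ) else 0) - 4 * l v := by
      intro v
      rw [delta_root E R v.2]
      by_cases hv : v = 1
      · subst hv
        simp [map_ofNat]
      · rw [if_neg (fun e : (v : G) = 1 => hv (Subtype.ext e)), if_neg hv]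
        simp [map_ofNat]; ring
    rw [Finset.sum_congr rfl fun v _ => this v, Finset.sum_sub_distrib, Finset.sum_ite_eq',
      if_pos (Finset.mem_univ _), ← Finset.mul_sum, sum_lin_eq_zero l hx]
    ring
  have h2 := hU ψ R.psi
  have h3 : ∑ v : rootGrp K u, conj (ψ v) * conj (delta t y ψ μ (t * v)) = 4 * (q : ℂ) :=
    hU ((starRingEnd ℂ).toMonoidHom.comp ψ) (by
      obtain ⟨x, hx⟩ := R.psi
      exact ⟨x, fun e => hx ((starRingEnd ℂ).injective (by rw [map_one]; exact e))⟩)
  have hA : ∑ z : oddPart y, μ z * conj (delta t y ψ μ (t * z)) = 12 * (((q + 1) / 4 : ℕ) : ℂ) := by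
    have : ∀ z : oddPart y, μ z * conj (delta t y ψ μ (t * z)) =
        (if z = 1 then 16 * (((q + 1) / 4 : ℕ) : ℂ) else 0) -
          4 * (lc μ w 0 z * lc μ w 0 (z : G)⁻¹ + lc μ w 0 z * lc μ w 0 z) := by
      intro z
      rw [delta_tor E R z.2, show μ z = lc μ w 0 z from (E.lc_zero μ z.2).symm, map_sub, map_mul,
        map_add, ← E.lc_inv μ 0 z.2, ← E.lc_inv μ 0 (inv_mem z.2), inv_inv, map_ofNat]
      by_cases hz : z = 1
      · subst hz
        simp [E.lc_one, map_ofNat]
      · rw [if_neg (fun e : (z : G) = 1 => hz (Subtype.ext e)), if_neg hz, map_zero]; ring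
    rw [Finset.sum_congr rfl fun z _ => this z, Finset.sum_sub_distrib, Finset.sum_ite_eq',
      if_pos (Finset.mem_univ _), ← Finset.mul_sum, Finset.sum_add_distrib,
      E.lc_sum_inv μ hμ hμ0, E.lc_sum_mul μ hμ hμ0, if_pos rfl]
    ring
  rw [h2, h3, hA, R.card, E.torData.card_odd]
  have h0 := nq E
  have h1 := na E
  field_simp
  ring

end

section

variable [Fintype G] {t : G} {K : Subgroup G} {q : ℕ} {y r w : G} {μ : oddPart y →* ℂ}
  (E : Cyc t K q y r w)
  (hμ : ∃ x, μ x ≠ 1) (hμ0 : ∀ x : oddPart y, Commute w (x : G) → μ x = 1)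

include E

theorem vsgn_vElt (i : Fin 4) : vsgn t (vElt t q y i) = sgn i := by
  have hne : i ≠ 0 → i ≠ 1 → ¬ (vElt t q y i = 1 ∨ vElt t q y i = t) := fun h0 h1 h =>
    h.elim (fun e => h0 (E.torData.vElt_injective (a₂ := 0) e))
      fun e => h1 (E.torData.vElt_injective (a₂ := 1) e)
  simp only [vsgn]
  fin_cases i
  · exact if_pos (Or.inl rfl)
  · exact if_pos (Or.inr rfl)
  · exact if_neg (hne (by decide) (by decide))
  · exact if_neg (hne (by decide) (by decide))

theorem vsgn_mul (i j : Fin 4) :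
    vsgn t (vElt t q y i * vElt t q y j) = sgn i * sgn j := by
  have D := E.torData
  have hts : t * sInv q y * (t * sInv q y) = 1 := by
    rw [← pow_two, D.comm_ts.mul_pow, pow_two, pow_two, D.base.tt, D.s_sq, one_mul]
  have e1 : t * (t * sInv q y) = sInv q y := by rw [← mul_assoc, D.base.tt, one_mul]
  have e2 : sInv q y * t = t * sInv q y := D.comm_ts.symm.eq
  have e3 : sInv q y * (t * sInv q y) = t := by rw [← mul_assoc, e2, mul_assoc, D.s_sq, mul_one]
  have e4 : t * sInv q y * t = sInv q y := by rw [mul_assoc, e2, e1]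
  have e5 : t * sInv q y * sInv q y = t := by rw [mul_assoc, D.s_sq, mul_one]
  have v0 := vsgn_vElt E 0
  have v1 := vsgn_vElt E 1
  have v2 := vsgn_vElt E 2
  have v3 := vsgn_vElt E 3
  simp only [vElt, sgn, Matrix.cons_val_zero, Matrix.cons_val_one, Matrix.cons_val] at v0 v1 v2 v3
  fin_cases i <;> fin_cases j <;>
    simp [vElt, sgn, hts, e1, e2, e3, e4, e5, D.base.tt, D.s_sq, v0, v1, v2, v3]

theorem fTor_apply (k : ℕ) (p : Fin 4 × oddPart y) :
    fTor q μ w k (E.torData.bigEquiv p) = sgn p.1 * (lc μ w 0 p.2 - lc μ w k p.2) := by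
  obtain ⟨h1, h2⟩ := E.torData.vElt_mul_pow p.1 p.2.2
  simp only [fTor, E.torData.bigEquiv_apply, h1, h2, vsgn_vElt E]

theorem fTor_isGen (k : ℕ) : IsGeneralizedCharacter (bigTorus t y) (fTor q μ w k) := by
  have D := E.torData
  have hl : ∀ j : ℕ, IsCharacter (bigTorus t y) (fun g : bigTorus t y =>
      vsgn t ((g : G) ^ ((q + 1) / 4)) * lc μ w j ((g : G) ^ ((q + 1) / 4 + 1))) := by
    intro j
    let l : bigTorus t y →* ℂ :=
      { toFun := fun g => vsgn t ((g : G) ^ ((q + 1) / 4)) * lc μ w j ((g : G) ^ ((q + 1) / 4 + 1))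
        map_one' := by
          have h0 : vsgn t (1 : G) = 1 := (vsgn_vElt E 0).trans rfl
          simp [h0, E.lc_one]
        map_mul' := fun a b => by
          obtain ⟨⟨i, z⟩, rfl⟩ := D.bigEquiv.surjective a
          obtain ⟨⟨i', z'⟩, rfl⟩ := D.bigEquiv.surjective b
          obtain ⟨h1, h2⟩ := D.vElt_mul_pow i z.2
          obtain ⟨h3, h4⟩ := D.vElt_mul_pow i' z'.2
          have hc : Commute (vElt t q y i * z) (vElt t q y i' * z') :=
            D.big_comm (mul_mem (D.vElt_mem i) (D.odd_le_big z.2)) (mul_mem (D.vElt_mem i') (D.odd_le_big z'.2))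
          simp only [coe_mul, D.bigEquiv_apply, hc.mul_pow, h1, h2, h3, h4, vsgn_mul E, vsgn_vElt E,
            E.lc_mul μ j z.2 z'.2]
          ring }
    exact Char.isCharacter_of_hom l
  exact ⟨_, _, hl 0, hl k, funext fun g => by simp [fTor, mul_sub]⟩

theorem fInd_isGen (k : ℕ) : IsGeneralizedCharacter G (fInd q (t := t) μ w k) :=
  Char.IsGeneralizedCharacter.indFun (fTor_isGen E k)

theorem fInd_class (k : ℕ) : IsClassFunction G (fInd q (t := t) μ w k) :=
  Char.indFun_isClassFunction _ _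

theorem fInd_one (k : ℕ) : fInd q (t := t) μ w k 1 = 0 := by
  rw [fInd, Char.indFun_one_apply]
  simp [fTor, E.lc_one]

theorem sum_big {M : Type*} [AddCommMonoid M] [Fintype (bigTorus t y)] [Fintype (oddPart y)]
    (φ : bigTorus t y → M) :
    ∑ g : bigTorus t y, φ g = ∑ z : oddPart y, ∑ i : Fin 4, φ (E.torData.bigEquiv (i, z)) := by
  rw [← E.torData.bigEquiv.sum_comp, Fintype.sum_prod_type, Finset.sum_comm]

theorem conj_vElt (i : Fin 4) : w * vElt t q y i * w⁻¹ = vElt t q y (cyc4 i) := by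
  fin_cases i
  · simp [vElt, cyc4]
  · exact E.wt
  · exact E.ws
  · exact E.wts

theorem rconj_vElt (i : Fin 4) : r * vElt t q y i * r⁻¹ = vElt t q y i := by
  have D := E.torData
  have : Commute r (vElt t q y i) := by
    fin_cases i
    · exact Commute.one_right r
    · exact D.comm_tr.symm
    · exact D.comm_rs
    · exact D.comm_tr.symm.mul_right D.comm_rs
  rw [this.eq, mul_inv_cancel_right]

theorem pow_conj_vElt (j : ℕ) (i : Fin 4) :
    w ^ j * vElt t q y i * (w ^ j)⁻¹ = vElt t q y (cyc4^[j] i) := by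
  induction j with
  | zero => simp
  | succ j ih =>
    rw [pow_succ', Function.iterate_succ_apply', ← conj_vElt E, ← ih]; group

theorem fTor_conj (k j : ℕ) (i : Fin 4) {z : G} (hz : z ∈ oddPart y) :
    extendByZero (bigTorus t y) (fTor q μ w k) (w ^ j * (vElt t q y i * z) * (w ^ j)⁻¹) =
      sgn (cyc4^[j] i) * (lc μ w j z - lc μ w (k + j) z) := by
  have e : w ^ j * (vElt t q y i * z) * (w ^ j)⁻¹ =
      (E.torData.bigEquiv (cyc4^[j] i, ⟨_, E.pow_conj_odd j hz⟩) : G) := by
    rw [E.torData.bigEquiv_apply, ← pow_conj_vElt E j i]; simp [mul_assoc]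
  rw [e, Char.extendByZero_coe, fTor_apply E, E.lc_conj μ, E.lc_conj μ, zero_add]

theorem w_pow_injective {j j' : ℕ} (hj : j < 3) (hj' : j' < 3)
    (h : (w ^ j)⁻¹ * w ^ j' ∈ bigTorus t y ∨ r * ((w ^ j)⁻¹ * w ^ j') ∈ bigTorus t y) : j = j' := by
  have e : (w ^ j)⁻¹ * w ^ j' = w ^ (2 * j + j') := by
    rw [pow_add, inv_eq_of_mul_eq_one_right (show w ^ j * w ^ (2 * j) = 1 by
      rw [← pow_add, show j + 2 * j = 3 * j by ring, pow_mul, E.cube, one_pow])]
  rw [e] at h
  rcases h with h | h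
  · have := E.w_pow_mem h
    omega
  · have h2 := E.torData.r_mul_sq h
    rw [← mul_assoc r r, E.torData.r_sq, one_mul, ← pow_add] at h2
    have := E.w_pow_mem (k := 2 * j + j' + (2 * j + j')) (h2 ▸ one_mem _)
    omega

include hμ0 in
/-- The values of `fInd` on `W`. -/
theorem fInd_apply (k : ℕ) (i : Fin 4) {z : G} (hz : z ∈ oddPart y) (hzw : ¬ Commute w z) :
    fInd q (t := t) μ w k (vElt t q y i * z) = ∑ j : Fin 3, sgn (cyc4^[(j : ℕ)] i) *
      ((lc μ w j z - lc μ w (k + j) z) + (lc μ w j z⁻¹ - lc μ w (k + j) z⁻¹)) := by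
  classical
  have D := E.torData
  have := Fintype.ofFinite (bigTorus t y)
  set g := vElt t q y i * z with hg
  have hgW : g ∈ bigTorus t y := mul_mem (D.vElt_mem i) (D.odd_le_big hz)
  let f : Fin 3 × Bool × bigTorus t y ↪ G :=
    ⟨fun p => (w ^ (p.1 : ℕ) * ((if p.2.1 then r else 1) * (p.2.2 : G)))⁻¹, by
      rintro ⟨j, b, v⟩ ⟨j', b', v'⟩ e
      have e' : w ^ (j : ℕ) * ((if b then r else 1) * (v : G)) =
          w ^ (j' : ℕ) * ((if b' then r else 1) * (v' : G)) := inv_injective e
      have hw : (w ^ (j : ℕ))⁻¹ * w ^ (j' : ℕ) =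
          (if b then r else 1) * (v : G) * (v' : G)⁻¹ * (if b' then r else 1)⁻¹ := by
        calc (w ^ (j : ℕ))⁻¹ * w ^ (j' : ℕ) =
            (w ^ (j : ℕ))⁻¹ * (w ^ (j' : ℕ) * ((if b' then r else 1) * (v' : G))) * (v' : G)⁻¹ *
              (if b' then r else 1)⁻¹ := by group
          _ = _ := by rw [← e']; group
      have hjj : (j : ℕ) = j' := by
        refine w_pow_injective E j.2 j'.2 ?_
        rw [hw]
        have hv := mul_mem v.2 (inv_mem v'.2)
        cases b <;> cases b' <;> simp only [Bool.false_eq_true, if_false, if_true, one_mul, inv_one, mul_one]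
        · exact Or.inl hv
        · refine Or.inr ?_
          have h5 := D.r_mul_sq hv
          rw [show r * ((v : G) * (v' : G)⁻¹ * r⁻¹) = r * ((v : G) * (v' : G)⁻¹) * r by
            rw [D.r_inv_self]; group]
          have h6 : r * ((v : G) * (v' : G)⁻¹) * r = ((v : G) * (v' : G)⁻¹)⁻¹ := by
            rw [eq_inv_iff_mul_eq_one]; simpa [mul_assoc] using h5
          rw [h6]; exact inv_mem hv
        · refine Or.inr ?_
          rw [mul_assoc r, ← mul_assoc r r, D.r_sq, one_mul]; exact hv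
        · refine Or.inl ?_
          have h5 := D.r_mul_sq hv
          rw [D.r_inv_self, mul_assoc r]
          have h6 : r * ((v : G) * (v' : G)⁻¹) * r = ((v : G) * (v' : G)⁻¹)⁻¹ := by
            rw [eq_inv_iff_mul_eq_one]; simpa [mul_assoc] using h5
          rw [h6]; exact inv_mem hv
      obtain rfl : j = j' := Fin.ext hjj
      have e2 := mul_left_cancel e'
      cases b <;> cases b' <;> simp only [Bool.false_eq_true, if_false, if_true, one_mul] at e2
      · rw [Subtype.ext e2]
      · exact absurd (eq_mul_inv_of_mul_eq e2.symm ▸ mul_mem v.2 (inv_mem v'.2)) D.r_not_big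
      · exact absurd (eq_mul_inv_of_mul_eq e2 ▸ mul_mem v'.2 (inv_mem v.2)) D.r_not_big
      · rw [Subtype.ext (mul_left_cancel e2)]⟩
  simp only [fInd, indFun]
  rw [← Finset.sum_subset (Finset.subset_univ (Finset.univ.map f))]
  · have hsum : ∀ p : Fin 3 × Bool × bigTorus t y,
        extendByZero (bigTorus t y) (fTor q μ w k) ((f p)⁻¹ * g * f p) =
          sgn (cyc4^[(p.1 : ℕ)] i) * (lc μ w p.1 (if p.2.1 then z⁻¹ else z) -
            lc μ w (k + p.1) (if p.2.1 then z⁻¹ else z)) := by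
      rintro ⟨j, b, v⟩
      have hv : (v : G) * g * (v : G)⁻¹ = g := by rw [D.big_comm v.2 hgW, mul_inv_cancel_right]
      have e : (f (j, b, v))⁻¹ * g * f (j, b, v) =
          w ^ (j : ℕ) * (vElt t q y i * (if b then z⁻¹ else z)) * (w ^ (j : ℕ))⁻¹ := by
        show ((w ^ (j : ℕ) * ((if b then r else 1) * (v : G)))⁻¹)⁻¹ * g *
          (w ^ (j : ℕ) * ((if b then r else 1) * (v : G)))⁻¹ = _
        calc ((w ^ (j : ℕ) * ((if b then r else 1) * (v : G)))⁻¹)⁻¹ * g *
              (w ^ (j : ℕ) * ((if b then r else 1) * (v : G)))⁻¹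
            = w ^ (j : ℕ) * ((if b then r else 1) * ((v : G) * g * (v : G)⁻¹) *
                (if b then r else 1)⁻¹) * (w ^ (j : ℕ))⁻¹ := by group
          _ = _ := by
            rw [hv, hg]
            cases b
            · simp
            · simp only [if_true]
              rw [show r * (vElt t q y i * z) * r⁻¹ =
                (r * vElt t q y i * r⁻¹) * (r * z * r⁻¹) by group, rconj_vElt E, D.r_conj_odd hz]
      rw [e, fTor_conj E]
      cases b
      · exact hz
      · exact inv_mem hz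
    rw [Finset.sum_map, Finset.sum_congr rfl fun p _ => hsum p]
    simp only [Fintype.sum_prod_type, Fintype.sum_bool, Finset.sum_const, Finset.card_univ,
      nsmul_eq_mul, Bool.false_eq_true, if_false, if_true]
    rw [← Nat.card_eq_fintype_card, D.card_big, Finset.mul_sum]
    refine Finset.sum_congr rfl fun j _ => ?_
    have h0 : ((q + 1 : ℕ) : ℂ) ≠ 0 := Nat.cast_ne_zero.2 (by omega)
    field_simp
    ring
  · intro x _ hx
    by_contra hne
    apply hx
    have hm : x⁻¹ * g * x ∈ bigTorus t y := by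
      by_contra hm
      exact hne (Char.extendByZero_not_mem _ _ hm)
    obtain ⟨h1, h2⟩ := D.vElt_mul_pow i hz
    set z' := x⁻¹ * z * x with hz'
    have hpow : (x⁻¹ * g * x) ^ ((q + 1) / 4 + 1) = z' := by
      have := conj_pow (a := x⁻¹) (b := g) (i := (q + 1) / 4 + 1)
      rw [inv_inv] at this
      rw [this, h2]
    have hz'A : z' ∈ oddPart y := hpow ▸ D.pow_succ_mem_odd hm
    have hz'w : ¬ Commute w z' := by
      intro hc
      apply hne
      rw [Char.extendByZero_mem _ _ hm]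
      simp only [fTor, hpow, E.lc_fix μ hμ0 _ hz'A hc, sub_self, mul_zero]
    have hin : ∀ v ∈ bigTorus t y, x⁻¹ * v * x ∈ bigTorus t y := fun v hv => by
      refine E.cent_eq hz'A hz'w ?_
      show x⁻¹ * v * x * z' = z' * (x⁻¹ * v * x)
      calc x⁻¹ * v * x * z' = x⁻¹ * (v * z) * x := by rw [hz']; group
        _ = x⁻¹ * (z * v) * x := by rw [D.big_comm hv (D.odd_le_big hz)]
        _ = _ := by rw [hz']; group
    obtain ⟨j, hj, v, hv, e | e⟩ := E.mem_cases (g := x⁻¹) (by simpa using hin t D.t_mem_big)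
      (by simpa using hin _ D.s_mem_big)
    · simp only [Finset.mem_map, Finset.mem_univ, true_and]
      refine ⟨(⟨j, hj⟩, false, ⟨v, hv⟩), ?_⟩
      show (w ^ j * ((if false = true then r else 1) * v))⁻¹ = x
      rw [show ((if false = true then r else 1) : G) * v = v by simp, ← e, inv_inv]
    · simp only [Finset.mem_map, Finset.mem_univ, true_and]
      refine ⟨(⟨j, hj⟩, true, ⟨v, hv⟩), ?_⟩
      show (w ^ j * ((if true = true then r else 1) * v))⁻¹ = x
      rw [if_pos rfl, ← e, inv_inv]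

include hμ hμ0

theorem fInd_inner (k l : ℕ) (hk : k = 1 ∨ k = 2) (hl : l = 1 ∨ l = 2) :
    classInner (fInd q (t := t) μ w k) (fInd q (t := t) μ w l) = if k = l then 2 else 1 := by
  classical
  have D := E.torData
  have := Fintype.ofFinite (bigTorus t y)
  have := Fintype.ofFinite (oddPart y)
  conv_lhs => arg 1; rw [fInd]
  rw [Char.frobenius_reciprocity _ _ (fInd_class E l), classInner, sum_big E, D.card_big]
  have key : ∀ z : oddPart y, ∑ i : Fin 4, fTor q μ w k (D.bigEquiv (i, z)) *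
      conj (fInd q (t := t) μ w l (D.bigEquiv (i, z) : G)) =
      4 * ((lc μ w 0 z - lc μ w k z) *
        ((lc μ w 0 (z : G)⁻¹ - lc μ w l (z : G)⁻¹) + (lc μ w 0 z - lc μ w l z))) := by
    intro z
    by_cases hzw : Commute w (z : G)
    · simp only [fTor_apply E, E.lc_fix μ hμ0 _ z.2 hzw, sub_self, mul_zero, zero_mul,
        Finset.sum_const_zero]
    simp only [fTor_apply E, D.bigEquiv_apply, fInd_apply E hμ0 l _ z.2 hzw, Fin.sum_univ_four,
      Fin.sum_univ_three, map_add, map_mul, map_sub, ← E.lc_inv μ _ z.2,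
      ← E.lc_inv μ _ (inv_mem z.2), inv_inv]
    simp [cyc4, sgn, Function.iterate_succ, Fin.ext_iff]
    ring
  rw [Finset.sum_congr rfl fun z _ => key z, ← Finset.mul_sum]
  simp only [sub_mul, mul_add, mul_sub, Finset.sum_sub_distrib, Finset.sum_add_distrib,
    E.lc_sum_inv μ hμ hμ0, E.lc_sum_mul μ hμ hμ0]
  rw [Nat.cast_add, Nat.cast_one, ← four_a_cast E]
  have h0 := na E
  rcases hk with rfl | rfl <;> rcases hl with rfl | rfl <;> norm_num <;> field_simp <;> ring

end

section

variable [Fintype G] {t : G} {K : Subgroup G} {q : ℕ} {y r w u : G}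
  {ψ : rootGrp K u →* ℂ} {μ : oddPart y →* ℂ}
  (E : Cyc t K q y r w) (R : Root t K q u ψ)
  (hμ : ∃ x, μ x ≠ 1) (hμ0 : ∀ x : oddPart y, Commute w (x : G) → μ x = 1)

include E R hμ hμ0

theorem fInd_inner_delta (k : ℕ) (hk : k = 1 ∨ k = 2) :
    classInner (fInd q (t := t) μ w k) (delta t y ψ μ) = -2 := by
  classical
  have D := E.torData
  have := Fintype.ofFinite (bigTorus t y)
  have := Fintype.ofFinite (oddPart y)
  rw [fInd, Char.frobenius_reciprocity _ _ (delta_class E R), classInner, sum_big E, D.card_big]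
  have hd := delta_class E R (μ := μ) (ψ := ψ)
  have hM : ∀ (j : ℕ) (z : G), z ∈ oddPart y →
      delta t y ψ μ (w ^ j * (t * (w ^ (2 * j) * z * (w ^ (2 * j))⁻¹)) * (w ^ j)⁻¹) =
        (if z = 1 then 16 * (((q + 1) / 4 : ℕ) : ℂ) else 0) -
          4 * (lc μ w (2 * j) z + lc μ w (2 * j) z⁻¹) := by
    intro j z hz
    rw [hd, delta_tor E R (E.pow_conj_odd _ hz), conj_eq_one_iff, conj_inv, E.lc_conj, E.lc_conj,
      zero_add]
  have hval : ∀ i : Fin 4, ∀ z : oddPart y, delta t y ψ μ (vElt t q y i * z) =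
      ![0, (if (z : G) = 1 then 16 * (((q + 1) / 4 : ℕ) : ℂ) else 0) -
            4 * (lc μ w 0 z + lc μ w 0 (z : G)⁻¹),
          (if (z : G) = 1 then 16 * (((q + 1) / 4 : ℕ) : ℂ) else 0) -
            4 * (lc μ w 2 z + lc μ w 2 (z : G)⁻¹),
          (if (z : G) = 1 then 16 * (((q + 1) / 4 : ℕ) : ℂ) else 0) -
            4 * (lc μ w 1 z + lc μ w 1 (z : G)⁻¹)] i := by
    intro i z
    fin_cases i
    · show delta t y ψ μ (1 * (z : G)) = _
      rw [one_mul]
      exact delta_odd E R (odd_exp E z.2)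
    · show delta t y ψ μ (t * (z : G)) = _
      exact delta_tor E R z.2
    · show delta t y ψ μ (sInv q y * (z : G)) = _
      have h1 := hM 1 z z.2
      have e : w ^ 1 * (t * (w ^ (2 * 1) * (z : G) * (w ^ (2 * 1))⁻¹)) * (w ^ 1)⁻¹ = sInv q y * z := by
        rw [← E.wt]
        calc w ^ 1 * (t * (w ^ (2 * 1) * (z : G) * (w ^ (2 * 1))⁻¹)) * (w ^ 1)⁻¹
            = (w * t * w⁻¹) * (w ^ 3 * z * (w ^ 3)⁻¹) := by group
          _ = _ := by rw [E.cube, one_mul, inv_one, mul_one]
      rw [e] at h1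
      exact h1
    · show delta t y ψ μ (t * sInv q y * (z : G)) = _
      have h1 := hM 2 z z.2
      have e : w ^ 2 * (t * (w ^ (2 * 2) * (z : G) * (w ^ (2 * 2))⁻¹)) * (w ^ 2)⁻¹ =
          t * sInv q y * z := by
        rw [← E.ws, ← E.wt]
        calc w ^ 2 * (t * (w ^ (2 * 2) * (z : G) * (w ^ (2 * 2))⁻¹)) * (w ^ 2)⁻¹
            = (w * (w * t * w⁻¹) * w⁻¹) * ((w ^ 3) ^ 2 * z * ((w ^ 3) ^ 2)⁻¹) := by
              rw [pow_two w]; group
          _ = _ := by rw [E.cube, one_pow, one_mul, inv_one, mul_one]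
      rw [e, E.lc_mod μ (2 * 2), E.lc_mod μ (2 * 2)] at h1
      exact h1
  have key : ∀ z : oddPart y, ∑ i : Fin 4, fTor q μ w k (D.bigEquiv (i, z)) *
      conj (delta t y ψ μ (D.bigEquiv (i, z) : G)) =
      -4 * ((lc μ w 0 z - lc μ w k z) *
        ((lc μ w 0 (z : G)⁻¹ + lc μ w 0 z) - (lc μ w 2 (z : G)⁻¹ + lc μ w 2 z) -
          (lc μ w 1 (z : G)⁻¹ + lc μ w 1 z))) := by
    intro z
    simp only [fTor_apply E, D.bigEquiv_apply, hval, Fin.sum_univ_four]
    by_cases hz : (z : G) = 1
    · simp [hz, E.lc_one]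
    · simp [hz, sgn, map_sub, map_add, map_mul, map_ofNat, ← E.lc_inv μ _ z.2,
        ← E.lc_inv μ _ (inv_mem z.2), inv_inv]
      ring
  rw [Finset.sum_congr rfl fun z _ => key z, ← Finset.mul_sum]
  simp only [sub_mul, mul_add, mul_sub, Finset.sum_sub_distrib, Finset.sum_add_distrib,
    E.lc_sum_inv μ hμ hμ0, E.lc_sum_mul μ hμ hμ0]
  rw [Nat.cast_add, Nat.cast_one, ← four_a_cast E]
  have h0 := na E
  rcases hk with rfl | rfl <;> norm_num <;> field_simp <;> ring

theorem delta_inner_fibre :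
    classInner (delta t y ψ μ) (nFun t) = 8 * (q : ℂ) / ((q : ℂ) + 1) := by
  classical
  have D := E.torData
  have := Fintype.ofFinite (rootGrp K u)
  have := Fintype.ofFinite (oddPart y)
  have hn : IsClassFunction G (nFun t) := fun g c => by
    simp only [nFun, ClassCount.fibreCount_conj]
  have h27 := D.base.le
  have e : delta t y ψ μ = (2 : ℂ) • (twInd t (rootGrp K u) ψ +
      twInd t (rootGrp K u) (fun v => conj (ψ v))) - twInd t (oddPart y) μ := by
    funext g; simp [delta, mul_add]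
  rw [e, Char.classInner_sub_left, Char.classInner_smul_left, Char.classInner_add_left,
    twInd_inner R.base.tt _ _ hn, twInd_inner R.base.tt _ _ hn, twInd_inner R.base.tt _ _ hn]
  have hU : ∀ l : rootGrp K u → ℂ, l 1 = 1 →
      ∑ v : rootGrp K u, l v * conj (nFun t (t * v)) = (q : ℂ) * ((q : ℂ) - 1) := by
    intro l hl
    rw [Finset.sum_eq_single 1 (fun v _ hv => ?_) (fun h => absurd (Finset.mem_univ _) h)]
    · rw [hl, OneMemClass.coe_one, mul_one, nFun, D.base.fibre_t, map_natCast, Nat.cast_mul,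
        Nat.cast_sub (by omega), Nat.cast_one]
      ring
    · rw [nFun, D.base.fibre_root (R.cube v.2) (fun h => hv (Subtype.ext h)) (R.comm v.2), Nat.cast_zero,
        map_zero, mul_zero]
  have hA : ∑ z : oddPart y, μ z * conj (nFun t (t * z)) =
      (q : ℂ) * ((q : ℂ) - 1) - ((q : ℂ) + 1) := by
    have : ∀ z : oddPart y, μ z * conj (nFun t (t * z)) =
        (if z = 1 then (q : ℂ) * ((q : ℂ) - 1) - ((q : ℂ) + 1) else 0) + ((q : ℂ) + 1) * μ z := by
      intro z
      by_cases hz : z = 1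
      · subst hz
        rw [if_pos rfl, map_one, OneMemClass.coe_one, mul_one, nFun, D.base.fibre_t, map_natCast,
          Nat.cast_mul, Nat.cast_sub (by omega), Nat.cast_one]
        ring
      · rw [if_neg hz, zero_add, nFun, D.fibre_tor z.2 (fun h => hz (Subtype.ext h)), map_natCast,
          Nat.cast_add, Nat.cast_one, mul_comm]
    obtain ⟨x, hx⟩ := hμ
    rw [Finset.sum_congr rfl fun z _ => this z, Finset.sum_add_distrib, Finset.sum_ite_eq',
      if_pos (Finset.mem_univ _), ← Finset.mul_sum, sum_lin_eq_zero μ hx]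
    ring
  rw [hU ψ (map_one ψ), hU _ (by rw [map_one, map_one]), hA, R.card, D.card_odd, a_cast E]
  have h0 := nq E
  have h1 := nq1 E
  field_simp
  ring

end

end Cfsg.Agent.ReeInverted
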