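import Cfsg.Agent.EqLemmas
import Cfsg.Agent.Lib.ReeInverted.Delta

/-!
Groups of Ree type have an inverted element of order three.

* `Setup.false` : the set-up is contradictory
* `not_noInverted_of_isReeType`
-/

set_option autoImplicit false
set_option linter.unusedSectionVars false

namespace Cfsg.Agent.ReeInverted

open Subgroup GoldschmidtFree
open scoped ComplexConjugate

/-- A vector of norm two orthogonal to a positive vector. -/
theorem norm_two {ι : Type*} [Fintype ι] (m : ι → ℤ) (d : ι → ℕ) (hd : ∀ i, 0 < d i)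
    (h2 : ∑ i, m i ^ 2 = 2) (h0 : ∑ i, m i * (d i : ℤ) = 0) :
    ∃ A B, A ≠ B ∧ m A = 1 ∧ m B = -1 ∧ d A = d B ∧ ∀ i, i ≠ A → i ≠ B → m i = 0 := by
  classical
  have hsmall : ∀ i, m i = 0 ∨ m i = 1 ∨ m i = -1 := by
    intro i
    have hle : m i ^ 2 ≤ 2 := h2 ▸ Finset.single_le_sum (f := fun i => m i ^ 2)
      (fun i _ => sq_nonneg _) (Finset.mem_univ i)
    have h1 : m i ≤ 1 := by nlinarith
    have h1' : -1 ≤ m i := by nlinarith
    omega
  have hsq : ∀ i, m i ≠ 0 → m i ^ 2 = 1 := fun i hi => by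
    rcases hsmall i with e | e | e
    · exact absurd e hi
    · rw [e]; norm_num
    · rw [e]; norm_num
  set S := Finset.univ.filter fun i => m i ≠ 0 with hS
  have hcard : S.card = 2 := by
    have h3 : ∑ i ∈ S, m i ^ 2 = 2 := by
      rw [← h2]
      refine Finset.sum_subset (Finset.subset_univ _) fun i _ hi => ?_
      simp only [S, Finset.mem_filter, Finset.mem_univ, true_and, not_not] at hi
      simp [hi]
    rw [Finset.sum_congr rfl fun i hi => hsq i (Finset.mem_filter.1 hi).2, Finset.sum_const,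
      nsmul_eq_mul, mul_one] at h3
    exact_mod_cast h3
  obtain ⟨A, B, hAB, hset⟩ := Finset.card_eq_two.1 hcard
  have hz : ∀ i, i ≠ A → i ≠ B → m i = 0 := by
    intro i hA hB
    by_contra hi
    have : i ∈ S := Finset.mem_filter.2 ⟨Finset.mem_univ i, hi⟩
    rw [hset, Finset.mem_insert, Finset.mem_singleton] at this
    exact this.elim hA hB
  have hA : m A ≠ 0 := (Finset.mem_filter.1 (show A ∈ S by rw [hset]; exact Finset.mem_insert_self _ _)).2
  have hB : m B ≠ 0 := (Finset.mem_filter.1 (show B ∈ S by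
    rw [hset]; exact Finset.mem_insert_of_mem (Finset.mem_singleton_self _))).2
  rw [Fintype.sum_eq_add A B hAB (fun i hi => by rw [hz i hi.1 hi.2, zero_mul])] at h0
  have hdA : (0 : ℤ) < d A := Nat.cast_pos.2 (hd A)
  have hdB : (0 : ℤ) < d B := Nat.cast_pos.2 (hd B)
  rcases (hsmall A).resolve_left hA with eA | eA <;> rcases (hsmall B).resolve_left hB with eB | eB <;>
    rw [eA, eB] at h0
  · omega
  · exact ⟨A, B, hAB, eA, eB, by omega, hz⟩
  · exact ⟨B, A, hAB.symm, eB, eA, by omega, fun i h h' => hz i h' h⟩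
  · omega

variable {G : Type*} [Group G]

/-- The set-up is contradictory. -/
theorem Setup.false [Finite G] {t : G} {K : Subgroup G} {q : ℕ} (h : Setup t K q) : False := by
  classical
  have := Fintype.ofFinite G
  have := Fintype.ofFinite (IrrCharacter G)
  obtain ⟨y, r, w, E⟩ := exists_cyc h
  obtain ⟨u, ψ, R⟩ := exists_root h
  obtain ⟨μ, hμ, hμ0⟩ := E.exists_mu
  obtain ⟨md, hde, hdc, hdn⟩ := Char.IsGeneralizedCharacter.exists_coeffs (delta_isGen E R (μ := μ) (ψ := ψ))
  obtain ⟨m1, h1e, h1c, h1n⟩ := Char.IsGeneralizedCharacter.exists_coeffs (fInd_isGen E (μ := μ) 1)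
  obtain ⟨m2, h2e, h2c, h2n⟩ := Char.IsGeneralizedCharacter.exists_coeffs (fInd_isGen E (μ := μ) 2)
  rw [delta_inner_self E R hμ hμ0] at hdn
  rw [fInd_inner E hμ hμ0 1 1 (Or.inl rfl) (Or.inl rfl), if_pos rfl] at h1n
  rw [fInd_inner E hμ hμ0 2 2 (Or.inr rfl) (Or.inr rfl), if_pos rfl] at h2n
  have hd4 : ∑ χ, md χ ^ 2 = 4 := by exact_mod_cast hdn.symm
  have h12 : ∑ χ, m1 χ ^ 2 = 2 := by exact_mod_cast h1n.symm
  have h22 : ∑ χ, m2 χ ^ 2 = 2 := by exact_mod_cast h2n.symm
  -- mutual products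
  have hprod : ∀ (a b : IrrCharacter G → ℤ) (f g : G → ℂ), IsClassFunction G f →
      (∀ χ : IrrCharacter G, classInner f (χ : G → ℂ) = a χ) →
      (∀ χ : IrrCharacter G, classInner g (χ : G → ℂ) = b χ) →
      classInner f g = ((∑ χ, a χ * b χ : ℤ) : ℂ) := by
    intro a b f g hf ha hb
    rw [Char.classInner_eq_sum hf g]
    push_cast
    exact Finset.sum_congr rfl fun χ _ => by rw [ha, hb, map_intCast]
  have hm12 : ∑ χ, m1 χ * m2 χ = 1 := by
    have e := hprod m1 m2 _ _ (fInd_class E 1) h1c h2c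
    rw [fInd_inner E hμ hμ0 1 2 (Or.inl rfl) (Or.inr rfl), if_neg (by norm_num)] at e
    exact_mod_cast e.symm
  have hm1d : ∑ χ, m1 χ * md χ = -2 := by
    have e := hprod m1 md _ _ (fInd_class E 1) h1c hdc
    rw [fInd_inner_delta E R hμ hμ0 1 (Or.inl rfl)] at e
    exact_mod_cast e.symm
  have hm2d : ∑ χ, m2 χ * md χ = -2 := by
    have e := hprod m2 md _ _ (fInd_class E 2) h2c hdc
    rw [fInd_inner_delta E R hμ hμ0 2 (Or.inr rfl)] at e
    exact_mod_cast e.symm
  -- values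
  choose deg hdegpos hdeg using fun χ : IrrCharacter G => Char.IsIrrCharacter.exists_degree χ.2
  have heval : ∀ (a : IrrCharacter G → ℤ) (f : G → ℂ), f = ∑ χ, (a χ : ℂ) • (χ : G → ℂ) →
      ∀ g, f g = ∑ χ : IrrCharacter G, (a χ : ℂ) * (χ : G → ℂ) g := by
    intro a f e g
    rw [e]; simp
  have hone : ∀ a : IrrCharacter G → ℤ, ∑ χ : IrrCharacter G, (a χ : ℂ) * (χ : G → ℂ) 1 = 0 →
      ∑ χ, a χ * (deg χ : ℤ) = 0 := by
    intro a e
    simp only [hdeg] at e
    exact_mod_cast e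
  have hft : ∀ k, fInd q (t := t) μ w k t = 0 := by
    intro k
    simp only [fInd, indFun]
    rw [Finset.sum_eq_zero fun x _ => ?_, mul_zero]
    by_cases hm : x⁻¹ * t * x ∈ bigTorus t y
    · rw [Char.extendByZero_mem _ _ hm]
      have e2 : (x⁻¹ * t * x) ^ ((q + 1) / 4 + 1) = 1 := by
        obtain ⟨j, hj⟩ := E.torData.odd_a
        rw [hj, show 2 * j + 1 + 1 = 2 * (j + 1) by ring, pow_mul, pow_two,
          show x⁻¹ * t * x * (x⁻¹ * t * x) = x⁻¹ * (t * t) * x by group, h.tt, mul_one, inv_mul_cancel,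
          one_pow]
      simp only [fTor, e2, E.lc_one, sub_self, mul_zero]
    · exact Char.extendByZero_not_mem _ _ hm
  obtain ⟨A, B, hAB, hA1, hB1, hdAB, hz1⟩ := norm_two m1 deg hdegpos h12 (hone m1 (by
    rw [← heval m1 _ h1e, fInd_one E]))
  obtain ⟨C, D, hCD, hC2, hD2, hdCD, hz2⟩ := norm_two m2 deg hdegpos h22 (hone m2 (by
    rw [← heval m2 _ h2e, fInd_one E]))
  set yv : IrrCharacter G → ℂ := fun χ => (χ : G → ℂ) t with hyv
  have hyAB : yv A = yv B := by
    have e := heval m1 _ h1e t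
    rw [hft, Fintype.sum_eq_add A B hAB (fun i hi => by rw [hz1 i hi.1 hi.2, Int.cast_zero, zero_mul]),
      hA1, hB1] at e
    push_cast at e
    linear_combination -e
  have hyCD : yv C = yv D := by
    have e := heval m2 _ h2e t
    rw [hft, Fintype.sum_eq_add C D hCD (fun i hi => by rw [hz2 i hi.1 hi.2, Int.cast_zero, zero_mul]),
      hC2, hD2] at e
    push_cast at e
    linear_combination -e
  rw [Fintype.sum_eq_add A B hAB (fun i hi => by rw [hz1 i hi.1 hi.2, zero_mul]), hA1, hB1] at hm12 hm1d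
  rw [Fintype.sum_eq_add C D hCD (fun i hi => by rw [hz2 i hi.1 hi.2, zero_mul]), hC2, hD2] at hm2d
  -- the common constituent
  obtain ⟨X, Y, Z, ε, hε, hXY, hXZ, hYZ, hdY, hdZ, hyY, hyZ, hcY, hcZ⟩ :
      ∃ (X Y Z : IrrCharacter G) (ε : ℤ), (ε = 1 ∨ ε = -1) ∧ X ≠ Y ∧ X ≠ Z ∧ Y ≠ Z ∧ deg Y = deg X ∧
        deg Z = deg X ∧ yv Y = yv X ∧ yv Z = yv X ∧ ε * md Y = ε * md X + 2 ∧
        ε * md Z = ε * md X + 2 := by
    have hval : ∀ i, (i = C → m2 i = 1) ∧ (i = D → m2 i = -1) := fun i =>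
      ⟨fun e => e ▸ hC2, fun e => e ▸ hD2⟩
    by_cases h_AC : A = C
    · subst h_AC
      have hBD : B ≠ D := fun e => by
        rw [hC2, e, hD2] at hm12; omega
      exact ⟨A, B, D, 1, Or.inl rfl, hAB, hCD, hBD, hdAB.symm, hdCD.symm, hyAB.symm, hyCD.symm,
        by omega, by omega⟩
    · by_cases h_BD : B = D
      · subst h_BD
        exact ⟨B, A, C, -1, Or.inr rfl, hAB.symm, hCD.symm, h_AC, hdAB, hdCD, hyAB, hyCD,
          by omega, by omega⟩
      · exfalso
        by_cases h_AD : A = D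
        · rw [(hval A).2 h_AD] at hm12
          by_cases h_BC : B = C
          · rw [(hval B).1 h_BC] at hm12; omega
          · rw [hz2 B h_BC h_BD] at hm12; omega
        · rw [hz2 A h_AC h_AD] at hm12
          by_cases h_BC : B = C
          · rw [(hval B).1 h_BC] at hm12; omega
          · rw [hz2 B h_BC h_BD] at hm12; omega
  -- the fourth constituent
  set T : Finset (IrrCharacter G) := {X, Y, Z} with hT
  have hTsum : ∀ {M : Type} [AddCommMonoid M] (f : IrrCharacter G → M), ∑ i ∈ T, f i = f X + f Y + f Z := by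
    intro M _ f
    rw [hT, Finset.sum_insert (by simp [hXY, hXZ]), Finset.sum_pair hYZ, add_assoc]
  have hsplit : ∀ {M : Type} [AddCommMonoid M] (f : IrrCharacter G → M),
      ∑ i, f i = f X + f Y + f Z + ∑ i ∈ Finset.univ \ T, f i := by
    intro M _ f
    rw [← hTsum f, add_comm]
    exact (Finset.sum_sdiff (Finset.subset_univ T)).symm
  set c := ε * md X with hc
  have hsqε : ∀ v : ℤ, v ^ 2 = (ε * v) ^ 2 := fun v => by rcases hε with e | e <;> rw [e] <;> ring
  have hsum4 : c ^ 2 + (c + 2) ^ 2 + (c + 2) ^ 2 + ∑ i ∈ Finset.univ \ T, md i ^ 2 = 4 := by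
    rw [← hd4, hsplit fun i => md i ^ 2, hsqε (md X), hsqε (md Y), hsqε (md Z), hcY, hcZ]
  have hrest0 : 0 ≤ ∑ i ∈ Finset.univ \ T, md i ^ 2 := Finset.sum_nonneg fun i _ => sq_nonneg _
  have hc2 : c = -2 ∨ c = -1 := by
    have h1 : c ≤ 0 := by nlinarith
    have h1' : -2 ≤ c := by nlinarith
    rcases (show c = -2 ∨ c = -1 ∨ c = 0 by omega) with e | e | e
    · exact Or.inl e
    · exact Or.inr e
    · rw [e] at hsum4; linarith
  have hd1 := hone md (by
    rw [← heval md _ hde, delta_odd E R (one_pow _)])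
  rw [hsplit fun i => md i * (deg i : ℤ), hdY, hdZ] at hd1
  have hx := hdegpos X
  have hdX : md X = ε * c := by rw [hc]; rcases hε with e | e <;> rw [e] <;> ring
  have hdY' : md Y = ε * (c + 2) := by rw [← hcY]; rcases hε with e | e <;> rw [e] <;> ring
  have hdZ' : md Z = ε * (c + 2) := by rw [← hcZ]; rcases hε with e | e <;> rw [e] <;> ring
  rcases hc2 with e | e
  · have hzero : ∀ i ∈ Finset.univ \ T, md i = 0 := by
      intro i hi
      have := Finset.single_le_sum (f := fun i => md i ^ 2) (fun i _ => sq_nonneg _) hi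
      rw [e] at hsum4
      have : md i ^ 2 = 0 := le_antisymm (by
        show md i ^ 2 ≤ 0
        linarith) (sq_nonneg _)
      exact (sq_eq_zero_iff).1 this
    rw [Finset.sum_eq_zero (fun i hi => by rw [hzero i hi, zero_mul]), hdX, hdY', hdZ', e] at hd1
    rcases hε with e' | e' <;> rw [e'] at hd1 <;> omega
  have hrest : ∑ i ∈ Finset.univ \ T, md i ^ 2 = 1 := by rw [e] at hsum4; linarith
  obtain ⟨P, hP, hP0⟩ : ∃ P ∈ Finset.univ \ T, md P ≠ 0 := by
    by_contra hno
    push Not at hno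
    rw [Finset.sum_eq_zero fun i hi => by rw [hno i hi]; norm_num] at hrest
    omega
  have hothers : ∀ i ∈ Finset.univ \ T, i ≠ P → md i = 0 := by
    intro i hi hiP
    have h2 : md P ^ 2 + md i ^ 2 ≤ 1 := by
      rw [← hrest, ← Finset.sum_pair (f := fun i => md i ^ 2) hiP.symm]
      exact Finset.sum_le_sum_of_subset_of_nonneg (Finset.insert_subset hP (Finset.singleton_subset_iff.2 hi))
        fun _ _ _ => sq_nonneg _
    have : 0 < md P ^ 2 := by positivity
    exact sq_eq_zero_iff.1 (le_antisymm (by omega) (sq_nonneg _))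
  rw [Finset.sum_eq_single_of_mem P hP (fun i hi hne => by rw [hothers i hi hne, zero_mul]), hdX, hdY',
    hdZ', e] at hd1
  have hPsq : md P ^ 2 = 1 := by
    rw [Finset.sum_eq_single_of_mem P hP (fun i hi hne => by rw [hothers i hi hne]; norm_num)] at hrest
    exact hrest
  have hPε : md P = -ε ∧ deg P = deg X := by
    have hxP := hdegpos P
    rcases sq_eq_one_iff.1 hPsq with h1 | h1 <;> rcases hε with h2 | h2 <;>
      rw [h1, h2] at hd1 <;> constructor <;> omega
  obtain ⟨hPm, hPd⟩ := hPε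
  -- the two column relations
  have hsumd : ∀ f : IrrCharacter G → ℂ, f Y = f X → f Z = f X →
      ∑ i, (md i : ℂ) * f i = (ε : ℂ) * (f X - f P) := by
    intro f h1 h2
    rw [hsplit fun i => (md i : ℂ) * f i,
      Finset.sum_eq_single_of_mem P hP (fun i hi hne => by rw [hothers i hi hne, Int.cast_zero, zero_mul]),
      hdX, hdY', hdZ', hPm, e, h1, h2]
    push_cast; ring
  have hdt : (ε : ℂ) * (yv X - yv P) = 4 * ((q : ℂ) - 1) := by
    rw [← hsumd yv hyY hyZ, ← delta_t E R (μ := μ) (ψ := ψ), heval md _ hde t]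
  have hcnt := delta_inner_fibre E R hμ hμ0 (ψ := ψ)
  have hG0 : (Nat.card G : ℂ) ≠ 0 := Nat.cast_ne_zero.2 Nat.card_pos.ne'
  set Cc : ℂ := (Nat.card (centralizer ({t} : Set G)) : ℂ) with hCc
  have hC0 : Cc ≠ 0 := Nat.cast_ne_zero.2 Nat.card_pos.ne'
  have hcls : (Nat.card {g : G // IsConj t g} : ℂ) = (Nat.card G : ℂ) / Cc := by
    rw [eq_div_iff hC0, hCc, ← Nat.cast_mul, ClassCount.card_class_mul_card_centralizer]
  have hn : classInner (delta t y ψ μ) (nFun t) =
      (Nat.card G : ℂ) / Cc ^ 2 * ∑ χ : IrrCharacter G, (md χ : ℂ) * (yv χ * yv χ / (deg χ : ℂ)) := by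
    have hconj : ∀ g, conj (nFun t g) = nFun t g := fun g => by simp only [nFun, map_natCast]
    have hform : ∀ g, nFun t g = (Nat.card G : ℂ)⁻¹ * ∑ χ : IrrCharacter G,
        (χ : G → ℂ) 1 * ClassCount.omega (χ : G → ℂ) t * ClassCount.omega (χ : G → ℂ) t *
          conj ((χ : G → ℂ) g) := by
      intro g
      rw [eq_inv_mul_iff_mul_eq₀ hG0, nFun, ClassCount.card_mul_fibreCount]
      exact Finset.sum_congr rfl fun χ _ => by
        rw [Char.IsCharacter.apply_inv (Char.IsIrrCharacter.isCharacter χ.2)]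
    rw [classInner, Finset.sum_congr rfl fun g _ => by rw [hconj, hform g]]
    simp only [Finset.mul_sum]
    rw [Finset.sum_comm]
    refine Finset.sum_congr rfl fun χ _ => ?_
    rw [← hdc χ, classInner, Finset.mul_sum, Finset.sum_mul, Finset.mul_sum]
    refine Finset.sum_congr rfl fun g _ => ?_
    have hdeg0 : (deg χ : ℂ) ≠ 0 := Nat.cast_ne_zero.2 (hdegpos χ).ne'
    simp only [ClassCount.omega, hcls, hdeg, hyv]
    field_simp
  rw [hn, hsumd (fun χ => yv χ * yv χ / (deg χ : ℂ)) (by simp only [hyY, hdY]) (by simp only [hyZ, hdZ]),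
    hPd, hCc, card_cent_cast E] at hcnt
  have hq0 := nq E
  have hq1 := nq1 E
  have hqm : (q : ℂ) - 1 ≠ 0 := by
    rw [sub_ne_zero]; exact_mod_cast (show q ≠ 1 by have := h.le; omega)
  have hdX0 : (deg X : ℂ) ≠ 0 := Nat.cast_ne_zero.2 hx.ne'
  have hfac : (ε : ℂ) * (yv X * yv X / (deg X : ℂ) - yv P * yv P / (deg X : ℂ)) =
      4 * ((q : ℂ) - 1) * (yv X + yv P) / (deg X : ℂ) := by
    rw [← hdt]; ring
  rw [hfac] at hcnt
  field_simp at hcnt
  obtain ⟨m, hm3, hm⟩ := h.card_three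
  rw [hm, Nat.cast_mul] at hcnt
  have hkey : ((2 * q ^ 2 * ((q + 1) * (q - 1)) * deg X : ℕ) : ℂ) = (m : ℂ) * (yv X + yv P) := by
    rw [Nat.cast_mul, Nat.cast_mul, Nat.cast_mul, Nat.cast_mul, Nat.cast_pow,
      Nat.cast_sub (show 1 ≤ q by have := h.le; omega)]
    push_cast
    refine mul_left_cancel₀ (mul_ne_zero hq0 (by norm_num : (4 : ℂ) ≠ 0)) ?_
    linear_combination -hcnt
  have hint : IsIntegral ℤ (yv X + yv P) :=
    (Char.IsGeneralizedCharacter.isIntegral (Char.isGeneralizedCharacter_of_isCharacter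
      (Char.IsIrrCharacter.isCharacter X.2)) t).add
    (Char.IsGeneralizedCharacter.isIntegral (Char.isGeneralizedCharacter_of_isCharacter
      (Char.IsIrrCharacter.isCharacter P.2)) t)
  have hdvd := ClassCount.dvd_of_mul_isIntegral hint hkey
  obtain ⟨e3, he3⟩ := h.three_power
  have hcop : Nat.Coprime m (q ^ 2) := by
    rw [he3, ← pow_mul]
    exact Nat.Coprime.pow_right _ ((Nat.prime_three.coprime_iff_not_dvd.2 hm3).symm)
  obtain ⟨k, hk⟩ : m ∣ 2 * ((q + 1) * (q - 1)) * deg X := hcop.dvd_of_dvd_mul_left (by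
    rw [show q ^ 2 * (2 * ((q + 1) * (q - 1)) * deg X) = 2 * q ^ 2 * ((q + 1) * (q - 1)) * deg X by ring]
    exact hdvd)
  have hk0 : 1 ≤ k := by
    rcases Nat.eq_zero_or_pos k with e' | e'
    · subst e'
      have : 0 < 2 * ((q + 1) * (q - 1)) * deg X := by
        have := h.le
        have : 0 < q - 1 := by omega
        positivity
      omega
    · exact e'
  have hsumy : yv X + yv P = ((q ^ 2 * k : ℕ) : ℂ) := by
    have hm0 : (m : ℂ) ≠ 0 := Nat.cast_ne_zero.2 fun e' => by simp [e'] at hm3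
    apply mul_left_cancel₀ hm0
    rw [← hkey, ← Nat.cast_mul]
    congr 1
    calc 2 * q ^ 2 * ((q + 1) * (q - 1)) * deg X = q ^ 2 * (2 * ((q + 1) * (q - 1)) * deg X) := by ring
      _ = m * (q ^ 2 * k) := by rw [hk]; ring
  have hbound : Complex.normSq (yv X) + Complex.normSq (yv P) ≤
      (Nat.card (centralizer ({t} : Set G)) : ℝ) := by
    have hco := Char.column_orth t t
    rw [if_pos (IsConj.refl t)] at hco
    have hre : ∑ χ : IrrCharacter G, Complex.normSq (yv χ) =
        (Nat.card (centralizer ({t} : Set G)) : ℝ) := by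
      apply Complex.ofReal_injective
      push_cast
      rw [← hco]
      exact Finset.sum_congr rfl fun χ _ => (Complex.mul_conj _).symm
    have hXP : X ≠ P := fun e' => (Finset.mem_sdiff.1 hP).2 (e' ▸ by simp [T])
    rw [← hre, ← Finset.sum_pair (f := fun χ => Complex.normSq (yv χ)) hXP]
    exact Finset.sum_le_sum_of_subset_of_nonneg (Finset.subset_univ _) fun _ _ _ => Complex.normSq_nonneg _
  rw [h.card_cent] at hbound
  have h2 : Complex.normSq (yv X + yv P) ≤ 2 * (Complex.normSq (yv X) + Complex.normSq (yv P)) := by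
    simp only [Complex.normSq_apply, Complex.add_re, Complex.add_im]
    nlinarith [sq_nonneg ((yv X).re - (yv P).re), sq_nonneg ((yv X).im - (yv P).im)]
  rw [hsumy, Complex.normSq_natCast] at h2
  have h3 : (q ^ 2 * k) * (q ^ 2 * k) ≤ 2 * (q * ((q + 1) * (q - 1))) := by
    have h4 : ((q ^ 2 * k : ℕ) : ℝ) * ((q ^ 2 * k : ℕ) : ℝ) ≤ 2 * ((q * ((q + 1) * (q - 1)) : ℕ) : ℝ) := by
      linarith
    exact_mod_cast h4
  have h5 : q * q ^ 3 ≤ (q ^ 2 * k) * (q ^ 2 * k) := by
    calc q * q ^ 3 = q ^ 2 * 1 * (q ^ 2 * 1) := by ring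
      _ ≤ _ := by gcongr
  have h6 : (q + 1) * (q - 1) ≤ q * q := by
    rw [add_mul, one_mul]
    calc q * (q - 1) + (q - 1) ≤ q * (q - 1) + q := by omega
      _ = q * q := by
        rcases q with _ | q
        · rfl
        · simp; ring
  have h7 : 2 * (q * ((q + 1) * (q - 1))) ≤ 2 * q ^ 3 := by
    rw [show q ^ 3 = q * (q * q) by ring]; gcongr
  have h8 : 27 * q ^ 3 ≤ q * q ^ 3 := Nat.mul_le_mul_right _ h.le
  have : 0 < q ^ 3 := by have := h.le; positivity
  omega

/-- A group of Ree type has an element of order three inverted by an involution. -/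
theorem not_noInverted_of_isReeType [Finite G] (hG : Cfsg.IsReeType G) : ¬ NoInverted G := by
  obtain ⟨hs, hnc, t, K, n, hn, ht, hidx, hprod, F, _, _, hF, ⟨e⟩⟩ := hG
  intro hno
  refine Setup.false (t := t) (K := K) (q := 3 ^ (2 * n + 1))
    ⟨hs, ?_, ht, hidx, hprod, (kFacts hF hn).congr e, three_pow_mod_eight n, ?_, ⟨_, rfl⟩, hno⟩
  · by_contra hc
    push Not at hc
    exact hnc ⟨⟨hc⟩⟩
  · calc 27 = 3 ^ 3 := by norm_num
      _ ≤ 3 ^ (2 * n + 1) := Nat.pow_le_pow_right (by norm_num) (by omega)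

end Cfsg.Agent.ReeInverted
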